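import Cfsg.Agent.Geom.Tm20
import Cfsg.Agent.MatR.M
import Cfsg.Agent.Solv.Gaschutz

/-! Coordinates on a self-centralising group of order 16, and the recognition of `M₂₂` and `M₂₃`. -/

set_option maxRecDepth 100000
set_option synthInstance.maxSize 4000

namespace CF.Geom.Tm
open Subgroup CF.BG CF.Xs CF.Comp CF.Cod
open CF.MatR (Lin ap cl mk4 mw Mx ME LE2 LE3 WE2 WE3 AI eE wB Md Cx TS linE ap_lt xor_lt cl_mk4)
open CF.HS (env)
open scoped commutatorElement Pointwise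
set_option linter.unusedSectionVars false

universe u
variable {G : Type u} [Group G] [Finite G]
variable {A X Y S : Subgroup G} {el f : ℕ → G} {g k x y : G} {m n v w : ℕ} {L I : List ℕ}

scoped notation "Ac" => CF.MatR.A
scoped infixl:70 " ⋆ " => CF.MatR.mm

/-- coordinates -/
structure Co (A : Subgroup G) (el : ℕ → G) : Prop where
  lin : Lin el
  inj : ∀ x < 16, ∀ y < 16, el x = el y → x = y
  mem : ∀ x, x ∈ A ↔ ∃ v < 16, el v = x
  cA : 𝐂 A ≤ A
  ti : ∀ g, g * el 1 = el 1 * g → g ∈ 𝐍 A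

/-- the matrix is induced by an element -/
def Re (el : ℕ → G) (m : ℕ) : Prop := ∃ g, Ac el g m

theorem Re.mul (a : Re el m) (l : Lin el) (b : Re el n) : Re el (m ⋆ n) :=
  let ⟨_, a⟩ := a; let ⟨_, b⟩ := b; ⟨_, a.mul l b⟩

theorem Re.word (l : Lin el) {M : ℕ → ℕ} (h : ∀ x ∈ I, Re el (M x)) {w : List ℕ} (hw : ∀ x ∈ w, x ∈ I) :
    Re el (mw M w) := by
  induction w with
  | nil => exact ⟨1, .one⟩
  | cons x w ih => exact (h x (hw x List.mem_cons_self)).mul l (ih fun y hy => hw y (List.mem_cons_of_mem _ hy))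

/-- the generators of the small stabiliser are induced -/
def R2 (el : ℕ → G) : Prop := ∀ x ∈ [5, 7, 9, 11, 12], Re el (ME x)

theorem R2.le (r : R2 el) (l : Lin el) (hm : m ∈ LE2) : Re el m := by
  rw [← (by decide +kernel : WE2.map (mw ME) = LE2), List.mem_map] at hm
  obtain ⟨w, hw, rfl⟩ := hm
  exact Re.word l r ((by decide : ∀ w ∈ WE2, ∀ x ∈ w, x ∈ [5, 7, 9, 11, 12]) w hw)

theorem R2.mx (r : R2 el) (a : Re el m) (b : Re el n) : ∀ x ∈ [19, 20, 5, 7, 9, 11, 12], Re el (Mx ME m n x) :=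
  List.forall_mem_cons.2 ⟨a, List.forall_mem_cons.2 ⟨b, fun x hx => by
    have := r x hx
    simp only [List.mem_cons, List.not_mem_nil, or_false] at hx
    rcases hx with rfl | rfl | rfl | rfl | rfl <;> exact this⟩⟩

def L2t : List ℕ := [37745, 37921, 38481, 33617, 33905, 34337, 45889, 46433, 46881, 41825, 42273, 42817, 53857,
  54321, 55121, 49745, 50273, 50993, 62065, 62769, 63041, 57921, 58737, 58929]
def L3t : List ℕ := [13473, 13713, 14001, 14209, 14817, 14545, 15345, 15041, 15729, 15425, 16225, 15953, 9457,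
  9681, 9921, 10209, 10593, 10305, 11089, 10865, 11697, 11409, 12161, 11937, 21169, 21473, 22177, 22513, 22833,
  22625, 23505, 23169, 23841, 23665, 24513, 24209, 17025, 17345, 18129, 18321, 18865, 18673, 19313, 18993, 19937,
  19617, 20257, 20065, 29345, 29649, 29873, 30145, 31041, 30769, 31633, 31457, 32129, 31985, 32593, 32289, 25233,
  25585, 25825, 25985, 27073, 26785, 27441, 27217, 27969, 27681, 28593, 28369, 33521, 33649, 33825, 34209, 34385,
  34769, 35809, 35425, 36145, 36017, 36673, 36545, 37569, 37713, 38001, 38369, 38433, 38833, 39745, 39633, 40433,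
  40033, 40865, 40497, 41697, 41793, 42177, 42337, 42625, 42785, 43505, 43089, 44433, 44081, 45009, 44657, 45777,
  45921, 46225, 46369, 46833, 46913, 47473, 47297, 48465, 48353, 48945, 48769, 49761, 50081, 50225, 50673, 50833,
  51025, 51489, 51425, 52097, 51777, 53105, 52913, 53841, 54145, 54369, 54705, 55009, 55089, 55713, 55409, 56097,
  56049, 57233, 56897, 57969, 58257, 58577, 58673, 58945, 59297, 59729, 59569, 60353, 59937, 60769, 60545, 62017,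
  62385, 62593, 62833, 63025, 63425, 63953, 63521, 64353, 64145, 64929, 64593]
def T42 : List (ℕ × List ℕ) := [(63297, [19, 11]), (42081, [19, 19]), (50209, [19]), (62753, [19, 5]), (62561,
  [19, 19]), (59169, [19, 7]), (19505, [9, 19, 19, 19]), (23601, [9, 19, 19, 19]), (19761, [9, 19, 19, 19]),
  (23857, [9, 19, 19, 19]), (51569, [9, 19, 19, 19]), (51313, [9, 19, 19, 19]), (23921, [9, 19, 19, 19]), (19569,
  [9, 19, 19, 19]), (51249, [9, 19, 19, 19]), (55345, [9, 19, 19, 19]), (51505, [9, 19, 19, 19]), (55601, [9, 19,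
  19, 19]), (30081, [5, 19, 9, 19, 5]), (13697, [5, 9, 19, 19, 5]), (38049, [9, 19, 19]), (54449, [19, 9, 19]),
  (54433, [19, 9, 19]), (38065, [9, 19, 19]), (29889, [19, 7, 12, 19]), (29825, [7, 12, 19, 19]), (13441, [19, 7,
  12, 19]), (13505, [7, 12, 19, 19]), (38305, [9, 19, 19]), (50593, [19, 9, 19]), (24033, [9, 19, 19, 19]),
  (19697, [9, 19, 19, 19]), (55457, [9, 19, 19, 19]), (64897, [19, 7, 19, 12]), (48513, [19, 12, 19, 7]), (55729,
  [9, 19, 19, 19]), (23969, [9, 19, 19, 19]), (19873, [9, 19, 19, 19]), (23729, [9, 19, 19, 19]), (19633, [9, 19,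
  19, 19]), (51617, [9, 19, 19, 19]), (51377, [9, 19, 19, 19])]

/-- the classification of the matrices that fix the first vector -/
noncomputable def k1 (m : ℕ) : Bool := force m fun m => (List.range 15).any (fun v => ap m (v + 1) == 0) ||
  LE2.any (m == ·) || L2t.any (m == ·) || LE3.any (m == ·) || L3t.any (m == ·) ||
    LE2.any fun x => force (x ⋆ m) fun n => T42.any (n == ·.1)

theorem K1 : ∀ a < 16, ∀ b < 16, ∀ c < 16, k1 (mk4 1 a b c) = true := by decide +kernel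

theorem K2 : ∀ p ∈ T42, (∀ x ∈ p.2, x ∈ [19, 20, 5, 7, 9, 11, 12]) ∧ mw (Mx ME p.1 33825) p.2 = 50209 := by
  decide +kernel

theorem K3 : (∀ m ∈ LE3, m ∈ LE2 ∨ ∃ y ∈ [33649, 33825, 34385, 41793, 42337, 50225], ∃ x ∈ LE2, x ⋆ (m ⋆ y) = 51233) ∧
    ∀ m ∈ L3t, m ∈ LE2 ∨ ∃ y ∈ [33649, 33825, 34385, 41793, 42337, 50225], ∃ x ∈ LE2, x ⋆ (m ⋆ y) = 51489 := by
  decide +kernel

namespace Co
variable (c : Co A el)
include c

theorem el_mem (hv : v < 16) : el v ∈ A := (c.mem _).2 ⟨v, hv, rfl⟩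

theorem abel : Abel A := fun x hx y hy => by
  obtain ⟨v, hv, rfl⟩ := (c.mem _).1 hx
  obtain ⟨w, hw, rfl⟩ := (c.mem _).1 hy
  exact c.lin.comm hw hv

theorem pi : PiGrp {2} A := pi_of_sq fun x hx => by
  obtain ⟨v, hv, rfl⟩ := (c.mem _).1 hx
  exact c.lin.sq hv

theorem norm (a : Ac el g m) : g ∈ 𝐍 A := mem_norm_of_cj_le (by
  rintro _ ⟨x, hx, rfl⟩
  obtain ⟨v, hv, rfl⟩ := (c.mem _).1 hx
  exact (c.mem _).2 ⟨_, ap_lt _ _, (a.ap c.lin hv).symm⟩)

theorem img (hg : g ∈ 𝐍 A) (hv : v < 16) : ∃ w < 16, g * el v * g⁻¹ = el w :=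
  ((c.mem _).1 (conj_mem_of_norm hg (c.el_mem hv))).imp fun _ k => ⟨k.1, k.2.symm⟩

theorem of_cent (hg : g * el 1 = el 1 * g) : ∃ a < 16, ∃ b < 16, ∃ d < 16, Ac el g (mk4 1 a b d) := by
  obtain ⟨a, ha, e1⟩ := c.img (c.ti g hg) (v := 2) (by decide)
  obtain ⟨b, hb, e2⟩ := c.img (c.ti g hg) (v := 4) (by decide)
  obtain ⟨d, hd, e3⟩ := c.img (c.ti g hg) (v := 8) (by decide)
  exact ⟨a, ha, b, hb, d, hd, .mk (by decide) ha hb hd (cj_of_comm hg) e1 e2 e3⟩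

theorem one (hx : x ∈ A) : Ac el x 33825 :=
  have k : ∀ {v}, v < 16 → x * el v * x⁻¹ = el v := fun hv => cj_of_comm (c.abel.mul_comm hx (c.el_mem hv))
  ⟨k (by decide), k (by decide), k (by decide), k (by decide)⟩

theorem eq_mod (a : Ac el g m) (b : Ac el k m) : k⁻¹ * g ∈ A := c.cA fun x hx => by
  obtain ⟨v, hv, rfl⟩ := (c.mem _).1 hx
  have := (a.ap c.lin hv).trans (b.ap c.lin hv).symm
  calc _ = k⁻¹ * (k * el v * k⁻¹) * g := by group
    _ = _ := by rw [← this]; group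

theorem mem_of (a : Ac el g 33825) : g ∈ A := by simpa using c.eq_mod a .one

theorem br (a : Ac el g m) (hv : v < 16) : ⁅el v, g⁆ = el (Nat.xor v (ap m v)) := by
  rw [c.lin.2 _ hv _ (ap_lt _ _), ← a.ap c.lin hv, br_def, inv_of_sq (c.lin.sq hv)]; group

theorem fix (a : Ac el g m) (hv : v < 16) : el v * g = g * el v ↔ ap m v = v := by
  rw [eq_comm, ← mul_inv_eq_iff_eq_mul, a.ap c.lin hv]
  exact ⟨c.inj _ (ap_lt _ _) _ hv, congrArg el⟩

theorem ne_one (hv : v < 16) (n : v ≠ 0) : el v ≠ 1 := fun e => n (c.inj _ hv _ (by decide) (e.trans c.lin.1.symm))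

theorem odd (a : Ac el g m) (p : PiElt {2} g) (e : mw (fun _ => m) (List.replicate 21 1) = 33825) : g ∈ A := by
  have k : ∀ i, Ac el (g ^ i) (mw (fun _ => m) (List.replicate i 1)) := fun i => by
    induction i with
    | zero => exact (pow_zero g).symm ▸ .one
    | succ i ih => exact (pow_succ' g i).symm ▸ a.mul c.lin ih
  refine zpowers_le.2 (c.mem_of ((k 21).cast e)) (mem_zpowers_pow_iff.2 (Nat.Coprime.symm (p.coprime ?_)))
  exact (piNat_compl_single Nat.prime_two).2 (by decide)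

theorem cls (r : R2 el) (n : ¬ Re el 50209) (hg : g * el 1 = el 1 * g) : ∃ m, Ac el g m ∧
    (m ∈ LE2 ∨ m ∈ L2t ∨ (m ∈ LE3 ∧ Re el 51233) ∨ (m ∈ L3t ∧ Re el 51489)) := by
  obtain ⟨a, ha, b, hb, d, hd, k⟩ := c.of_cent hg
  have e := K1 a ha b hb d hd
  generalize mk4 1 a b d = m at k e
  refine ⟨m, k, ?_⟩
  have y : ∀ {m y x}, Re el m → y ∈ [33649, 33825, 34385, 41793, 42337, 50225] → x ∈ LE2 → Re el (x ⋆ (m ⋆ y)) :=
    fun a hy hx => (r.le c.lin hx).mul c.lin (a.mul c.lin (r.le c.lin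
      ((by decide : ∀ y ∈ [33649, 33825, 34385, 41793, 42337, 50225], y ∈ LE2) _ hy)))
  simp only [k1, force_eq, Bool.or_eq_true, List.any_eq_true, beq_iff_eq, List.mem_range, exists_eq_right'] at e
  rcases e with ((((⟨v, hv, e⟩ | e) | e) | e) | e) | ⟨x, hx, p, hp, e⟩
  · have := k.ap c.lin (v := v + 1) (by omega)
    rw [e, c.lin.1, mul_inv_eq_one, mul_eq_left] at this
    exact absurd this (c.ne_one (by omega) (by omega))
  · exact .inl e
  · exact .inr (.inl e)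
  · exact (K3.1 m e).imp_right fun ⟨_, hy, _, hx, q⟩ => .inr (.inl ⟨e, q ▸ y ⟨g, k⟩ hy hx⟩)
  · exact (K3.2 m e).imp_right fun ⟨_, hy, _, hx, q⟩ => .inr (.inr ⟨e, q ▸ y ⟨g, k⟩ hy hx⟩)
  · exact absurd ((K2 p hp).2 ▸ Re.word c.lin (r.mx (e ▸ (r.le c.lin hx).mul c.lin ⟨g, k⟩) ⟨1, .one⟩) (K2 p hp).1) n

theorem tau : Co A fun v => el (ap 37921 v) where
  lin := ⟨c.lin.1, fun x hx y hy => (congrArg el ((by decide +kernel : ∀ x < 16, ∀ y < 16,
      ap 37921 (Nat.xor x y) = Nat.xor (ap 37921 x) (ap 37921 y)) x hx y hy)).trans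
    (c.lin.2 _ (ap_lt _ _) _ (ap_lt _ _))⟩
  inj x hx y hy e := (by decide +kernel : ∀ x < 16, ∀ y < 16, ap 37921 x = ap 37921 y → x = y) x hx y hy
    (c.inj _ (ap_lt _ _) _ (ap_lt _ _) e)
  mem x := (c.mem x).trans ⟨fun ⟨v, hv, e⟩ => ⟨_, ap_lt 37921 v, by
    rw [(by decide +kernel : ∀ v < 16, ap 37921 (ap 37921 v) = v) v hv, e]⟩, fun ⟨_, _, e⟩ => ⟨_, ap_lt _ _, e⟩⟩
  cA := c.cA
  ti := c.ti

end Co

/-- the data for the recognition -/
structure Fn (A Y : Subgroup G) (el f : ℕ → G) (L : List ℕ) : Prop extends Co A el where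
  act : AI el f ME [5, 7, 9]
  fY : ∀ i, f i ∈ Y
  pY : PiGrp {2} Y
  yz : Y ≤ 𝐂₁ (el 1)
  inf : A ⊓ Y = ⊥
  all : ∀ g, g * el 1 = el 1 * g → ∃ m ∈ L, Ac el g m

/-- the translation part of a letter -/
def PV (x : ℕ) : ℕ := if x = 1 then 4 else if x = 3 then 8 else 0

/-- the translation part of a word -/
noncomputable def vw (w : List ℕ) : ℕ :=
  List.rec (motive := fun _ => ℕ) 0 (fun x _ r => Nat.xor (PV x) (ap (ME x) r)) w

/-- coordinates in the split extension -/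
def SP (X : Subgroup G) (el : ℕ → G) (g : G) (v m : ℕ) : Prop := v < 16 ∧ ∃ x ∈ X, Ac el x m ∧ g = el v * x

theorem SP.word (l : Lin el) (h : ∀ x ∈ I, SP X el (evL f x) (PV x) (ME x)) {w : List ℕ} (hw : ∀ x ∈ w, x ∈ I) :
    SP X el (ev f w) (vw w) (mw ME w) := by
  induction w with
  | nil => exact ⟨by decide, 1, one_mem _, .one, by rw [mul_one]; exact l.1.symm⟩
  | cons x w ih =>
    obtain ⟨h1, a, ha, k1, e1⟩ := h x (hw x List.mem_cons_self)
    obtain ⟨h2, b, hb, k2, e2⟩ := ih fun y hy => hw y (List.mem_cons_of_mem _ hy)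
    refine ⟨xor_lt h1 (ap_lt _ _), _, mm ha hb, k1.mul l k2, ?_⟩
    rw [ev_cons, e1, e2, show vw (x :: w) = Nat.xor (PV x) (ap (ME x) (vw w)) from rfl, l.2 _ h1 _ (ap_lt _ _),
      ← k1.ap l h2]
    group

namespace Fn
variable (h : Fn A Y el f L)
include h

theorem nz : A ⊴ 𝐂₁ (el 1) :=
  ⟨fun _ hx => mem_cent1.2 (h.abel.mul_comm hx (h.el_mem (by decide))), fun g hg => h.ti g (mem_cent1.1 hg)⟩

theorem compl (hL : ∀ m ∈ L, m ∈ LE3) : ∃ X, SDProd A X (𝐂₁ (el 1)) := by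
  have nY := h.yz.trans h.nz.norm
  obtain ⟨S, hS, l⟩ := exists_syl_le (sup_le h.nz.le h.yz) (h.pi.sup h.pY (.inr nY))
  have e : S ≤ A ⊔ Y := fun g hg => by
    obtain ⟨m, hm, a⟩ := h.all g (mem_cent1.1 (hS.le hg))
    obtain ⟨w, -, k1, k2⟩ := (by decide +kernel : ∀ m ∈ LE3, ∃ w ∈ [[], [5], [7], [9], [5, 7], [5, 9], [7, 9], [9, 7]],
      (∀ x ∈ w, x ∈ [5, 7, 9]) ∧ force (m ⋆ mw ME w) (fun n => mw (fun _ => n) (List.replicate 21 1)) = 33825)
      m (hL m hm)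
    have y : ev f w ∈ A ⊔ Y := mem_sup_right (ev_mem h.fY w)
    exact (mul_mem_cancel_right y).1 (mem_sup_left (h.odd (a.mul h.lin (h.act.word h.lin k1))
      (hS.pi.elt (mm hg (l y))) (by rwa [force_eq] at k2)))
  rw [le_antisymm e l] at hS
  have := h.nz.normal
  have := (h.abel.subgroupOf (𝐂₁ (el 1))).comm
  obtain ⟨H, hH⟩ := CF.Solv.gaschutz_exists (A.subgroupOf (𝐂₁ (el 1))) ((A ⊔ Y).subgroupOf _)
    (A := Y.subgroupOf _) (by rw [card_subgroupOf' h.nz.le]; exact h.pi.coprime hS.idx)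
    (((comap_inf Y A (𝐂₁ (el 1)).subtype).symm.trans (congrArg _ (inf_comm A Y ▸ h.inf))).trans (bot_subgroupOf _))
    (by rw [← subgroupOf_sup h.nz.le h.yz])
  have := (SDProd.of_isComplement' hH).map (𝐂₁ (el 1)).subtype_injective
  rw [map_subgroupOf_eq_of_le h.nz.le, ← MonoidHom.range_eq_map, range_subtype] at this
  exact ⟨_, this⟩

variable (d : SDProd A X (𝐂₁ (el 1)))
include d

theorem ex (r : Re el m) (e : cl m 1 = 1 ∧ 33825 ⋆ m = m) : ∃ x ∈ X, Ac el x m := by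
  obtain ⟨g, a⟩ := r
  obtain ⟨k, hk, x, hx, rfl⟩ := d.exists_mul (mem_cent1.2 (mul_inv_eq_iff_eq_mul.1 (a.1.trans (by rw [e.1]))))
  exact ⟨x, hx, by simpa using ((h.one (im hk)).mul h.lin a).cast e.2⟩

theorem sp_one (s : SP X el g v 33825) : g = el v := by
  obtain ⟨-, x, hx, a, rfl⟩ := s
  rw [eq_one_of_mem_bot d.inf ⟨h.mem_of a, hx⟩, mul_one]

theorem cx {T : CT} [T.Grp] {R W : List (List ℕ)} {j : ℕ} (p : T.Pres R (gensW j)) {ι : El TS →* El T} (md : Md ι)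
    (nm : (linE.map ι).sub.Normal) {f : ℕ → G} (hf : ∀ x ∈ I, SP X el (evL f x) (PV x) (ME x))
    (k : (∀ r ∈ R, (∀ x ∈ r, x ∈ I) ∧ vw r = 0 ∧ mw ME r = 33825) ∧
      (∀ v < 16, ∃ u ∈ [wB [1, 5, 1, 5] [3, 7, 3, 7] [1] [3] v], (∀ x ∈ u, x ∈ I) ∧ lall (tb T.lm) u = true ∧
        ι (eE v) = El.w u ∧ vw u = v ∧ mw ME u = 33825) ∧
      W.map (mw ME) = L ∧ ∀ w ∈ W, (∀ x ∈ w, x ∈ I) ∧ lall (tb T.lm) w = true) : ∃ Φ : El T →* G, Cx ι Φ := by
  obtain ⟨k1, k2, k3, k4⟩ := k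
  have hr : ∀ r ∈ R, ev f r = 1 := fun r hr => by
    have := SP.word h.lin hf (k1 r hr).1
    rw [(k1 r hr).2.1, (k1 r hr).2.2] at this
    exact (h.sp_one d this).trans h.lin.1
  have e : ∀ v < 16, p.lift hr (ι (eE v)) = el v := fun v hv => by
    obtain ⟨u, -, a, b, c, e, q⟩ := k2 v hv
    have := SP.word h.lin hf a
    rw [e, q] at this
    rw [c, p.lift_w hr b, h.sp_one d this]
  refine ⟨_, md, MatR.inj_of md nm fun v hv q => h.inj _ hv _ (by decide) ((e v hv).symm.trans (q.trans h.lin.1.symm)),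
    fun g hg => ?_⟩
  rw [e 1 (by decide)] at hg
  obtain ⟨m, hm, a⟩ := h.all g hg
  rw [← k3, List.mem_map] at hm
  obtain ⟨w, hw, rfl⟩ := hm
  obtain ⟨hv, x, -, b, q⟩ := SP.word h.lin hf (k4 w hw).1
  obtain ⟨u, hu, q'⟩ := (h.mem _).1 (h.eq_mod a b)
  exact ⟨(ι (eE (vw w)))⁻¹ * El.w w * ι (eE u), by
    rw [map_mul, map_mul, map_inv, e _ hv, e _ hu, p.lift_w hr (k4 w hw).2, q, q']; group⟩

omit d in
theorem gens (hL : ∀ m ∈ L, m ∈ LE3) (r : R2 el) : ∃ X, SDProd A X (𝐂₁ (el 1)) ∧ ∃ a b c e, ∀ g,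
    ∀ x ∈ [1, 3, 5, 7, 9, 11, 12], SP X el (evL (env [el 4, el 8, a, b, c, e, g]) x) (PV x) (ME x) := by
  obtain ⟨X, d⟩ := h.compl hL
  obtain ⟨a, ha, a'⟩ := h.ex d (r 5 (by decide)) (by decide +kernel)
  obtain ⟨b, hb, b'⟩ := h.ex d (r 7 (by decide)) (by decide +kernel)
  obtain ⟨c, hc, c'⟩ := h.ex d (r 9 (by decide)) (by decide +kernel)
  obtain ⟨e, he, e'⟩ := h.ex d (r 11 (by decide)) (by decide +kernel)
  have z : ∀ x, x = el 0 * x := fun x => by rw [h.lin.1, one_mul]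
  refine ⟨X, d, a, b, c, e, fun g => ?_⟩
  simp only [List.forall_mem_cons, List.not_mem_nil, false_imp_iff, implies_true, and_true]
  exact ⟨⟨by decide, 1, one_mem _, .one, (mul_one _).symm⟩, ⟨by decide, 1, one_mem _, .one, (mul_one _).symm⟩,
    ⟨by decide, a, ha, a', z _⟩, ⟨by decide, b, hb, b', z _⟩, ⟨by decide, c, hc, c', z _⟩, ⟨by decide, e, he, e', z _⟩,
    ⟨by decide, _, im he, e'.inv h.lin (by decide +kernel), z _⟩⟩

end Fn

theorem Fn.m22 [IsSimpleGroup G] (h : Fn A Y el f LE2) (r : R2 el) : Cfsg.Spor.IsoM22 G := by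
  obtain ⟨X, d, a, b, c, e, k⟩ := h.gens (by decide +kernel) r
  obtain ⟨Φ, k⟩ := h.cx d (W := WE2) MatR.p2 MatR.md2 (MatR.normal_of MatR.p2 (by decide +kernel)) (k 1)
    (by decide +kernel)
  exact k.isoM22 (MatR.fus2 k).1 (MatR.fus2 k).2

theorem Fn.m23 [IsSimpleGroup G] (h : Fn A Y el f LE3) (r : R2 el) (r' : Re el 51233) : Cfsg.Spor.IsoM23 G := by
  obtain ⟨X, d, a, b, c, e, k⟩ := h.gens (fun _ k => k) r
  obtain ⟨g, hg, g'⟩ := h.ex d r' (by decide +kernel)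
  have z : ∀ x, x = el 0 * x := fun x => by rw [h.lin.1, one_mul]
  obtain ⟨Φ, k⟩ := h.cx d (W := WE3) (I := 13 :: 14 :: [1, 3, 5, 7, 9, 11, 12]) MatR.p3 MatR.md3
    (MatR.normal_of MatR.p3 (by decide +kernel)) (List.forall_mem_cons.2 ⟨⟨by decide, g, hg, g', z _⟩,
      List.forall_mem_cons.2 ⟨⟨by decide, _, im hg, g'.inv h.lin (by decide +kernel), z _⟩, k g⟩⟩) (by decide +kernel)
  exact k.isoM23

end CF.Geom.Tm
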