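import Cfsg.Agent.Geom.Tm16
import Cfsg.Agent.Geom.Tm21

/-! The case of two directions that do not span: `M₂₂` and `M₂₃`. -/

set_option maxRecDepth 100000
set_option synthInstance.maxSize 4000

namespace CF.Geom.Tm
open Subgroup CF.BG CF.Xs CF.Comp
open CF.MatR (Lin ap cl mk4 mw Mx ME LE2 LE3 AI ap_lt xor_lt)
open CF.HS (env)
open scoped commutatorElement Pointwise
set_option linter.unusedSectionVars false

universe u
variable {G : Type u} [Group G] [Finite G]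
variable {𝒞 : Set (Subgroup G)} {A B C D K V V₀ V₁ X Y S : Subgroup G} {el f : ℕ → G} {a b c d e g k s t u x y : G}
  {i j m n q v w : ℕ} {L L' : List ℕ}

/-- an involution or the identity -/
def pw (a : G) (i : ℕ) : G := if i % 2 = 1 then a else 1

/-- the element with the given coordinates -/
def e4 (a b c d : G) (v : ℕ) : G := pw a (v / 1) * pw b (v / 2) * pw c (v / 4) * pw d (v / 8)

theorem pw_mem (h : i % 2 = 1 → a ∈ K) : pw a i ∈ K := by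
  unfold pw; split_ifs with e
  exacts [h e, one_mem _]

theorem e4_mem (h1 : v / 1 % 2 = 1 → a ∈ K) (h2 : v / 2 % 2 = 1 → b ∈ K) (h3 : v / 4 % 2 = 1 → c ∈ K)
    (h4 : v / 8 % 2 = 1 → d ∈ K) : e4 a b c d v ∈ K := mm (mm (mm (pw_mem h1) (pw_mem h2)) (pw_mem h3)) (pw_mem h4)

theorem pw_xor (h : a * a = 1) (e : n % 2 = 1 ↔ ¬ (i % 2 = 1 ↔ j % 2 = 1)) : pw a n = pw a i * pw a j := by
  unfold pw; split_ifs <;> simp_all

theorem lin4 (sq : ∀ x ∈ A, x * x = 1) (ha : a ∈ A) (hb : b ∈ A) (hc : c ∈ A) (hd : d ∈ A) : Lin (e4 a b c d) := by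
  refine ⟨by simp [e4, pw], fun x hx y hy => ?_⟩
  have k := (by decide : ∀ x < 16, ∀ y < 16, ∀ k ∈ [1, 2, 4, 8],
    Nat.xor x y / k % 2 = 1 ↔ ¬ (x / k % 2 = 1 ↔ y / k % 2 = 1)) x hx y hy
  have p : ∀ {a i}, a ∈ A → pw a i ∈ A := fun h => pw_mem fun _ => h
  have o : ∀ {p q r s}, q ∈ A → r ∈ A → p * q * (r * s) = p * r * (q * s) := fun h1 h2 =>
    Commute.mul_mul_mul_comm (comm_of_sq sq h1 h2) _ _
  rw [e4, e4, e4, o (p hd) (mm (mm (p ha) (p hb)) (p hc)), o (p hc) (mm (p ha) (p hb)), o (p hb) (p ha),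
    pw_xor (sq a ha) (k 1 (by decide)), pw_xor (sq b hb) (k 2 (by decide)), pw_xor (sq c hc) (k 4 (by decide)),
    pw_xor (sq d hd) (k 8 (by decide))]

theorem lin_red (l : Lin el) (hv : v < 16) (hw : w < 16) (h : el v ∈ K) (k : el (Nat.xor v w) ∈ K) : el w ∈ K :=
  (mul_mem_cancel_left h).1 (l.2 v hv w hw ▸ k)

theorem cj_br' (h : x * x = 1) : g * x * g⁻¹ = x * ⁅x, g⁆ := by
  rw [br_def, inv_of_sq h, ← mul_assoc, ← mul_assoc, ← mul_assoc, h, one_mul]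

theorem Co.fx (c : Co A el) (H : TIC 𝒞) (s : Dl 𝒞 q A V D) {P : ℕ → Prop} (hV : ∀ v < 16, el v ∈ V ↔ P v) (hd : d ∈ D)
    (a : Ac el d m) : (∀ v < 16, ap m v = v) ∨ ∀ v < 16, ap m v = v → P v := by
  by_cases e : d = 1
  · exact .inl fun v hv => (c.fix a hv).1 (by simp [e])
  · exact .inr fun v hv k => (hV v hv).1 (s.fix H hd e (c.el_mem hv) ((c.fix a hv).2 k))

theorem Co.rr (c : Co A el) {P : ℕ → Prop} (hV : ∀ v < 16, el v ∈ V ↔ P v) (l : V ≤ A) (a : Ac el g m)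
    (k : ∀ v < 16, (P v → ap m v = v) ∧ P (Nat.xor v (ap m v))) : g ∈ RR A V := mem_RR.2 ⟨fun x hx => by
  obtain ⟨v, hv, rfl⟩ := (c.mem _).1 (l hx)
  exact (c.fix a hv).2 ((k v hv).1 ((hV v hv).1 hx)), fun x hx => by
  obtain ⟨v, hv, rfl⟩ := (c.mem _).1 hx
  exact br_inv_mem (c.br a hv ▸ (hV _ (xor_lt hv (ap_lt _ _))).2 (k v hv).2)⟩

theorem Co.lf (c : Co A el) (l : Lf A e g) (a : Ac el g m) (k : 33825 ⋆ m = m) : Ac el e m := by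
  obtain ⟨-, u, hu, rfl⟩ := l
  exact ((c.one hu).mul c.lin a).cast k

theorem St.liftRR (h : St 𝒞 m q) (tw : St.Two 𝒞 m q) (m4 : 4 ≤ m) (cA : 𝐂 A ≤ A) (s : Dl 𝒞 m A V B)
    (hg : g ∈ RR A V) : ∃ e, Lf A e g ∧ e * e = 1 := by
  have H := h.toTIC
  obtain ⟨e, l, eB⟩ := h.lift tw m4 s (RR_norm s.le hg) (cent_le_norm _ hg.1)
  have he : e ∈ RR A V := by
    obtain ⟨-, u, hu, rfl⟩ := l
    exact mm (mem_RR.2 ⟨fun a ha => h.comm s.hA (s.le ha) hu, fun x hx =>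
      (br_one.2 (h.comm s.hA hu hx)).symm ▸ one_mem _⟩) hg
  have he' : e ∈ RR B (B ⇂ A) := mem_RR.2 ⟨fun b hb => (br_one.1 (h.eq_one s.hA s.hD s.ne
    (cA (RR_comm (tic_abel H s.hA) s.le he (s.rr H hb))) (br_right hb.1 eB))).symm, fun y hy => ⟨br_right hy eB, by
      have : e ∈ 𝐍 (cj y A) := by
        by_cases k : A = cj y A
        · exact k ▸ l.norm
        · exact h.norm_delta tw m4 s (h.dl_of_Ln s ⟨y, mem_sup_right hy, rfl⟩ k) eB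
            fun x hx => br_inv_mem ((mem_RR.1 he).2 x hx)
      rw [← cj_norm, mem_cj, h.inv s.hD hy] at this
      simpa [br_def, mul_assoc, h.inv s.hD hy] using mm l.norm (im this)⟩⟩
  have k := RR_sq (fun _ => h.sq s.hA) s.le he
  exact ⟨e, l, h.cent_inf (h.adj s) (cA k) (mem_cent_sup.2 ⟨k, RR_sq (fun _ => h.sq s.hD) inf_le_left he'⟩)⟩

/-- the frame of the configuration -/
structure Fr (𝒞 : Set (Subgroup G)) (A V₀ V₁ B C : Subgroup G) (el : ℕ → G) (a b s c : G) : Prop extends Co A el where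
  cs : Cs 𝒞 4 4
  sB : Dl 𝒞 4 A V₀ B
  sC : Dl 𝒞 4 A V₁ C
  v0 : ∀ v < 16, el v ∈ V₀ ↔ v < 4
  v1 : ∀ v < 16, el v ∈ V₁ ↔ v ∈ [0, 1, 4, 5]
  ha : a ∈ B ⇂ A
  hb : b ∈ B ⇂ A
  hs : s ∈ C ⇂ A
  sN : s ∈ 𝐍 B
  aa : Ac el a 46369
  ab : Ac el b 42785
  as : Ac el s 50225
  ac : Ac el c 38001

theorem Cs.frame (h : Cs 𝒞 4 4) (p : Pn 𝒞 4 A V₀ V₁) (n : V₀ ⊔ V₁ ≠ A) :
    ∃ B C el a b s c, Fr 𝒞 A V₀ V₁ B C el a b s c := by
  have H := h.toTIC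
  obtain ⟨B₁, s₁⟩ := p.m0
  obtain ⟨C₁, s'⟩ := p.m1
  have sq := fun x => h.sq (x := x) s'.hA
  obtain ⟨c₁, hc, c1, cV⟩ := h.exists_c1 p s' (h.inf_ne p n)
  obtain ⟨B, v, y, sB, hv, hy, hy', e⟩ := h.exists_rho' s₁ s' hc c1 cV
  have sN := h.norm_of_comm sB.hD hy (fun e => hy' (e ▸ one_mem _)) e
  have nA : c₁ * v ∉ A := fun k => c1 (h.eq_one s'.hA s'.hD s'.ne ((mul_mem_cancel_right (s'.le hv)).1 k) hc.1)
  obtain ⟨C, sC, hs⟩ : ∃ C, Dl 𝒞 4 A V₁ C ∧ c₁ * v ∈ C ⇂ A := by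
    obtain ⟨x, hx, k⟩ := (h.cover' rfl (h.adj s') (mm (mem_NN_right hc) (mem_NN_left (s'.eq.ge hv)))).resolve_left nA
    exact ⟨_, s'.cj'' H (le_norm_self _ hx) ((tic_abel H s'.hA).le_norm s'.le hx), k,
      mm hc.2 (le_norm_self _ (s'.le hv))⟩
  generalize c₁ * v = s at sN nA hs
  have s1 : s ≠ 1 := fun k => nA (k ▸ one_mem _)
  have sV : s ∈ 𝐍 V₀ := sB.eq ▸ mem_norm_res hs.2 sN
  obtain ⟨z, hz, z1⟩ := exists_mem_ne_one (h.inf_ne p n)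
  have uz : ∀ {x}, x ∈ V₀ → x ∈ V₁ → x ≠ 1 → x = z := fun a b c => two_eq (h.r_two p n) ⟨a, b⟩ hz c z1
  obtain ⟨a, ha, a1, as⟩ := exists_fix1 (R := B ⇂ A) (fun _ k => h.sq sB.hD k.1) (mem_norm_res sN hs.2)
    (h.sq sC.hD hs.1) ((h.adj sB).symm H).nb
  have aV : a ∈ 𝐍 V₁ := sC.eq ▸ mem_norm_res ha.2 (h.norm_of_comm sC.hD hs.1 s1 as)
  obtain ⟨d, hd, nd⟩ := SetLike.exists_of_lt (lt_of_le_of_ne (sup_le sB.le sC.le) n)
  have h0 := sC.br H hs hd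
  have n0 := (h.br_U p n sC hs s1 sV hd).not.2 nd
  have fa : ∀ {x}, x ∈ A → ⁅x, a⁆ = 1 → x ∈ V₀ := fun hx e => sB.fix H ha.1 a1 hx (br_one.1 e)
  have e1 : ⁅⁅d, s⁆, a⁆ = z := uz (sB.br H ha (sC.le h0)) (br_left h0 aV) fun e => n0 (fa (sC.le h0) e)
  have hw := sB.br H ha hd
  have nw : z * ⁅d, a⁆ ∉ V₁ := fun k => nd (by
    by_cases o : ⁅d, a⁆ = 1
    · exact mem_sup_left (fa hd o)
    refine (mul_mem_cancel_left (mem_sup_right h0)).1 (mem_sup_left (fa (mm (sC.le h0) hd) ?_))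
    rw [br_mul, e1, uz hw ((mul_mem_cancel_left (H := V₁) hz.2).1 k) o, cj_of_comm (h.comm sB.hA (sC.le h0) (sB.le hz.1)),
      sq z (sB.le hz.1)])
  have l := lin4 sq (sB.le hz.1) (sB.le (mm hz.1 hw)) (sC.le h0) hd
  obtain ⟨q1, q2, q4, q8⟩ : e4 z (z * ⁅d, a⁆) ⁅d, s⁆ d 1 = z ∧ e4 z (z * ⁅d, a⁆) ⁅d, s⁆ d 2 = z * ⁅d, a⁆ ∧
    e4 z (z * ⁅d, a⁆) ⁅d, s⁆ d 4 = ⁅d, s⁆ ∧ e4 z (z * ⁅d, a⁆) ⁅d, s⁆ d 8 = d := by simp [e4, pw]
  have mA : ∀ v, e4 z (z * ⁅d, a⁆) ⁅d, s⁆ d v ∈ A := fun v =>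
    e4_mem (fun _ => sB.le hz.1) (fun _ => sB.le (mm hz.1 hw)) (fun _ => sC.le h0) fun _ => hd
  have mU : ∀ v < 8, e4 z (z * ⁅d, a⁆) ⁅d, s⁆ d v ∈ V₀ ⊔ V₁ := fun v hv => e4_mem (fun _ => mem_sup_left hz.1)
    (fun _ => mem_sup_left (mm hz.1 hw)) (fun _ => mem_sup_right h0) fun _ => by omega
  have m0 : ∀ v < 4, e4 z (z * ⁅d, a⁆) ⁅d, s⁆ d v ∈ V₀ := fun v hv =>
    e4_mem (fun _ => hz.1) (fun _ => mm hz.1 hw) (fun _ => by omega) fun _ => by omega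
  have m1 : ∀ v ∈ [0, 1, 4, 5], e4 z (z * ⁅d, a⁆) ⁅d, s⁆ d v ∈ V₁ := fun v hv => by
    have := (by decide : ∀ v ∈ [0, 1, 4, 5], ¬ v / 2 % 2 = 1 ∧ ¬ v / 8 % 2 = 1) v hv
    exact e4_mem (fun _ => hz.2) (fun k => absurd k this.1) (fun _ => h0) fun k => absurd k this.2
  generalize e4 z (z * ⁅d, a⁆) ⁅d, s⁆ d = el at l q1 q2 q4 q8 mA mU m0 m1
  have vU : ∀ v < 16, el v ∈ V₀ ⊔ V₁ → v < 8 := fun v hv k => by_contra fun o => nd (q8 ▸ lin_red l hv (by decide) k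
    (mU _ ((by decide : ∀ v < 16, ¬ v < 8 → Nat.xor v 8 < 8) v hv o)))
  have v0 : ∀ v < 16, el v ∈ V₀ ↔ v < 4 := fun v hv => ⟨fun k => by_contra fun o => n0 (q4 ▸ lin_red l hv (by decide) k
    (m0 _ ((by decide : ∀ v < 8, ¬ v < 4 → Nat.xor v 4 < 4) v (vU v hv (mem_sup_left k)) o))), m0 v⟩
  have v1 : ∀ v < 16, el v ∈ V₁ ↔ v ∈ [0, 1, 4, 5] := fun v hv => ⟨fun k => by_contra fun o => nw (q2 ▸ lin_red l hv
    (by decide) k (m1 _ ((by decide : ∀ v < 8, v ∉ [0, 1, 4, 5] → Nat.xor v 2 ∈ [0, 1, 4, 5]) v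
      (vU v hv (mem_sup_right k)) o))), m1 v⟩
  have inj : ∀ x < 16, ∀ y < 16, el x = el y → x = y := fun x hx y hy e => by
    have k : el (Nat.xor x y) = 1 := by rw [l.2 x hx y hy, e, l.sq hy]
    exact (by decide : ∀ x < 16, ∀ y < 16, Nat.xor x y < 4 → Nat.xor x y ∈ [0, 1, 4, 5] → Nat.xor x y ≠ 1 → x = y)
      x hx y hy ((v0 _ (xor_lt hx hy)).1 (k ▸ one_mem _)) ((v1 _ (xor_lt hx hy)).1 (k ▸ one_mem _))
      fun o => z1 (by rw [← q1, ← o, k])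
  have c : Co A el := ⟨l, inj, fun x => by
    rw [← eq_of_card_le (H := l.sub) (K := A) (by rintro _ ⟨v, -, rfl⟩; exact mA v) (by rw [h.card sB.hA, l.card inj])]; rfl,
    h.cent_le p n, fun g hg => h.norm_of_comm sB.hA (mA 1) (q1 ▸ z1) hg⟩
  have x : ∀ v w u, v < 16 ∧ w < 16 ∧ Nat.xor v w = u → el v * el w = el u := fun _ _ _ e =>
    e.2.2 ▸ (l.2 _ e.1 _ e.2.1).symm
  have cB : ∀ {b}, b ∈ B ⇂ A → ∀ v < 4, b * el v * b⁻¹ = el v := fun hb v hv =>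
    cj_of_comm (sB.cent H hb (m0 v hv)).symm
  have cC : ∀ {b}, b ∈ C ⇂ A → ∀ v ∈ [0, 1, 4, 5], b * el v * b⁻¹ = el v := fun hb v hv =>
    cj_of_comm (sC.cent H hb (m1 v hv)).symm
  have aa : Ac el a 46369 := .mk (a := 1) (b := 2) (c := 5) (d := 11) (by decide) (by decide) (by decide) (by decide)
    (cB ha 1 (by decide)) (cB ha 2 (by decide))
    (by rw [cj_br' (sq _ (mA 4)), ← x 4 1 5 (by decide), q4, e1, q1])
    (by rw [cj_br' (sq _ (mA 8)), ← x 8 3 11 (by decide),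
      ← x 1 2 3 (by decide), q8, q1, q2, sq_left (sq z (sB.le hz.1))])
  have as : Ac el s 50225 := .mk (a := 1) (b := 3) (c := 4) (d := 12) (by decide) (by decide) (by decide) (by decide)
    (cC hs 1 (by decide)) (by rw [cj_br' (sq _ (mA 2)), ← x 2 1 3 (by decide), q1,
      uz (br_left (m0 2 (by decide)) sV) (sC.br H hs (mA 2)) fun e => nw (q2 ▸ sC.fix H hs.1 s1 (mA 2) (br_one.1 e))])
    (cC hs 4 (by decide)) (by rw [cj_br' (sq _ (mA 8)), ← x 8 4 12 (by decide), q8, q4])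
  obtain ⟨b, hb, eb⟩ := h.surj sB hd (fun k => nd (mem_sup_left k)) (mm hz.1 hw)
  obtain ⟨u, hu, e⟩ := c.img hb.2 (v := 4) (by decide)
  have ab : Ac el b (mk4 1 2 u 10) := .mk (by decide) (by decide) hu (by decide) (cB hb 1 (by decide))
    (cB hb 2 (by decide)) e (by rw [cj_eq_br, ← x 2 8 10 (by decide), q8, eb, q2])
  obtain ⟨t, ht, et⟩ := h.surj sC hd (fun k => nd (mem_sup_right k)) hz.2
  obtain ⟨u', hu', e'⟩ := c.img ht.2 (v := 2) (by decide)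
  have ac : Ac el t (mk4 1 u' 4 9) := .mk (by decide) hu' (by decide) (by decide) (cC ht 1 (by decide)) e'
    (cC ht 4 (by decide)) (by rw [cj_eq_br, ← x 1 8 9 (by decide), q8, et, q1])
  exact ⟨B, C, el, a, b, s, t, c, h, sB, sC, v0, v1, ha, hb, hs, sN, aa, ab.cast ((by decide +kernel : ∀ u < 16,
      Nat.xor 4 (ap (mk4 1 2 u 10) 4) < 4 →
      ((∀ v < 16, ap (mk4 1 2 u 10) v = v) ∨ ∀ v < 16, ap (mk4 1 2 u 10) v = v → v < 4) →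
      ((∀ v < 16, ap (46369 ⋆ mk4 1 2 u 10) v = v) ∨ ∀ v < 16, ap (46369 ⋆ mk4 1 2 u 10) v = v → v < 4) →
      mk4 1 2 u 10 = 42785) u hu ((v0 _ (xor_lt (by decide) (ap_lt _ _))).1 (c.br ab (v := 4) (by decide) ▸ sB.br H hb (mA 4)))
      (c.fx H sB v0 hb.1 ab) (c.fx H sB v0 (mm ha.1 hb.1) (aa.mul l ab))), as,
    ac.cast ((by decide +kernel : ∀ u < 16, Nat.xor 2 (ap (mk4 1 u 4 9) 2) ∈ [0, 1, 4, 5] →
      ((∀ v < 16, ap (mk4 1 u 4 9) v = v) ∨ ∀ v < 16, ap (mk4 1 u 4 9) v = v → v ∈ [0, 1, 4, 5]) →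
      ((∀ v < 16, ap (50225 ⋆ mk4 1 u 4 9) v = v) ∨ ∀ v < 16, ap (50225 ⋆ mk4 1 u 4 9) v = v → v ∈ [0, 1, 4, 5]) →
      mk4 1 u 4 9 = 38001) u' hu' ((v1 _ (xor_lt (by decide) (ap_lt _ _))).1
        (c.br ac (v := 2) (by decide) ▸ sC.br H ht (mA 2))) (c.fx H sC v1 ht.1 ac) (c.fx H sC v1 (mm hs.1 ht.1) (as.mul l ac)))⟩

theorem Re.tau (r : Re el m) (l : Lin el) (e : m ⋆ 37921 = 37921 ⋆ n) : Re (fun v => el (ap 37921 v)) n :=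
  let ⟨g, a⟩ := r; ⟨g, a.re l (fun _ _ => rfl) e⟩

theorem Fn.tau (h : Fn A Y el f L) (hL : ∀ m ∈ L, ∃ n ∈ L', m ⋆ 37921 = 37921 ⋆ n) :
    Fn A Y (fun v => el (ap 37921 v)) f L' :=
  ⟨h.toCo.tau, fun x hx => (h.act x hx).re h.lin (fun _ _ => rfl)
    ((by decide +kernel : ∀ x ∈ [5, 7, 9], ME x ⋆ 37921 = 37921 ⋆ ME x) x hx), h.fY, h.pY, h.yz, h.inf, fun g hg => by
    obtain ⟨m, hm, a⟩ := h.all g hg
    obtain ⟨n, hn, e⟩ := hL m hm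
    exact ⟨n, hn, a.re h.lin (fun _ _ => rfl) e⟩⟩

/-- the elements whose matrices lie in the small stabiliser -/
def X2 (l : Lin el) : Subgroup G where
  carrier := {g | ∃ m ∈ LE2, Ac el g m}
  one_mem' := ⟨_, by decide, .one⟩
  mul_mem' := fun ⟨m, hm, a⟩ ⟨n, hn, b⟩ =>
    ⟨_, (by decide +kernel : ∀ m ∈ LE2, ∀ n ∈ LE2, m ⋆ n ∈ LE2) m hm n hn, a.mul l b⟩
  inv_mem' := fun ⟨m, hm, a⟩ =>
    let ⟨n, hn, e⟩ := (by decide +kernel : ∀ m ∈ LE2, ∃ n ∈ LE2, m ⋆ n = 33825) m hm; ⟨n, hn, a.inv l e⟩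

namespace Fr
variable (h : Fr 𝒞 A V₀ V₁ B C el a b s c)
include h

theorem r2 : R2 el := by
  have k : Ac el (c * b) 57969 := (h.ac.mul h.lin h.ab).cast (by decide +kernel)
  simp only [R2, List.forall_mem_cons, List.not_mem_nil, false_imp_iff, implies_true, and_true]
  exact ⟨⟨_, h.aa⟩, ⟨_, h.ab⟩, ⟨_, h.as⟩, ⟨_, k⟩, _, k.inv h.lin (by decide +kernel)⟩

theorem nφ : ¬ Re el 50209 := fun ⟨g, k⟩ => by
  have H := h.cs.toTIC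
  obtain ⟨e, l, ee⟩ := h.cs.liftRR (.inl rfl) le_rfl h.cA h.sC (h.rr h.v1 h.sC.le k (by decide +kernel))
  have k := h.lf l k (by decide +kernel)
  have cV : ∀ u ∈ V₀, u * e = e * u := fun u hu => by
    obtain ⟨v, hv, rfl⟩ := (h.mem _).1 (h.sB.le hu)
    exact (h.fix k hv).2 ((by decide +kernel : ∀ v < 4, ap 50209 v = v) v ((h.v0 v hv).1 hu))
  obtain ⟨F, v, sF, hv, -, k1, k2, k3, k4⟩ := h.cs.rho' (.inl rfl) le_rfl h.sB ee l.norm (cent_le_norm _ cV)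
  have := (h.cs.toSt.two sF k3 k2 k1 (h.el_mem (v := 8) (by decide)) (by
    rw [k4 _ (h.el_mem (by decide)), h.br k (by decide), h.v0 _ (xor_lt (by decide) (ap_lt _ _))]
    decide +kernel)).1 V₀ le_rfl fun u hu => br_one.1 (by rw [k4 u (h.sB.le hu), br_one.2 (cV u hu)])
  rw [h.sB.card] at this
  omega

theorem cos (hd : d ∈ B ⇂ A) (k : d⁻¹ * t ∈ A) (tt : t * t = 1) : ∃ D ∈ 𝒞, t ∈ D := by
  have H := h.cs.toTIC
  by_cases d1 : d = 1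
  · exact ⟨A, h.sB.hA, by simpa [d1] using k⟩
  obtain ⟨u, rfl⟩ : ∃ u, t = d * u := ⟨d⁻¹ * t, by group⟩
  rw [inv_mul_cancel_left] at k
  have e : u * d = d * u := by
    rw [← inv_eq_of_mul_eq_one_right tt, mul_inv_rev, H.inv h.sB.hA k, H.inv h.sB.hD hd.1]
  rcases h.cs.cover' rfl (h.cs.adj h.sB) (mm (mem_NN_right hd)
    (mem_NN_left (h.sB.eq.ge (h.sB.fix H hd.1 d1 k e)))) with o | ⟨x, -, o⟩
  exacts [⟨A, h.sB.hA, o⟩, ⟨_, H.cj x h.sB.hD, o⟩]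

theorem inv (ht : t ∈ X2 h.lin) (tt : t * t = 1) : ∃ D ∈ 𝒞, t ∈ D := by
  obtain ⟨m, hm, k⟩ := ht
  have e := (k.mul h.lin k).uniq (tt.symm ▸ MatR.A.one) h.inj (MatR.mm_lt _ _) (by decide : 33825 < 65536)
  obtain ⟨x, hx, y, -, e1, e2⟩ := (by decide +kernel : ∀ m ∈ LE2, m ⋆ m = 33825 → ∃ x ∈ LE2, ∃ y ∈ LE2, x ⋆ y = 33825 ∧
    (x ⋆ m ⋆ y = 33825 ∨ x ⋆ m ⋆ y = 46369 ∨ x ⋆ m ⋆ y = 42785)) m hm e
  obtain ⟨g, k'⟩ := h.r2.le h.lin hx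
  have o := (k'.mul h.lin k).mul h.lin (k'.inv h.lin e1)
  have q : g * t * g⁻¹ * (g * t * g⁻¹) = 1 := by rw [conj_mul, tt]; simp
  obtain ⟨D, hD, k⟩ : ∃ D ∈ 𝒞, g * t * g⁻¹ ∈ D := by
    rcases e2 with e2 | e2 | e2
    exacts [h.cos (one_mem _) (h.eq_mod (o.cast e2) .one) q, h.cos h.ha (h.eq_mod (o.cast e2) h.aa) q,
      h.cos h.hb (h.eq_mod (o.cast e2) h.ab) q]
  exact ⟨_, h.cs.cj g⁻¹ hD, mem_cj_inv.2 k⟩

theorem pY : PiGrp {2} (B ⇂ A ⊔ zpowers s) := (tic_pi h.cs.toTIC h.sB.hD).inf_left.sup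
  ((tic_pi h.cs.toTIC h.sC.hD).le (zpowers_le.2 h.hs.1)) (.inr (zpowers_le.2 (mem_norm_res h.sN h.hs.2)))

theorem nτ : ¬ Re el 37921 := fun ⟨g, k⟩ => by
  have H := h.cs.toTIC
  have r : Re el 37921 := ⟨g, k⟩
  obtain ⟨e, l, ee⟩ := h.cs.liftRR (.inl rfl) le_rfl h.cA h.sB (h.rr h.v0 h.sB.le k (by decide +kernel))
  have k := h.lf l k (by decide +kernel)
  have nA : e ∉ A := fun o => absurd ((h.fix k (v := 8) (by decide)).1 (h.abel.mul_comm (h.el_mem (by decide)) o))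
    (by decide +kernel)
  have e1 : e ≠ 1 := fun o => nA (o ▸ one_mem _)
  obtain ⟨S, hS, lS⟩ := exists_syl_le le_top (h.pi.sup h.pY (.inr (sup_le inf_le_right (zpowers_le.2 h.hs.2))))
  have cz : ∀ y ∈ S, y * el 1 = el 1 * y := fun y hy => by
    obtain ⟨x, hx, x1⟩ := exists_mem_ne_one (hS.pi.inf_cent_ne_bot h.pi
      (tic_norm H h.sB.hA hS.pi (le_sup_left.trans lS)) (h.cs.nb' h.sB.hA))
    obtain ⟨v, hv, rfl⟩ := (h.mem _).1 hx.1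
    obtain rfl := (by decide +kernel : ∀ v < 16, ap 46369 v = v → ap 50225 v = v → v ≠ 0 → v = 1) v hv
      ((h.fix h.aa hv).1 (hx.2 _ (lS (mem_sup_right (mem_sup_left h.ha)))).symm)
      ((h.fix h.as hv).1 (hx.2 _ (lS (mem_sup_right (mem_sup_right (mem_zpowers s))))).symm)
      fun o => x1 (o ▸ h.lin.1)
    exact hx.2 y hy
  have n : ∀ {m}, Re el m → mw (Mx ME m 37921) [5, 12, 19, 9, 20, 19, 11] ≠ 50209 := fun r' o =>
    h.nφ (o ▸ Re.word h.lin (h.r2.mx r' r) (by decide))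
  have cs : ∀ y ∈ S, y ∉ X2 h.lin → ∃ m ∈ L2t, Ac el y m := fun y hy o => by
    obtain ⟨m, k, o' | o' | o' | o'⟩ := h.cls h.r2 h.nφ (cz y hy)
    exacts [absurd ⟨m, o', k⟩ o, ⟨m, o', k⟩, absurd (by decide +kernel) (n o'.2), absurd (by decide +kernel) (n o'.2)]
  obtain ⟨x, hx⟩ := ZD.thompson h.cs.ns.index_ne hS (X := X2 h.lin) (relIndex_dvd_two_iff.2 (by
    by_cases o : ∃ u ∈ S, u ∉ X2 h.lin
    · obtain ⟨u, hu, o⟩ := o
      obtain ⟨m, hm, k⟩ := cs u hu o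
      refine ⟨u, hu, fun y hy => or_iff_not_imp_right.2 fun o' => ?_⟩
      obtain ⟨n, hn, k'⟩ := cs y hy o'
      exact ⟨_, (by decide +kernel : ∀ m ∈ L2t, ∀ n ∈ L2t, m ⋆ n ∈ LE2) n hn m hm, k'.mul h.lin k⟩
    · exact ⟨1, one_mem _, fun y hy => .inr (by_contra fun o' => o ⟨y, hy, o'⟩)⟩)) (z := e) ⟨e1, ee⟩
  obtain ⟨D, hD, o⟩ := h.inv hx (by rw [conj_mul, ee]; simp)
  have o := mem_cj_inv.2 o
  have ad := (adj_or H h.sB.hA (H.cj _ hD) o e1 l.norm).resolve_left fun q => nA (q ▸ o)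
  have f : ∀ v < 8, el v ∈ A ⇂ cj x⁻¹ D := fun v hv => ad.fix H o e1 (h.el_mem (by omega))
    ((h.fix k (by omega)).2 ((by decide +kernel : ∀ v < 8, ap 37921 v = v) v hv))
  have := h.sB.mb.eq (h.cs.dl_of_eq rfl ad).mb fun u hu => by
    obtain ⟨v, hv, rfl⟩ := (h.mem _).1 (h.sB.le hu)
    exact f v (by have := (h.v0 v hv).1 hu; omega)
  exact absurd ((h.v0 4 (by decide)).1 (this ▸ f 4 (by decide))) (by decide)

theorem fn (all : ∀ g, g * el 1 = el 1 * g → ∃ m ∈ L, Ac el g m) :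
    Fn A (B ⇂ A ⊔ zpowers s) el (env [1, 1, a, b, s]) L := by
  have H := h.cs.toTIC
  refine ⟨h.toCo, ?_, fun i => ?_, h.pY, sup_le (fun d hd => mem_cent1.2 (h.sB.cent H hd
    ((h.v0 1 (by decide)).2 (by decide))).symm) (zpowers_le.2 (mem_cent1.2 (h.sC.cent H h.hs
      ((h.v1 1 (by decide)).2 (by decide))).symm)), eq_bot_of_forall fun y hy => ?_, all⟩
  · exact .cons h.aa (.cons h.ab (.cons h.as fun _ k => absurd k List.not_mem_nil))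
  · rcases i with _ | _ | _ | _ | _ | i
    exacts [one_mem _, one_mem _, mem_sup_left h.ha, mem_sup_left h.hb, mem_sup_right (mem_zpowers s), one_mem _]
  obtain ⟨d, hd, t, ht, rfl⟩ := (mem_sup_norm' (zpowers_le.2 (mem_norm_res h.sN h.hs.2))).1 hy.2
  have e2 := h.el_mem (v := 2) (by decide)
  obtain rfl : t = 1 := by_contra fun t1 => absurd ((h.v1 2 (by decide)).1 (h.sC.fix H (zpowers_le.2 h.hs.1 ht) t1 e2
    (mul_left_cancel (a := d) (by rw [← mul_assoc, ← h.sB.cent H hd ((h.v0 2 (by decide)).2 (by decide)), mul_assoc,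
      h.abel.mul_comm e2 hy.1, mul_assoc])))) (by decide)
  exact H.eq_one h.sB.hA h.sB.hD h.sB.ne hy.1 (mm hd.1 (one_mem _))

theorem main : Cfsg.Spor.IsoM22 G ∨ Cfsg.Spor.IsoM23 G := by
  have := h.cs.ns.simple_top
  have k : ∀ g, g * el 1 = el 1 * g → ∃ m, Ac el g m ∧
      (m ∈ LE2 ∨ (m ∈ LE3 ∧ Re el 51233) ∨ (m ∈ L3t ∧ Re el 51489)) := fun g hg => by
    obtain ⟨m, k, o | o | o⟩ := h.cls h.r2 h.nφ hg
    · exact ⟨m, k, .inl o⟩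
    · obtain ⟨x, hx, e⟩ := (by decide +kernel : ∀ m ∈ L2t, ∃ x ∈ LE2, x ⋆ m = 37921) m o
      exact absurd (e ▸ (h.r2.le h.lin hx).mul h.lin ⟨g, k⟩) h.nτ
    · exact ⟨m, k, .inr o⟩
  by_cases r : Re el 51233
  · refine .inr ((h.fn fun g hg => ?_).m23 h.r2 r)
    obtain ⟨m, k, o | o | o⟩ := k g hg
    exacts [⟨m, (by decide +kernel : ∀ m ∈ LE2, m ∈ LE3) m o, k⟩, ⟨m, o.1, k⟩,
      absurd ((by decide +kernel : 51233 ⋆ (51489 ⋆ 51233) = 37921) ▸ r.mul h.lin (o.2.mul h.lin r)) h.nτ]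
  by_cases r' : Re el 51489
  · refine .inr (((h.fn (L := L3t) fun g hg => ?_).tau (by decide +kernel)).m23 (fun x hx => (h.r2 x hx).tau h.lin
      ((by decide +kernel : ∀ x ∈ [5, 7, 9, 11, 12], ME x ⋆ 37921 = 37921 ⋆ ME x) x hx))
      (r'.tau h.lin (by decide +kernel)))
    obtain ⟨m, k, o | o | o⟩ := k g hg
    exacts [⟨m, (by decide +kernel : ∀ m ∈ LE2, m ∈ L3t) m o, k⟩, absurd o.2 r, ⟨m, o.1, k⟩]
  · refine .inl ((h.fn fun g hg => ?_).m22 h.r2)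
    obtain ⟨m, k, o | o | o⟩ := k g hg
    exacts [⟨m, o, k⟩, absurd o.2 r, absurd o.2 r']

end Fr

theorem Cs.mathieu (h : Cs 𝒞 m q) (ca : ¬ CA 𝒞 m A) : Cfsg.Spor.IsoM22 G ∨ Cfsg.Spor.IsoM23 G := by
  obtain ⟨V₀, V₁, p, n⟩ := h.not_ca ca
  obtain ⟨rfl, rfl⟩ := h.m_four p n
  obtain ⟨_, _, _, _, _, _, _, k⟩ := h.frame p n
  exact k.main

end CF.Geom.Tm
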