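import Cfsg.Agent.Geom.Sm4
import Cfsg.Agent.ExA.E8a

/-! Checkers for eigenvalue sums in `E₈`. -/

set_option autoImplicit false

namespace CF.Geom.Sm

open CF.Chev CF.BN CF.ExA Cfsg.Lie Matrix Finset

/-- A function given by a table. -/
def gf (T off : ℕ) (n : ℤ) : ℤ := (Tab.dig T 16 n.toNat : ℤ) - off

/-- Sum of table values. -/
noncomputable def sumD (T : ℕ) (l : List ℕ) : ℕ :=
  List.rec 0 (fun x _ acc => Nat.add (Tab.dig T 16 x) acc) l

theorem sumD_eq (T off : ℕ) (l : List ℕ) :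
    (l.map fun x : ℕ => gf T off x).sum = sumD T l - off * l.length := by
  induction l with
  | nil => simp [sumD]
  | cons x l ih =>
    rw [List.map_cons, List.sum_cons, ih, show sumD T (x :: l) = Tab.dig T 16 x + sumD T l from rfl]
    simp [gf]; ring

/-- The list of weights. -/
noncomputable def wlk (m d : ℕ) (k : List ℕ → Bool) (n : ℕ) : ℕ → ℕ → List ℕ → Bool :=
  Nat.rec (fun _ _ acc => k acc) (fun _ ih j c acc => force j fun j => force c fun c =>
    cnd (Nat.beq (Nat.mod c 3) 0)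
      (ih (Nat.succ j) (Nat.div (Nat.mul c (Nat.sub d j)) (Nat.succ j)) acc)
      (force (Nat.mod (Nat.add (Nat.mul 2 j) (Nat.mul (Nat.pred m) d)) m) fun r =>
        ih (Nat.succ j) (Nat.div (Nat.mul c (Nat.sub d j)) (Nat.succ j)) (r :: acc))) n

theorem wlk_succ (m d : ℕ) (k : List ℕ → Bool) (n j c : ℕ) (acc : List ℕ) :
    wlk m d k (n + 1) j c acc = if Nat.beq (c % 3) 0 then
      wlk m d k n (j + 1) (c * (d - j) / (j + 1)) acc else
      wlk m d k n (j + 1) (c * (d - j) / (j + 1)) ((2 * j + (m - 1) * d) % m :: acc) := by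
  rw [← cnd_eq]
  unfold wlk
  simp only [force_eq]
  rfl

theorem wlk_spec {m d : ℕ} {k : List ℕ → Bool} (n : ℕ) : ∀ j acc, wlk m d k n j (d.choose j) acc →
    ∃ l, k l ∧ ∀ g : ℕ → ℤ, (l.map g).sum = (acc.map g).sum + ∑ i ∈ range n,
      if ¬ 3 ∣ d.choose (j + i) then g ((2 * (j + i) + (m - 1) * d) % m) else 0 := by
  induction n with
  | zero => exact fun j acc h => ⟨acc, h, by simp⟩
  | succ n ih =>
    intro j acc h
    have e : d.choose j * (d - j) / (j + 1) = d.choose (j + 1) := by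
      rw [← Nat.choose_succ_right_eq, Nat.mul_div_cancel _ j.succ_pos]
    have h' : (if d.choose j % 3 = 0 then wlk m d k n (j + 1) (d.choose j * (d - j) / (j + 1)) acc
        else wlk m d k n (j + 1) (d.choose j * (d - j) / (j + 1))
          ((2 * j + (m - 1) * d) % m :: acc)) = true := by
      rw [wlk_succ] at h
      simpa only [Nat.beq_eq] using h
    rw [e] at h'
    split_ifs at h' with h1
    all_goals
      obtain ⟨l, h2, h3⟩ := ih _ _ h'
      refine ⟨l, h2, fun g => ?_⟩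
      rw [h3, sum_range_succ']
      simp only [add_assoc, add_comm 1]
      simp [Nat.dvd_iff_mod_eq_zero, h1]
    ring

/-- The check on the side of `SL₂(q)`. -/
noncomputable def chkS (a b m off : ℕ) (Ts : List ℕ) : Bool :=
  allLt b fun d => force (Nat.mul 2 (Nat.add a d)) fun d => wlk m d (fun l =>
    force (Nat.mul off l.length) fun s => Ts.all fun T => Nat.ble s (sumD T l)) (Nat.succ d) 0 1 []

theorem of_chkS {a b m off : ℕ} {Ts : List ℕ} (h : chkS a b m off Ts) (hm : 0 < m) {T : ℕ}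
    (hT : T ∈ Ts) {d : ℕ} (h1 : 2 * a ≤ d) (h2 : d < 2 * (a + b)) (h3 : Even d) :
    0 ≤ ∑ j ∈ JJ 3 d, gf T off ((2 * j - d) % m) := by
  obtain ⟨d, rfl⟩ := h3.two_dvd
  have h4 := allLt_iff.1 h (d - a) (by omega)
  rw [force_eq, show Nat.mul 2 (Nat.add a (d - a)) = 2 * d by simp; omega] at h4
  obtain ⟨l, h5, h6⟩ := wlk_spec _ 0 [] (by simpa using h4)
  simp only [force_eq, List.all_eq_true, Nat.ble_eq, Nat.mul_eq] at h5
  have h7 := h6 fun x => gf T off x
  rw [sumD_eq] at h7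
  have h8 := h5 T hT
  rw [JJ, sum_filter]
  refine le_of_le_of_eq (b := (sumD T l : ℤ) - off * l.length) (by omega) (h7.trans ?_)
  simp only [List.map_nil, List.sum_nil, zero_add]
  refine sum_congr rfl fun j _ => ?_
  congr 2
  push_cast [Nat.cast_sub hm]
  rw [show (2 * j + (m - 1) * (2 * d) : ℤ) = 2 * j - 2 * d + m * (2 * d) by ring,
    Int.add_mul_emod_self_left]

/-- A vector given by a function. -/
def vv (u : ℕ → ℤ) : Fin 8 → ℤ := fun i => u i

/-- A function given by a list. -/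
def gl (l : List ℤ) (i : ℕ) : ℤ := l.getD i 0

/-- The value of a root. -/
def xv (m : ℕ) (u : ℕ → ℤ) (r : ℕ) : ℕ :=
  Int.toNat (Int.emod (sumLt 8 fun i => Int.mul (u i) (tabE8.car i r)) m)

theorem tabOf8 : TabOf cE8 tabE8 := tabOf certE8

theorem xv_eq {m : ℕ} (hm : 0 < m) (u : ℕ → ℤ) (r : Fin 240) :
    (xv m u r : ℤ) = pr cE8 (vv u) (cE8.vec r) % m := by
  rw [xv, sumLt_eq, pr_vec]
  simp only [tabOf8.car]
  exact Int.toNat_of_nonneg (Int.emod_nonneg _ (by omega))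

theorem xv_cast {m : ℕ} (hm : 0 < m) (u : ℕ → ℤ) (r : Fin 240) :
    (xv m u r : ZMod m) = pr cE8 (vv u) (cE8.vec r) := by
  rw [← Int.cast_natCast, xv_eq hm, ZMod.intCast_mod]

/-- Sum of table values over the roots. -/
noncomputable def ev (m T : ℕ) (P : List (ℕ × ℕ)) (a b : ℕ) : ℕ :=
  List.rec 0 (fun x _ acc =>
    Nat.add (Tab.dig T 16 (Nat.mod (Nat.add (Nat.mul a x.1) (Nat.mul b x.2)) m)) acc) P

/-- `P` lists the values of the roots. -/
def Rep (m : ℕ) (P : List (ℕ × ℕ)) (u v : Fin 8 → ℤ) : Prop :=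
  ∃ F : ℕ → ℕ × ℕ, P = (List.range 240).map F ∧ ∀ r : Fin 240,
    ((F r).1 : ZMod m) = pr cE8 u (cE8.vec r) ∧ ((F r).2 : ZMod m) = pr cE8 v (cE8.vec r)

theorem ev_eq (m T : ℕ) (P : List (ℕ × ℕ)) (a b : ℕ) :
    ev m T P a b = sumD T (P.map fun x => (a * x.1 + b * x.2) % m) := by
  induction P with
  | nil => rfl
  | cons x P ih => exact congrArg (Nat.add _) ih

theorem Rep.ES {m : ℕ} {P : List (ℕ × ℕ)} {u v : Fin 8 → ℤ} (h : Rep m P u v) (T off a b : ℕ) :
    ES cE8 m (gf T off) ((a : ℤ) • u + (b : ℤ) • v) =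
      (8 * Tab.dig T 16 0 + ev m T P a b : ℕ) - (248 * off : ℕ) := by
  obtain ⟨F, rfl, h⟩ := h
  have h1 := sumD_eq T off (((List.range 240).map F).map fun x => (a * x.1 + b * x.2) % m)
  rw [← ev_eq, List.map_map, List.map_map] at h1
  have h2 : ∑ r : Fin 240, gf T off (pr cE8 ((a : ℤ) • u + (b : ℤ) • v) (cE8.vec r) % m) =
      ∑ r ∈ range 240, gf T off ((a * (F r).1 + b * (F r).2) % m : ℕ) := by
    rw [sum_range]
    refine sum_congr rfl fun r _ => congrArg _ ?_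
    rw [Int.natCast_mod, ← ZMod.intCast_eq_intCast_iff']
    push_cast
    rw [(h r).1, (h r).2]
    simp [pr_vec, add_mul, sum_add_distrib, mul_sum, mul_assoc]
  rw [Sm.ES, h2]
  refine (congrArg _ h1).trans ?_
  rw [List.length_map, List.length_map, List.length_range, gf, Fintype.card_fin]
  push_cast [Int.toNat_zero]; ring

/-- Evaluate a list of pairs. -/
noncomputable def forceP (l : List (ℕ × ℕ)) : (List (ℕ × ℕ) → Bool) → Bool :=
  List.rec (fun k => k []) (fun x _ ih k => force x.1 fun a => force x.2 fun b =>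
    ih fun t => k ((a, b) :: t)) l

theorem forceP_eq (l : List (ℕ × ℕ)) (k : List (ℕ × ℕ) → Bool) : forceP l k = k l := by
  induction l generalizing k with
  | nil => rfl
  | cons x l ih =>
    show force x.1 (fun a => force x.2 fun b => forceP l fun t => k ((a, b) :: t)) = _
    rw [force_eq, force_eq]; exact ih _

/-- Values of the roots on two vectors. -/
def PP (m : ℕ) (u v : ℕ → ℤ) : List (ℕ × ℕ) := (List.range 240).map fun r => (xv m u r, xv m v r)

theorem rep_PP {m : ℕ} (hm : 0 < m) (u v : ℕ → ℤ) : Rep m (PP m u v) (vv u) (vv v) :=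
  ⟨_, rfl, fun r => ⟨xv_cast hm u r, xv_cast hm v r⟩⟩

/-- Some table gives a negative sum. -/
noncomputable def neg (m off : ℕ) (Ts : List ℕ) (P : List (ℕ × ℕ)) (a b : ℕ) : Bool :=
  force a fun a => force b fun b => Ts.any fun T =>
    Nat.blt (Nat.add (Nat.mul 8 (Tab.dig T 16 0)) (ev m T P a b)) (Nat.mul 248 off)

theorem of_neg {m off : ℕ} {Ts : List ℕ} {P : List (ℕ × ℕ)} {a b : ℕ} (h : neg m off Ts P a b)
    {u v : Fin 8 → ℤ} (hP : Rep m P u v) :
    ∃ T ∈ Ts, ES cE8 m (gf T off) ((a : ℤ) • u + (b : ℤ) • v) < 0 := by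
  simp only [neg, force_eq, List.any_eq_true, Nat.blt_eq, Nat.mul_eq, Nat.add_eq] at h
  obtain ⟨T, h1, h2⟩ := h
  exact ⟨T, h1, by rw [hP.ES]; omega⟩

/-- The action of a word. -/
def chkW (m : ℕ) (w : List (Fin 8)) (u v : ℕ → ℤ) : Bool :=
  allLt 8 fun i => (sumLt 8 (fun j => MwT tabE8 (w.map Fin.val) i j * u j) - v i) % m == 0

theorem of_chkW {m : ℕ} {w : List (Fin 8)} {u v : ℕ → ℤ} (h : chkW m w u v) :
    red m (Mw cE8 (cE8.wp w) *ᵥ vv u) = red m (vv v) := funext fun i => by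
  have := allLt_iff.1 h i i.2
  rw [beq_iff_eq, sumLt_eq] at this
  rw [red, red, ← sub_eq_zero, ← Int.cast_sub, ZMod.intCast_zmod_eq_zero_iff_dvd]
  simpa only [mulVec, dotProduct, tabOf8.Mw, vv] using Int.dvd_of_emod_eq_zero this

/-- The roots vanishing on a vector. -/
def chkJ (m : ℕ) (u : ℕ → ℤ) (J : ℕ → Bool) : Bool :=
  allLt 240 fun r => xv m u r != 0 || allLt 8 fun i => J i || tabE8.cov r i == 0

theorem of_chkJ {m : ℕ} (hm : 0 < m) {u : ℕ → ℤ} {J : ℕ → Bool} (h : chkJ m u J) (r : Fin 240)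
    (hr : (m : ℤ) ∣ pr cE8 (vv u) (cE8.vec r)) : ∀ i ∉ {i : Fin 8 | J i}, cE8.cov r i = 0 := by
  intro i hi
  have h1 := allLt_iff.1 h r r.2
  have h2 : xv m u r = 0 := by have := xv_eq hm u r; rw [Int.emod_eq_zero_of_dvd hr] at this; omega
  simp only [h2, bne_self_eq_false, Bool.false_or, allLt_iff, Bool.or_eq_true, beq_iff_eq] at h1
  rw [tabOf8.cov]
  exact (h1 i i.2).resolve_left hi

/-- The projection away from `J`. -/
def EJ (J : ℕ → Bool) : Matrix (Fin 8) (Fin 8) (ZMod 5) := diagonal fun i => if J i then 0 else 1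

theorem supp5 {K : Type*} [Field K] {z : Kˣ} (hz : orderOf z = 73) {x : ℕ → ℤ} {J : ℕ → Bool}
    (hJ : chkJ 73 x J) {w1 : List (Fin 8)}
    (h5 : Mz cE8 73 (cE8.wp w1) *ᵥ red 73 (vv x) = (3 : ℤ) • red 73 (vv x))
    {M N : Matrix (Fin 8) (Fin 8) (ZMod 5)}
    (hM : (of fun i j : Fin 8 => (MwT tabE8 (w1.map Fin.val) i j : ZMod 5)) = M)
    (hE : EJ J * M = EJ J * M * EJ J) (hN : N * (EJ J * M - 3 • EJ J) = EJ J)
    {w : Equiv.Perm (Fin 240)} (hw : w ∈ cE8.W) {y : Fin 8 → ℤ}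
    (h2 : Mz cE8 73 w *ᵥ red 73 (vv x) = (3 : ℤ) • red 73 (vv x))
    (h3 : Mz cE8 5 w *ᵥ red 5 y = (3 : ℤ) • red 5 y) (i : Fin 8) (hi : ¬ J i) : red 5 y i = 0 := by
  have h4 := cE8.wp_mem_W w1
  have h6 := Wt_supp hz (by decide) (of_chkJ (by decide) hJ) (mul_mem (inv_mem h4) hw) (by
    rw [Mz_mul (inv_mem h4) hw, ← mulVec_mulVec, h2, ← h5, Mz_inv h4]) y
  have h7 : Mz cE8 5 (cE8.wp w1) = M := by
    rw [← hM]; ext i j; simp [Mz, tabOf8.Mw]
  have h8 : EJ J *ᵥ red 5 (Mw cE8 ((cE8.wp w1)⁻¹ * w) *ᵥ y) = EJ J *ᵥ red 5 y := funext fun i => by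
    simp only [EJ, mulVec_diagonal]
    split_ifs with h
    · simp
    · rw [red, h6 i h]; rfl
  have h9 : M *ᵥ red 5 (Mw cE8 ((cE8.wp w1)⁻¹ * w) *ᵥ y) = (3 : ℤ) • red 5 y := by
    rw [← Mz_red, ← h7, mulVec_mulVec, ← Mz_mul h4 (mul_mem (inv_mem h4) hw), mul_inv_cancel_left, h3]
  have h10 : EJ J *ᵥ red 5 y = 0 := by
    rw [← hN, ← mulVec_mulVec, sub_mulVec, hE, ← mulVec_mulVec, ← h8, mulVec_mulVec, ← hE,
      ← mulVec_mulVec, h9, mulVec_smul, smul_mulVec]
    simp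
  simpa [EJ, mulVec_diagonal, hi] using congrFun h10 i

end CF.Geom.Sm
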