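/-
Overgroups of subfield subgroups of the classical groups: point stabilisers.
-/
import Cfsg.Agent.Geom.Rat

set_option autoImplicit false
set_option linter.unusedSectionVars false

namespace CF.Geom

open Module

variable {F V : Type*} [Field F] [AddCommGroup V] [Module F V] {ι : Type} [Fintype ι]
  {σ : F →+* F} {ε : V ≃ₗ[F] (ι → F)} {F₀ : Subfield F}

/-- A proper overgroup of the subfield subgroup. -/
structure RCtx (B : V →ₛₗ[σ] V →ₗ[F] F) (Q : V → F) (G : Subgroup (V ≃ₗ[F] V))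
    (ε : V ≃ₗ[F] (ι → F)) (F₀ : Subfield F) (M : Subgroup (V ≃ₗ[F] V)) : Prop
    extends RForm B Q G ε F₀ where
  le : G ⊓ RG ε F₀ ≤ M
  le' : M ≤ G
  not_ge : ¬ G ≤ M
  TT : ∀ e, IsRat ε F₀ e → Q e = Q 0 → e ≠ 0 → (∀ w, B e w = 0 → RD B Q M e w) →
    Rad B Q e ⊤ ≤ M

/-- The radical at `e` contains the displacements `β w`, `w` rational. -/
def Gam (B : V →ₛₗ[σ] V →ₗ[F] F) (Q : V → F) (ε : V ≃ₗ[F] (ι → F)) (F₀ : Subfield F)
    (M : Subgroup (V ≃ₗ[F] V)) (e : V) (β : F) : Prop :=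
  ∀ w, IsRat ε F₀ w → B e w = 0 → RD B Q M e (β • w)

namespace RCtx

variable [Finite F] {B : V →ₛₗ[σ] V →ₗ[F] F} {Q : V → F} {G M : Subgroup (V ≃ₗ[F] V)}
  (h : RCtx B Q G ε F₀ M)
include h

theorem isom {g : V ≃ₗ[F] V} (hg : g ∈ M) : g ∈ Isom B Q := h.polar.le (h.le' hg)

theorem mapB {g : V ≃ₗ[F] V} (hg : g ∈ M) (x y : V) : B (g x) (g y) = B x y :=
  (mem_isom.1 (h.isom hg)).1 x y

theorem mapQ {g : V ≃ₗ[F] V} (hg : g ∈ M) (x : V) : Q (g x) = Q x :=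
  (mem_isom.1 (h.isom hg)).2 x

theorem mem_of_Rad {e : V} (q : Q e = Q 0) (h0 : e ≠ 0) {k : V ≃ₗ[F] V} (hk : k ∈ Rad B Q e ⊤)
    (hr : RatM ε F₀ k) : k ∈ M := h.le ⟨h.polar.rad_le e h0 q hk, hr.mem⟩

theorem ratRad {e w : V} (he : IsRat ε F₀ e) (q : Q e = Q 0) (h0 : e ≠ 0)
    (hw : IsRat ε F₀ w) (hew : B e w = 0) : ∃ k ∈ M, k ∈ Rad B Q e ⊤ ∧
      (∀ f, B e f = 1 → k f - f - w ∈ F ∙ e) ∧ ∀ x, B e x = 0 → B w x = 0 → k x = x :=
  let ⟨k, h1, h2, h3⟩ := h.exists_ratRad he q h0 hw hew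
  ⟨k, h.mem_of_Rad q h0 h1 h2, h1, h3⟩

theorem ratRad' {e w : V} (he : IsRat ε F₀ e) (q : Q e = Q 0) (h0 : e ≠ 0)
    (hw : IsRat ε F₀ w) (hew : B e w = 0) : ∃ k ∈ M, k ∈ Rad B Q e ⊤ ∧
      ∀ x, B e x = 0 → k x = x + B w x • e :=
  let ⟨k, h1, h2, h3⟩ := h.exists_ratRad' he q h0 hw hew
  ⟨k, h.mem_of_Rad q h0 h1 h2, h1, h3⟩

theorem rd_rat {e w : V} (he : IsRat ε F₀ e) (q : Q e = Q 0) (h0 : e ≠ 0)
    (hw : IsRat ε F₀ w) (hew : B e w = 0) : RD B Q M e w :=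
  let ⟨k, h1, h2, h3, _⟩ := h.ratRad he q h0 hw hew
  ⟨k, h1, h2, h3⟩

theorem DT {e y z : V} (he : IsRat ε F₀ e) (hy : RD B Q M e y) (hz : IsRat ε F₀ z)
    (q : Q z = Q 0) (hez : B e z = 0) (hz' : z ∉ F ∙ e) {ρ : F} (hρ : ρ ∈ F₀) :
    RD B Q M e ((ρ * B z y) • z) := by
  have z0 : z ≠ 0 := by rintro rfl; exact hz' (zero_mem _)
  have hze := h.witt.refl hez
  obtain ⟨a, a1, -, a2, a3, a4⟩ := h.sing e z he hz
  obtain ⟨b, b1, b2, b3⟩ := h.exists_dual (S := {e, z}) (by simp [he, hz]) a1 a4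
  have b4 : B b a ≠ 0 := fun e => by simp [h.witt.refl e] at b3
  have b5 := b2 z (by simp)
  obtain ⟨f, -, -, hf⟩ := h.exists_hyp hz q z0
  obtain ⟨k, k1, k2, k3, k4⟩ := h.ratRad hz q z0 a1 a3
  obtain ⟨l, hl⟩ := Rad_disp_eq k2 hf (k3 f hf) y
  have r1 := hy.move (h.isom k1) k1 (k4 e hze (h.witt.refl a2))
  obtain ⟨k', m1, m2, m3⟩ := h.ratRad' hz q z0
    (b1.smul (h.sig _ (div_mem hρ (h.ratB _ _ b1 a1)))) (by simp [b5])
  have r2 := r1.move (h.isom m1) m1 (by simp [m3 e hze, h.witt.refl (b2 e (by simp))])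
  convert r2 using 1
  rw [hl, add_assoc, add_sub_cancel_left, m3 _ (by simp [a3, h.witt.self_eq_zero q]),
    add_sub_cancel_left]
  simp only [map_smulₛₗ, map_add, LinearMap.smul_apply, h.invol, smul_eq_mul, RingHom.id_apply,
    h.witt.refl b5]
  congr 1
  field_simp; ring

theorem G1 {e z : V} (he : IsRat ε F₀ e) (hz : IsRat ε F₀ z) (q : Q z = Q 0) (hez : B e z = 0)
    (hz' : z ∉ F ∙ e) {β : F} (hR : RD B Q M e (β • z)) : Gam B Q ε F₀ M e β := by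
  have key : ∀ {z s : V}, RD B Q M e (β • z) → IsRat ε F₀ z → B e z = 0 → IsRat ε F₀ s →
      Q s = Q 0 → B e s = 0 → B z s ≠ 0 → ∀ ρ ∈ F₀, RD B Q M e ((ρ * β) • s) :=
    fun {z s} hR hz hez s1 s2 s3 s4 ρ hρ => by
      have s5 : B s z ≠ 0 := fun e => s4 (h.witt.refl e)
      convert h.DT he hR s1 s2 s3 (fun e => by
        obtain ⟨c, rfl⟩ := Submodule.mem_span_singleton.1 e
        simp [hez] at s5) (div_mem hρ (h.ratB _ _ s1 hz)) using 2
      simp only [map_smul, smul_eq_mul]; field_simp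
  obtain ⟨v, v1, v2, v3, v4⟩ := h.exists_partner (S := {e}) (by simpa using he) hz q hz'
    (by simpa using hez)
  have r1 := key hR hz hez v1 v2 (v3 e rfl) (by simp [v4]) 1 (one_mem _)
  rw [one_mul] at r1
  intro w hw hew
  simpa using h.span_sing he hz q hez hz' (P := fun a => ∀ ρ ∈ F₀, RD B Q M e ((ρ * β) • a))
    (fun a b ha hb ρ hρ => by rw [smul_add]; exact (ha ρ hρ).add (hb ρ hρ))
    (fun c hc a ha ρ hρ => by
      rw [smul_smul, mul_right_comm]; exact ha _ (mul_mem hρ hc))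
    (key r1 v1 (v3 e rfl) hz q hez fun e => by simp [h.witt.refl e] at v4)
    (fun s s1 s2 s3 s4 => key hR hz hez s1 s2 s3 s4) hw hew 1 (one_mem _)

theorem G2 {e e' : V} (he : IsRat ε F₀ e) (q : Q e = Q 0) (h0 : e ≠ 0) (he' : IsRat ε F₀ e')
    (q' : Q e' = Q 0) (h0' : e' ≠ 0) {β : F} (hG : Gam B Q ε F₀ M e β) :
    Gam B Q ε F₀ M e' β := fun w hw hew => by
  obtain ⟨k, k1, k2, a, a1, a0, k3⟩ := h.exists_ratM_map he q h0 he' q' h0'
  have kM : k ∈ M := h.le ⟨k1, k2.mem⟩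
  have s0 : σ a ≠ 0 := (map_ne_zero σ).2 a0
  have := (hG (k⁻¹ ((σ a)⁻¹ • w)) (k2.inv _ (hw.smul (inv_mem (h.sig _ a1)))) (by
    rw [← h.mapB kM, apply_inv_apply, k3]; simp [hew])).map (h.isom kM) kM
  rw [k3, map_smul, apply_inv_apply] at this
  convert this.smul_base a0 using 1
  rw [smul_comm, smul_inv_smul₀ s0]

theorem G3 {e : V} (he : IsRat ε F₀ e) (q : Q e = Q 0) (h0 : e ≠ 0) {γ δ : F}
    (h1 : Gam B Q ε F₀ M e γ) (h2 : Gam B Q ε F₀ M e δ) : Gam B Q ε F₀ M e (γ * δ) := by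
  obtain ⟨u, u1, u2, u3, u4⟩ := h.sing₁ he
  have u0 : u ≠ 0 := by rintro rfl; exact u4 (zero_mem _)
  obtain ⟨z, z1, z2, z3, z4, z5⟩ := h.sing e u he u1
  obtain ⟨k, k1, k2, k3⟩ := h.G2 he q h0 u1 u2 u0 h1 z z1 z4
  obtain ⟨w, w1, w2, w3⟩ := h.exists_dual (S := {e}) (by simpa using he) u1 u4
  obtain ⟨l, l1, l2⟩ := h.witt.Rad_perp_eq u2 k2 (k3 w w3) (h.witt.refl u3)
  have l3 : l = 0 := by
    simpa [h.witt.refl z3, show B w u ≠ 0 from fun e => by simp [h.witt.refl e] at w3] using l2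
  obtain ⟨c, hc⟩ := Rad_disp_eq k2 w3 (k3 w w3) (δ • w)
  have r1 := (h2 w w1 (w2 e rfl)).move (h.isom k1) k1 (by simp [l1, l3])
  obtain ⟨y, y1, y2, y3, y4⟩ := h.exists_partner (S := {e, u}) (by simp [he, u1]) z1 z2 z5
    (by simp [z3, z4])
  have y5 : B y z ≠ 0 := fun e => by simp [h.witt.refl e] at y4
  have y6 : y ∉ F ∙ e := fun e => by
    obtain ⟨c, rfl⟩ := Submodule.mem_span_singleton.1 e
    simp [z3] at y5
  refine h.G1 he y1 y2 (y3 e (by simp)) y6 ?_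
  convert h.DT he r1 y1 y2 (y3 e (by simp)) y6 (inv_mem (h.ratB _ _ y1 z1)) using 2
  simp [hc, w3, h.witt.refl (y3 u (by simp))]
  field_simp

theorem mem_of_gam {e : V} (he : IsRat ε F₀ e) (q : Q e = Q 0) (h0 : e ≠ 0) {β : F}
    (hβ : Gam B Q ε F₀ M e β) : β ∈ F₀ := by
  have := h.fd
  let R : Subring F :=
    { carrier := {β | Gam B Q ε F₀ M e β}
      mul_mem' := h.G3 he q h0
      one_mem' := fun w hw hew => by simpa using h.rd_rat he q h0 hw hew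
      add_mem' := fun h1 h2 w hw hew => by rw [add_smul]; exact (h1 w hw hew).add (h2 w hw hew)
      zero_mem' := fun w _ _ => by simpa using RD.zero
      neg_mem' := fun h1 w hw hew => by rw [neg_smul]; exact (h1 w hw hew).neg }
  let K : Subfield F := ⟨R, fun a ha => by
    by_cases h0 : a = 0
    · rw [h0, inv_zero]; exact R.zero_mem
    · exact MaxSub.inv_mem_of_finite R ha (mul_inv_cancel₀ h0) (inv_mul_cancel₀ h0)⟩
  refine ((h.max K fun c hc w hw hew => h.rd_rat he q h0 (hw.smul hc)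
    (by simp [hew])).resolve_right fun hK => h.not_ge ?_).le (show β ∈ K from hβ)
  have key : ∀ e', IsRat ε F₀ e' → Q e' = Q 0 → e' ≠ 0 → Rad B Q e' ⊤ ≤ M := fun e' h1 h2 h3 =>
    h.TT e' h1 h2 h3 fun w hw => by_contra fun hc => by
      let Z : Submodule F V := Submodule.span F {x | IsRat ε F₀ x ∧ B e' x = 0}
      have hZ : w ∈ Z := by_contra fun e => by
        obtain ⟨x, x1, x2, x3⟩ := exists_rat_notMem h.ratB (S := {e'}) (by simpa using h1)
          (by simpa using hw) e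
        exact x3 (Submodule.subset_span ⟨x1, x2 e' rfl⟩)
      have : ∀ c : F, RD B Q M e' (c • w) := by
        refine Submodule.span_induction (p := fun w _ => ∀ c : F, RD B Q M e' (c • w))
          (fun x hx c => h.G2 he q h0 h1 h2 h3 (hK.ge trivial : c ∈ K) x hx.1 hx.2)
          (fun c => by simpa using RD.zero)
          (fun x y _ _ hx hy c => by rw [smul_add]; exact (hx c).add (hy c))
          (fun a x _ hx c => by rw [smul_smul]; exact hx _) hZ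
      exact hc (by simpa using this 1)
  obtain ⟨f, f1, f2, f3⟩ := h.exists_hyp he q h0
  exact h.polar.le_of_pair q f2 (by simp [f3]) (key e he q h0)
    (key f f1 f2 (by rintro rfl; simp at f3))

theorem P0 {e y x : V} (he : IsRat ε F₀ e) (q : Q e = Q 0) (h0 : e ≠ 0) (hy : RD B Q M e y)
    (hx : IsRat ε F₀ x) (hex : B e x = 0) : B x y ∈ F₀ := by
  have := h.fd
  have key : ∀ s, IsRat ε F₀ s → Q s = Q 0 → B e s = 0 → B s y ∈ F₀ := fun s s1 s2 s3 => by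
    by_cases e1 : s ∈ F ∙ e
    · obtain ⟨c, rfl⟩ := Submodule.mem_span_singleton.1 e1
      simp [h.witt.RD_perp h0 q hy]
    · exact h.mem_of_gam he q h0 (h.G1 he s1 s2 s3 e1
        (by simpa using h.DT he hy s1 s2 s3 e1 (one_mem _)))
  obtain ⟨z, z1, z2, z3, z4⟩ := h.sing₁ he
  exact h.span_sing he z1 z2 z3 z4 (P := fun a => B a y ∈ F₀)
    (fun a b ha hb => by simpa using add_mem ha hb)
    (fun c hc a ha => by simpa using mul_mem (h.sig _ hc) ha) (key z z1 z2 z3)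
    (fun s s1 s2 s3 _ => key s s1 s2 s3) hx hex

theorem P1 {e : V} (he : IsRat ε F₀ e) (q : Q e = Q 0) (h0 : e ≠ 0) {k : V ≃ₗ[F] V} (hM : k ∈ M)
    (hk : k ∈ Rad B Q e ⊤) : RatM ε F₀ k := by
  obtain ⟨f, -, -, f3⟩ := h.exists_hyp he q h0
  obtain ⟨y, y1, y2⟩ := h.rat_mod he fun x hx hex =>
    h.P0 he q h0 (RD.of (w := k f - f) hM hk f3 (by simp)) hx hex
  obtain ⟨u, u1, u2, u3, u4, u5⟩ := h.sing e y he y1
  have u6 : u ∉ F ∙ e := fun e => u5 (Submodule.span_mono (by simp) e)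
  have u0 : u ≠ 0 := by rintro rfl; exact u6 (zero_mem _)
  have u7 : e ∉ F ∙ u := fun e1 => by
    obtain ⟨c, rfl⟩ := Submodule.mem_span_singleton.1 e1
    exact u6 ((Submodule.smul_mem_iff _ (left_ne_zero_of_smul h0)).1
      (Submodule.mem_span_singleton_self _))
  obtain ⟨l, l1, l2⟩ := h.witt.Rad_perp_eq q hk y2 u3
  have l3 : l = 0 := by
    simpa [u4, show B f e ≠ 0 from fun e => by simp [h.witt.refl e] at f3] using l2
  obtain ⟨g, g1, g2, g3⟩ := h.exists_dual (S := {u}) (by simpa using u1) he u7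
  obtain ⟨d, d1, d2, d3⟩ := h.exists_dual (S := {e}) (by simpa using he) u1 u6
  have r1 := (h.rd_rat u1 u2 u0 g1 (g2 u rfl)).conj (h.isom hM) hM (by simp [l1, l3])
  refine h.ratM_of_Rad he q hk g1 (h.rat_of fun x hx => ?_) (by simp [g3])
  have c1 := h.ratB _ _ u1 hx
  have e1 := h.P0 u1 u2 u0 r1 (hx.sub (d1.smul c1)) (by simp [d3])
  have e2 := add_mem (h.P0 he q h0 (RD.of (w := k g - g) hM hk g3 (by simp)) (d1.smul c1)
    (by simp [d2 e rfl])) (h.ratB _ _ (d1.smul c1) g1)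
  convert add_mem e1 e2 using 1
  simp; ring

theorem P2 {e : V} (he : IsRat ε F₀ e) (q : Q e = Q 0) (h0 : e ≠ 0) {k : V ≃ₗ[F] V} (hM : k ∈ M)
    {l : F} (hk : k e = l • e) :
    σ l * l ∈ F₀ ∧ ∀ v, IsRat ε F₀ v → IsRat ε F₀ (σ l • k v) := by
  have := h.fd
  have l0 : l ≠ 0 := by rintro rfl; exact h0 (by simpa using hk)
  have s0 : σ l ≠ 0 := (map_ne_zero σ).2 l0
  obtain ⟨f, f1, f2, f3⟩ := h.exists_hyp he q h0
  have f4 : B f e ≠ 0 := fun e => by simp [h.witt.refl e] at f3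
  have e0 := h.witt.self_eq_zero q
  have f0 := h.witt.self_eq_zero f2
  have e1 : B e (σ l • k f) = 1 := by
    have := h.mapB hM e f
    rw [hk, f3] at this
    simpa using this
  obtain ⟨k₁, r1, r2⟩ := h.witt.exists_Rad q (A := ⊤) trivial (y := f) (y' := σ l • k f)
    (by simp [f3]) (e1.trans f3.symm)
    ((h.witt.norm_smul_singular ((h.mapQ hM f).trans f2) _).trans f2.symm) trivial
  have ri := inv_mem r1
  have hi : k₁⁻¹ * k ∈ Isom B Q := mul_mem ri.1 (h.isom hM)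
  have a1 : (k₁⁻¹ * k) e = l • e := by rw [LinearEquiv.mul_apply, hk, map_smul, ri.2.1]
  have a2 : σ l • (k₁⁻¹ * k) f = f := by
    rw [LinearEquiv.mul_apply, ← map_smul, ← r2, inv_apply_apply]
  have a3 : ∀ w, IsRat ε F₀ w → B e w = 0 → B f w = 0 → IsRat ε F₀ (σ l • (k₁⁻¹ * k) w) :=
    fun w hw h1 h2 => by
      have b1 := (h.rd_rat he q h0 hw h1).map (h.isom hM) hM
      rw [hk] at b1
      have b2 := b1.smul_base l0
      obtain ⟨c, hc⟩ := Submodule.mem_span_singleton.1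
        (ri.2.2.1 _ (h.witt.RD_perp h0 q b2))
      have b3 : σ l • (k₁⁻¹ * k) w = σ l • k w + c • e := by
        rw [hc, LinearEquiv.mul_apply, ← map_smul]; abel
      refine h.rat_of fun x hx => ?_
      have c1 := h.ratB _ _ he hx
      have b4 := h.P0 he q h0 b2 (hx.sub (f1.smul c1)) (by simp [f3])
      have b5 : B f (σ l • (k₁⁻¹ * k) w) = 0 := by
        rw [← a2]; simp only [map_smulₛₗ, LinearMap.smul_apply, (mem_isom.1 hi).1]; simp [h2]
      have b6 : B (x - B e x • f) e = 0 := h.witt.refl (by simp [f3])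
      have b7 : ∀ y, B x y = B (x - B e x • f) y + σ (B e x) * B f y := fun y => by simp
      rw [b7, b5, b3, map_add, map_smul _ c, b6]
      simpa using b4
  have a4 : σ l * l ∈ F₀ := by
    obtain ⟨c, c1, -, c2, c3, c4⟩ := h.sing e f he f1
    obtain ⟨d, d1, d2, d3⟩ := h.exists_dual (S := {e, f}) (by simp [he, f1]) c1 c4
    have := h.ratB _ _ (a3 c c1 c2 c3) (a3 d d1 (d2 e (by simp)) (d2 f (by simp)))
    simp only [map_smulₛₗ, LinearMap.smul_apply, (mem_isom.1 hi).1, d3, h.invol] at this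
    simpa [mul_comm] using this
  have a5 : ∀ v, IsRat ε F₀ v → IsRat ε F₀ (σ l • (k₁⁻¹ * k) v) := fun v hv => by
    have c1 := h.ratB _ _ he hv
    have c2 := div_mem (h.ratB _ _ f1 hv) (h.ratB _ _ f1 he)
    have := ((a3 _ ((hv.sub (f1.smul c1)).sub (he.smul c2)) (by simp [f3, e0])
      (by simp [f0, f4])).add (f1.smul c1)).add (he.smul (mul_mem c2 a4))
    convert this using 1
    rw [map_sub, map_sub, map_smul, map_smul, a1]
    linear_combination (norm := module) (B e v) • a2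
  have m1 : k₁⁻¹ * k ∈ M :=
    h.le ⟨mul_mem (h.polar.rad_le e h0 q ri) (h.le' hM), mem_RG_of s0 a5⟩
  have m2 : k₁ ∈ M := by simpa using mul_mem hM (inv_mem m1)
  refine ⟨a4, fun v hv => ?_⟩
  have := h.P1 he q h0 m2 r1 _ (a5 v hv)
  rwa [map_smul, LinearEquiv.mul_apply, apply_inv_apply] at this

theorem ratM_of_fix {e : V} (he : IsRat ε F₀ e) (q : Q e = Q 0) (h0 : e ≠ 0) {k : V ≃ₗ[F] V}
    (hM : k ∈ M) (hk : k e = e) : RatM ε F₀ k := fun v hv => by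
  simpa using (h.P2 he q h0 hM (l := 1) (by simpa using hk)).2 v hv

theorem mem_RG_of_point {g : V ≃ₗ[F] V} (hg : g ∈ M) {z : V} (hz : IsRat ε F₀ z) (q : Q z = Q 0)
    (h0 : z ≠ 0) {c : F} (c0 : c ≠ 0) (hc : IsRat ε F₀ (c • g z)) : g ∈ RG ε F₀ := by
  obtain ⟨k, k1, k2, a, -, a0, k3⟩ := h.exists_ratM_map hc
    (h.witt.norm_smul_singular ((h.mapQ hg z).trans q) c) (by simp [c0, h0]) hz q h0
  refine (Subgroup.mul_mem_cancel_left _ k2.mem).1 (mem_RG_of ((map_ne_zero σ).2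
    (mul_ne_zero (inv_ne_zero c0) a0)) (h.P2 hz q h0 (mul_mem (h.le ⟨k1, k2.mem⟩) hg) ?_).2)
  rw [LinearEquiv.mul_apply, mul_smul, ← k3, map_smul, inv_smul_smul₀ c0]

end RCtx

end CF.Geom
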