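import Mathlib
import Cfsg.Agent.Geom.UElem
import Cfsg.Agent.PLocal.Qd2

/-!
# `Qd(p)` is not involved in a three dimensional unitary group of characteristic `p`
-/

set_option autoImplicit false

namespace CF.Geom.QdU

open Module Subgroup Cfsg

variable {F V : Type*} [Field F] [AddCommGroup V] [Module F V] [FiniteDimensional F V]

theorem comm_triv {N : Type*} [Group N] (ρ : N →* End F V) {A B : Submodule F V} (hA : ∀ g, ∀ v ∈ A, ρ g v ∈ A)
    (hB : ∀ g, ∀ v ∈ B, ρ g v ∈ B) (le : B ≤ A) (hd : finrank F A ≤ finrank F B + 1) :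
    ∀ g ∈ commutator N, ∀ v ∈ A, ρ g v - v ∈ B := by
  obtain ⟨a, ha⟩ := finrank_le_one_iff.1 (show finrank F (A ⧸ B.comap A.subtype) ≤ 1 by
    have := (B.comap A.subtype).finrank_quotient_add_finrank
    rw [(Submodule.comapSubtypeEquivOfLe le).finrank_eq] at this
    omega)
  obtain ⟨⟨a, aA⟩, rfl⟩ := Submodule.Quotient.mk_surjective _ a
  have k : ∀ v ∈ A, ∃ c : F, c • a - v ∈ B := fun v hv => (ha (Submodule.Quotient.mk ⟨v, hv⟩)).imp fun c hc => by
    rwa [← Submodule.Quotient.mk_smul, Submodule.Quotient.eq] at hc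
  choose c hc using fun g => k _ (hA g a aA)
  have k' : ∀ g, ∀ v ∈ A, ρ g v - c g • v ∈ B := fun g v hv => by
    obtain ⟨d, hd⟩ := k v hv
    convert B.sub_mem (B.sub_mem (B.smul_mem (c g) hd) (hB g _ hd)) (B.smul_mem d (hc g)) using 1
    simp only [map_sub, map_smul]; module
  let K : Subgroup N :=
    { carrier := {g | ∀ v ∈ A, ρ g v - v ∈ B}
      one_mem' := by simp
      mul_mem' := fun {g h} hg hh v hv => by simpa using B.add_mem (hB g _ (hh v hv)) (hg v hv)
      inv_mem' := fun {g} hg v hv => by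
        simpa [← Module.End.mul_apply, ← map_mul] using B.neg_mem (hg _ (hA g⁻¹ v hv)) }
  refine commutator_le (H₃ := K).2 fun g _ h _ v hv => ?_
  have e : v = ρ h (ρ g (ρ (g⁻¹ * h⁻¹) v)) := by simp [← Module.End.mul_apply, ← map_mul, ← mul_assoc]
  rw [commutatorElement_def, mul_assoc, map_mul, map_mul, Module.End.mul_apply, Module.End.mul_apply]
  nth_rewrite 2 [e]
  have := hA (g⁻¹ * h⁻¹) v hv
  generalize ρ (g⁻¹ * h⁻¹) v = w at this
  convert B.sub_mem (B.add_mem (hB g _ (k' h w this)) (B.smul_mem (c h) (k' g w this)))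
    (B.add_mem (hB h _ (k' g w this)) (B.smul_mem (c g) (k' h w this))) using 1
  simp only [map_sub, map_smul]; module

theorem not_involves [Fintype F] {σ : F →+* F} {B : V →ₛₗ[σ] V →ₗ[F] F} (hH : IsHerm B) (hB : B.Nondegenerate)
    (h3 : finrank F V = 3) (p : ℕ) [hp : Fact p.Prime] [CharP F p] : ¬ Involves (qd p) (SUG B) := fun h => by
  have := Module.finite_of_finite F (M := V)
  have : Finite (V ≃ₗ[F] V) := Finite.of_injective _ DFunLike.coe_injective
  obtain ⟨P, hP, P0, h⟩ := PLocal.exists_local_involves_qdOver (p := p) h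
  have W := hH.wittPair hB
  let C : Submodule F V :=
    { carrier := {v | ∀ g ∈ P, g.1 v = v}
      zero_mem' := by simp
      add_mem' := fun a b g hg => by rw [map_add, a g hg, b g hg]
      smul_mem' := fun c _ a g hg => by rw [map_smul, a g hg] }
  let ρ : normalizer (P : Set (SUG B)) →* End F V := LinearEquiv.automorphismGroup.toLinearMapMonoidHom.comp
    ((SUG B).subtype.comp (Subgroup.subtype _))
  have pp : ∀ {A : Submodule F V}, (∀ g, ∀ v ∈ A, ρ g v ∈ A) → ∀ g, ∀ v ∈ perp B A, ρ g v ∈ perp B A :=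
    fun hA g v hv => mem_perp.2 fun x hx => by
      have := (mem_SUG.1 g.1.2).1 (ρ g⁻¹ x) v
      rw [mem_perp.1 hv _ (hA _ _ hx)] at this
      simpa [ρ] using this
  have hC : ∀ g, ∀ v ∈ C, ρ g v ∈ C := fun g v hv x hx => by
    simpa [ρ] using congrArg g.1.1 (hv _ ((mem_normalizer_iff''.1 g.2 x).1 hx))
  have hU : ∀ g, ∀ v ∈ C ⊓ perp B C, ρ g v ∈ C ⊓ perp B C := fun g v hv => ⟨hC g v hv.1, pp hC g v hv.2⟩
  have U0 : 0 < finrank F ↥(C ⊓ perp B C) := by
    let S : SubMulAction P V := ⟨perp B C, fun g v hv => pp hC ⟨g.1, le_normalizer g.2⟩ v hv⟩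
    obtain ⟨b, hb, b0⟩ := hP.exists_fixed_point_of_prime_dvd_card_of_fixed_point S (by
      change p ∣ Nat.card (perp B C)
      rw [natCard_eq_pow_finrank (K := F), Nat.card_eq_fintype_card]
      refine dvd_pow ((CharP.cast_eq_zero_iff F p _).1 (Nat.cast_card_eq_zero F)) fun e => P0 (eq_bot_iff.2 fun g hg => ?_)
      have := W.finrank_perp C
      exact Subtype.ext (LinearEquiv.ext fun v => (Submodule.eq_top_of_finrank_eq (S := C) (by omega)).ge
        Submodule.mem_top g hg)) (a := ⟨0, Submodule.zero_mem _⟩) fun g => Subtype.ext (map_zero g.1.1)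
    exact finrank_pos_iff_exists_ne_zero.2 ⟨⟨b.1, fun g hg => congrArg Subtype.val (hb ⟨g, hg⟩), b.2⟩,
      fun e => b0 (Subtype.ext (congrArg Subtype.val e).symm)⟩
  set U := C ⊓ perp B C
  have le : U ≤ perp B U := inf_le_right.trans (perp_anti inf_le_left)
  have d1 := W.two_mul_finrank_le le
  have d2 := W.finrank_perp U
  have hN : IsPGroup p (commutator (normalizer (P : Set (SUG B)))) := fun ⟨g, hg⟩ => ⟨2, by
    have a1 := comm_triv ρ (A := ⊤) (by simp) (pp hU) le_top (by rw [finrank_top]; omega) g hg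
    have a2 := comm_triv ρ (pp hU) hU le (by omega) g hg
    have a3 := comm_triv ρ (B := ⊥) hU (by simp) bot_le (by omega) g hg
    have c : (ρ g - 1) ^ 3 = 0 := LinearMap.ext fun v => a3 _ (a2 _ (a1 v trivial))
    have : Nontrivial V := nontrivial_of_finrank_pos (R := F) (by omega)
    have : CharP (End F V) p := charP_of_injective_algebraMap' F p
    have := pow_eq_zero_of_le (n := p ^ 2) (by nlinarith [hp.out.two_le]) c
    rw [sub_pow_char_pow_of_commute _ _ (Commute.one_right _), one_pow, sub_eq_zero, ← map_pow] at this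
    exact Subtype.ext (Subtype.ext (Subtype.ext (LinearEquiv.toLinearMap_injective this)))⟩
  obtain ⟨K, f, hf⟩ := Transfer.involves_iff.1 (Transfer.involves_trans PLocal.involves_SL2_qdOver h)
  have := ((hN.comap_subtype (K := K)).to_le (H := commutator K) (by
    rw [← map_le_iff_le_comap, _root_.commutator_def, map_commutator]; exact commutator_mono le_top le_top)).map f
  rw [_root_.commutator_def, map_commutator, map_top_of_surjective f hf, ← _root_.commutator_def] at this
  obtain ⟨a, ha⟩ : ∃ a : Matrix.SpecialLinearGroup (Fin 2) (ZMod p), a.1 = !![1, 1; 0, 1] := ⟨⟨_, by simp⟩, rfl⟩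
  obtain ⟨b, hb⟩ : ∃ a : Matrix.SpecialLinearGroup (Fin 2) (ZMod p), a.1 = !![1, 0; 1, 1] := ⟨⟨_, by simp⟩, rfl⟩
  have := (Solv.le_pCore this).trans (PLocal.pCore_SL2_eq_bot p).le (commutator_mem_commutator (mem_top a) (mem_top b))
  simpa [ha, hb] using congrArg (fun m => m.1 0 0) (commutatorElement_eq_one_iff_mul_comm.1 this)

end CF.Geom.QdU
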