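import Cfsg.Agent.Classical.Wt

/-! Simple modules of `SL₂(q)` in the defining characteristic, I: the modules `L d`. -/

set_option autoImplicit false

namespace CF.Geom.Sm

open Module Polynomial Finset Matrix Submodule
open scoped MatrixGroups

section lin
variable {K V : Type*} [Field K] [AddCommGroup V] [Module K V]

theorem charpoly_quot [Infinite K] [FiniteDimensional K V] (A : End K V) (W : Submodule K V)
    (h : W ≤ W.comap A) : A.charpoly = (A.restrict h).charpoly * (W.mapQ W A h).charpoly := by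
  refine Polynomial.funext fun t => ?_
  have h' : W ≤ W.comap (algebraMap K (End K V) t - A) := fun v hv => by
    simpa using W.sub_mem (W.smul_mem t hv) (h hv)
  rw [eval_mul, LinearMap.eval_charpoly, LinearMap.eval_charpoly, LinearMap.eval_charpoly,
    LinearMap.det_eq_det_mul_det W _ h']
  congr 2
  ext; simp

theorem roots_prod' {J : Type*} [Fintype J] (l : J → K) :
    (∏ j, (X - C (l j))).roots = univ.val.map l := by
  rw [← roots_multiset_prod_X_sub_C (univ.val.map l), Multiset.map_map]; rfl

theorem roots_of_eigen [FiniteDimensional K V] {J : Type*} [Fintype J] (A : End K V) (b : J → V)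
    (hb : ⊤ ≤ span K (Set.range b)) (hc : Fintype.card J = finrank K V) (l : J → K)
    (h : ∀ j, A (b j) = l j • b j) : A.charpoly.roots = univ.val.map l := by
  classical
  let B := basisOfTopLeSpanOfCardEqFinrank b hb hc
  have hB : ∀ j, B j = b j := congrFun (coe_basisOfTopLeSpanOfCardEqFinrank b hb hc)
  have : LinearMap.toMatrix B B A = diagonal l := by
    ext i j
    rw [LinearMap.toMatrix_apply, hB, h, ← hB, map_smul, B.repr_self]
    by_cases e : i = j <;> simp [e, diagonal_apply, Finsupp.single_apply, eq_comm]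
  rw [← LinearMap.charpoly_toMatrix A B, this, charpoly_diagonal, roots_prod']

theorem vand0 {F : Type*} [Fintype F] {i : F → K} (hi : Function.Injective i) {d : ℕ}
    (hd : d < Fintype.card F) (c : ℕ → K) (h : ∀ t, ∑ j ∈ range (d + 1), i t ^ j * c j = 0) :
    ∀ j ≤ d, c j = 0 := by
  have h1 : ∑ j ∈ range (d + 1), monomial j (c j) = 0 := by
    refine eq_zero_of_natDegree_lt_card_of_eval_eq_zero _ hi (fun t => ?_)
      (lt_of_le_of_lt (natDegree_sum_le_of_forall_le _ _ fun j hj =>
        (natDegree_monomial_le _).trans (by simpa [Nat.lt_succ_iff] using hj)) hd)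
    simpa [eval_finsetSum, mul_comm] using h t
  intro j hj
  have := congrArg (coeff · j) h1
  simpa [coeff_monomial, Nat.lt_succ_iff, hj] using this

theorem vand {F : Type*} [Fintype F] {i : F → K} (hi : Function.Injective i) {d : ℕ}
    (hd : d < Fintype.card F) (W : Submodule K V) (v : ℕ → V)
    (h : ∀ t, ∑ j ∈ range (d + 1), i t ^ j • v j ∈ W) : ∀ j ≤ d, v j ∈ W := fun j hj =>
  (Subspace.forall_mem_dualAnnihilator_apply_eq_zero_iff W _).1 fun φ hφ =>
    vand0 hi hd (fun j => φ (v j)) (fun t => by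
      simpa using (mem_dualAnnihilator φ).1 hφ _ (h t)) j hj

end lin

variable {F K : Type*} [Field F] [Field K] (i : F →+* K)

/-- right translation -/
def Rr (K G : Type*) [Field K] [Group G] : Representation K G (G → K) where
  toFun h := LinearMap.funLeft K K (· * h)
  map_one' := by ext; simp
  map_mul' a b := by ext; simp [mul_assoc]

theorem Rr_apply {G : Type*} [Group G] (h : G) (φ : G → K) (g : G) : Rr K G h φ g = φ (g * h) := rfl

/-- linear forms in the bottom row -/
def lf (a b : K) : SL(2, F) → K := fun g => a * i (g 1 0) + b * i (g 1 1)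

theorem Rr_lf (h : SL(2, F)) (a b : K) (d : ℕ) : Rr K _ h (lf i a b ^ d) =
    lf i (a * i (h 0 0) + b * i (h 0 1)) (a * i (h 1 0) + b * i (h 1 1)) ^ d := by
  funext g
  have e : ∀ j, (g * h) 1 j = g 1 0 * h 0 j + g 1 1 * h 1 j := fun j => by
    show (g.1 * h.1) 1 j = _
    simp [mul_apply, Fin.sum_univ_two]
  simp only [Rr_apply, lf, Pi.pow_apply, e, map_add, map_mul]
  ring

/-- the module -/
def LL (d : ℕ) : Submodule K (SL(2, F) → K) := span K {φ | ∃ a b, φ = lf i a b ^ d}

theorem LL_inv (d : ℕ) (h : SL(2, F)) : LL i d ≤ (LL i d).comap (Rr K _ h) :=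
  span_le.2 (by rintro _ ⟨a, b, rfl⟩; exact subset_span ⟨_, _, Rr_lf i h a b d⟩)

/-- the index set of the weights -/
def JJ (p d : ℕ) : Finset ℕ := (range (d + 1)).filter fun j => ¬ p ∣ d.choose j

variable {i} [Fintype F] {p : ℕ} [CharP K p]

theorem mon_mem {d : ℕ} (hd : d < Fintype.card F) (W : Submodule K (SL(2, F) → K))
    {u v : SL(2, F) → K} (h : ∀ t, (i t • u + v) ^ d ∈ W) {j : ℕ} (hj : j ∈ JJ p d) :
    u ^ j * v ^ (d - j) ∈ W := by
  obtain ⟨h1, h2⟩ := mem_filter.1 hj
  have := vand i.injective hd W (fun j => (d.choose j : K) • (u ^ j * v ^ (d - j))) (fun t => by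
    convert h t using 1
    rw [add_pow]
    refine sum_congr rfl fun j _ => ?_
    funext g; simp; ring) j (by simpa [Nat.lt_succ_iff] using h1)
  exact (W.smul_mem_iff (mt (CharP.cast_eq_zero_iff K p _).1 h2)).1 this

omit [Fintype F] in
theorem pow_mem {d : ℕ} (W : Submodule K (SL(2, F) → K)) {u v : SL(2, F) → K}
    (h : ∀ j ∈ JJ p d, u ^ j * v ^ (d - j) ∈ W) (s t : K) : (s • u + t • v) ^ d ∈ W := by
  rw [add_pow]
  refine sum_mem fun j hj => ?_
  by_cases h2 : p ∣ d.choose j
  · have : (d.choose j : SL(2, F) → K) = 0 := by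
      funext g; simpa using (CharP.cast_eq_zero_iff K p _).2 h2
    simp [this]
  · convert W.smul_mem (s ^ j * t ^ (d - j) * d.choose j) (h j (mem_filter.2 ⟨hj, h2⟩)) using 1
    funext g; simp; ring

theorem LL_eq {d : ℕ} (hd : d < Fintype.card F) {a b a' b' : K} (h : a * b' - b * a' ≠ 0) :
    LL i d = span K (Set.range fun j : JJ p d => lf i a b ^ j.1 * lf i a' b' ^ (d - j.1)) := by
  refine le_antisymm (span_le.2 ?_) (span_le.2 ?_)
  · rintro _ ⟨x, y, rfl⟩
    have e : lf i x y = ((x * b' - y * a') / (a * b' - b * a')) • lf i a b +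
        ((y * a - x * b) / (a * b' - b * a')) • lf i a' b' := by
      funext g; simp only [lf, Pi.add_apply, Pi.smul_apply, smul_eq_mul]
      rw [div_mul_eq_mul_div, div_mul_eq_mul_div, ← add_div, eq_div_iff h]; ring
    rw [e]
    exact pow_mem (p := p) _ (fun j hj => subset_span (Set.mem_range_self (⟨j, hj⟩ : JJ p d))) _ _
  · rintro _ ⟨j, rfl⟩
    refine mon_mem (i := i) hd (LL i d) (fun t => subset_span ?_) j.2
    refine ⟨i t * a + a', i t * b + b', ?_⟩
    congr 1; funext g; simp only [lf, Pi.add_apply, Pi.smul_apply, smul_eq_mul]; ring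

/-- lower unitriangular matrices -/
def lo (t : F) : SL(2, F) := ⟨!![1, 0; t, 1], by simp [det_fin_two]⟩

theorem finrank_LL {d : ℕ} (hd : d < Fintype.card F) : finrank K (LL i d) = (JJ p d).card := by
  rw [LL_eq (p := p) hd (a := 1) (b := 0) (a' := 0) (b' := 1) (by simp), finrank_span_eq_card,
    Fintype.card_coe]
  classical
  refine Fintype.linearIndependent_iff.2 fun c hc j => ?_
  have := vand0 i.injective hd (fun j => if h : j ∈ JJ p d then c ⟨j, h⟩ else 0) (fun t => by
    have h1 := congrFun hc (lo t)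
    rw [Finset.sum_apply] at h1
    have e : ∀ j : JJ p d, (c j • (lf i 1 0 ^ j.1 * lf i 0 1 ^ (d - j.1))) (lo t) =
        i t ^ j.1 * c j := fun j => by
      rw [Pi.smul_apply, Pi.mul_apply, Pi.pow_apply, Pi.pow_apply]
      simp [lf, lo, mul_comm]
    simp only [e] at h1
    rw [← sum_subset (s₁ := JJ p d) (filter_subset _ _) (fun j _ hj => by simp [hj]),
      ← sum_coe_sort]
    simpa using h1) j (by simpa [Nat.lt_succ_iff] using (mem_filter.1 j.2).1)
  simpa using this

end CF.Geom.Sm
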