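import Cfsg.Agent.Geom.Sm1

/-! Simple modules of `SL₂(q)` in the defining characteristic, II: classification. -/

set_option autoImplicit false

namespace CF.Geom.Sm

open Module Polynomial Finset Matrix Submodule CF.Classical
open scoped MatrixGroups

variable {F K : Type*} [Field F] [Field K]

theorem sl_mul (g h : SL(2, F)) (a b : Fin 2) : (g * h) a b = g a 0 * h 0 b + g a 1 * h 1 b := by
  show (g.1 * h.1) a b = _
  simp [mul_apply, Fin.sum_univ_two]

theorem sl_ext {g h : SL(2, F)} (h1 : g 0 0 = h 0 0) (h2 : g 0 1 = h 0 1) (h3 : g 1 0 = h 1 0)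
    (h4 : g 1 1 = h 1 1) : g = h := by
  ext a b; fin_cases a <;> fin_cases b <;> assumption

theorem sl_det (g : SL(2, F)) : g 0 0 * g 1 1 - g 0 1 * g 1 0 = 1 := by
  rw [← det_fin_two]; exact g.2

/-- upper unitriangular matrices -/
def up (t : F) : SL(2, F) := ⟨!![1, t; 0, 1], by simp [det_fin_two]⟩

/-- diagonal matrices -/
def dg (a : Fˣ) : SL(2, F) := ⟨!![a, 0; 0, a⁻¹], by simp [det_fin_two]⟩

/-- the Weyl element -/
def ww (F : Type*) [Field F] : SL(2, F) := ⟨!![0, -1; 1, 0], by simp [det_fin_two]⟩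

theorem up_add (s t : F) : up (s + t) = up s * up t := by
  apply sl_ext <;> rw [sl_mul] <;> simp [up, add_comm]

theorem up_nsmul (n : ℕ) (t : F) : up (n * t) = up t ^ n := by
  induction n with
  | zero => rw [pow_zero]; apply sl_ext <;> simp [up]
  | succ n ih => rw [pow_succ, ← ih, ← up_add]; simp [add_mul]

theorem dg_mul (a b : Fˣ) : dg (a * b) = dg a * dg b := by
  apply sl_ext <;> rw [sl_mul] <;> simp [dg, mul_comm]

theorem dg_pow (a : Fˣ) (n : ℕ) : dg (a ^ n) = dg a ^ n := by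
  induction n with
  | zero => rw [pow_zero, pow_zero]; apply sl_ext <;> simp [dg]
  | succ n ih => rw [pow_succ, pow_succ, dg_mul, ih]

theorem up_dg (a : Fˣ) (t : F) : up t * dg a = dg a * up ((a : F)⁻¹ ^ 2 * t) := by
  apply sl_ext <;> rw [sl_mul, sl_mul] <;> simp [dg, up]
  field_simp

theorem borel {b : SL(2, F)} (h : b 1 0 = 0) : ∃ (a : Fˣ) (t : F), b = dg a * up t ∧ b 0 0 = a := by
  have h1 := sl_det b
  rw [h, mul_zero, sub_zero] at h1
  have h2 := left_ne_zero_of_mul_eq_one h1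
  refine ⟨.mk0 _ h2, b 0 1 / b 0 0, ?_, rfl⟩
  apply sl_ext <;> rw [sl_mul] <;> simp [dg, up, h]
  · field_simp
  · exact eq_inv_of_mul_eq_one_right h1

variable {V : Type*} [AddCommGroup V] [Module K V]

theorem pow_smul_eig {G : Type*} [Group G] (ρ : Representation K G V) {g : G} {v : V} {c : K}
    (h : ρ g v = c • v) (n : ℕ) : ρ (g ^ n) v = c ^ n • v := by
  induction n with
  | zero => simp
  | succ n ih => rw [pow_succ, map_mul, Module.End.mul_apply, h, map_smul, ih, smul_smul, pow_succ']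

variable [Fintype F] [IsAlgClosed K] (i : F →+* K) [FiniteDimensional K V]

theorem exists_Beig [Nontrivial V] (ρ : Representation K SL(2, F) V) :
    ∃ v : V, v ≠ 0 ∧ ∃ e, 0 < e ∧ e < Fintype.card F ∧
      ∀ b : SL(2, F), b 1 0 = 0 → ρ b v = i (b 0 0) ^ e • v := by
  classical
  obtain ⟨p, hp⟩ := CharP.exists F
  have := Fact.mk (CharP.char_is_prime F p)
  have : CharP K p := (i.charP_iff_charP p).1 hp
  obtain ⟨l, v, -, h0, hv⟩ := exists_joint_eigen (fun t : F => ρ (up t)) ⊤ top_ne_bot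
    (fun _ _ _ => trivial) fun s t v _ => by
      rw [← Module.End.mul_apply, ← map_mul, ← up_add, add_comm, up_add, map_mul]; rfl
  have hl : l = 1 := funext fun t => by
    have h1 := pow_smul_eig ρ (hv t) p
    rw [← up_nsmul, CharP.cast_eq_zero, zero_mul, ← mul_zero (0 : ℕ).cast, up_nsmul, pow_zero,
      map_one, Module.End.one_apply, eq_comm, ← sub_eq_zero] at h1
    have h2 : (l t - 1) ^ p • v = 0 := by rw [sub_pow_char, one_pow, sub_smul, one_smul, h1]
    exact sub_eq_zero.1 (pow_eq_zero_iff (Fact.out : p.Prime).ne_zero |>.1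
      ((smul_eq_zero.1 h2).resolve_right h0))
  subst hl
  obtain ⟨l, v, hv, h0, hl⟩ := exists_joint_eigen (fun a : Fˣ => ρ (dg a))
    (wsp (fun t : F => ρ (up t)) 1) ((Submodule.ne_bot_iff _).2 ⟨v, hv, h0⟩)
    (fun a v hv t => by
      rw [← Module.End.mul_apply, ← map_mul, up_dg, map_mul, Module.End.mul_apply, hv]; simp)
    fun s t v _ => by
      rw [← Module.End.mul_apply, ← map_mul, ← dg_mul, mul_comm, dg_mul, map_mul]; rfl
  obtain ⟨γ, hγ⟩ := IsCyclic.exists_monoid_generator (α := Fˣ)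
  have h1 : orderOf γ = Fintype.card F - 1 := by
    rw [orderOf_eq_card_of_forall_mem_powers hγ, Nat.card_eq_fintype_card, Fintype.card_units]
  have hq := Fintype.one_lt_card (α := F)
  have : NeZero (Fintype.card F - 1) := ⟨by omega⟩
  have h2 : IsPrimitiveRoot (i γ) (Fintype.card F - 1) :=
    (IsPrimitiveRoot.coe_units_iff.2 (h1 ▸ IsPrimitiveRoot.orderOf γ)).map_of_injective i.injective
  have h3 : l γ ^ (Fintype.card F - 1) = 1 := by
    have h3 := pow_smul_eig ρ (hl γ) (Fintype.card F - 1)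
    rw [← dg_pow, ← h1, pow_orderOf_eq_one, ← pow_zero γ, dg_pow, pow_zero, map_one,
      Module.End.one_apply, h1, eq_comm, ← sub_eq_zero] at h3
    have h4 : (l γ ^ (Fintype.card F - 1) - 1) • v = 0 := by rw [sub_smul, one_smul, h3]
    exact sub_eq_zero.1 ((smul_eq_zero.1 h4).resolve_right h0)
  obtain ⟨e, h4, h5, h6⟩ : ∃ e, 0 < e ∧ e < Fintype.card F ∧ i γ ^ e = l γ := by
    obtain ⟨e, h4, h5⟩ := h2.eq_pow_of_pow_eq_one h3
    rcases Nat.eq_zero_or_pos e with rfl | h
    · exact ⟨Fintype.card F - 1, by omega, by omega, by rw [h2.pow_eq_one, ← h5, pow_zero]⟩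
    · exact ⟨e, h, by omega, h5⟩
  refine ⟨v, h0, e, h4, h5, fun b hb => ?_⟩
  obtain ⟨a, t, rfl, h7⟩ := borel hb
  obtain ⟨n, rfl⟩ := hγ a
  rw [h7, map_mul, Module.End.mul_apply, hv t, Pi.one_apply, one_smul, dg_pow,
    pow_smul_eig ρ (hl γ), ← h6, Units.val_pow_eq_pow_val, map_pow, pow_right_comm]

omit [IsAlgClosed K] in
theorem LL_le {p : ℕ} [CharP K p] {d : ℕ} (hd : d < Fintype.card F)
    {W : Submodule K (SL(2, F) → K)} (hW : ∀ h, W ≤ W.comap (Rr K _ h)) (h : lf i 1 0 ^ d ∈ W) :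
    LL i d ≤ W := by
  rw [LL_eq (p := p) hd (a := 1) (b := 0) (a' := 0) (b' := 1) (by simp), span_le]
  rintro _ ⟨j, rfl⟩
  refine mon_mem (i := i) hd W (fun t => ?_) j.2
  have := hW (up t * ww F) h
  rw [mem_comap, Rr_lf] at this
  convert this using 2
  funext g
  simp only [lf, sl_mul]
  simp [lf, up, ww]

omit [Fintype F] [IsAlgClosed K] in
theorem fix_val [DecidableEq F] {e : ℕ} {f : SL(2, F) → K}
    (h1 : ∀ b g : SL(2, F), b 1 0 = 0 → f (b * g) = i (b 1 1) ^ e * f g)
    (h2 : ∀ t g, f (g * up t) = f g) (g : SL(2, F)) :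
    f g = if g 1 0 = 0 then i (g 1 1) ^ e * f 1 else i (g 1 0) ^ e * f (ww F) := by
  split_ifs with h
  · rw [← h1 g 1 h, mul_one]
  · let b : SL(2, F) := ⟨!![(g 1 0)⁻¹, g 0 0; 0, g 1 0], by simp [det_fin_two, h]⟩
    have e1 : g = b * ww F * up (g 1 1 / g 1 0) := by
      have := sl_det g
      apply sl_ext <;> simp only [sl_mul] <;> simp [b, ww, up]
      · field_simp; linear_combination -this
      · field_simp
    conv_lhs => rw [e1]
    rw [h2, h1 _ _ (by simp [b])]
    simp [b]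

omit [IsAlgClosed K] in
theorem exists_LL_le {p : ℕ} [CharP K p] {e : ℕ} (he : 0 < e) (he' : e < Fintype.card F)
    {W : Submodule K (SL(2, F) → K)} (hW : ∀ h, W ≤ W.comap (Rr K _ h)) {f : SL(2, F) → K}
    (hf : f ∈ W) (h0 : f ≠ 0)
    (h1 : ∀ b g : SL(2, F), b 1 0 = 0 → f (b * g) = i (b 1 1) ^ e * f g)
    (h2 : ∀ t g, f (g * up t) = f g) : ∃ d < Fintype.card F, LL i d ≤ W := by
  classical
  have hv := fix_val i h1 h2
  set α := f 1
  set β := f (ww F)
  set S := ∑ s : F, i s ^ e with hS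
  have h3 : ∀ g : SL(2, F), g 1 0 = 0 → g 1 1 ≠ 0 := fun g h h' => by
    simpa [h, h'] using sl_det g
  have hN : ∀ g : SL(2, F), (∑ t, Rr K _ (up t * ww F) f) g =
      if g 1 0 = 0 then 0 else S * β + (-i (g 1 0)) ^ e * α := fun g => by
    have e1 : ∀ t, Rr K _ (up t * ww F) f g = i (g 1 0 * t + g 1 1) ^ e * β +
        if g 1 0 * t + g 1 1 = 0 then (-i (g 1 0)) ^ e * α else 0 := fun t => by
      rw [Rr_apply, hv]
      have e2 : (g * (up t * ww F)) 1 0 = g 1 0 * t + g 1 1 := by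
        simp only [sl_mul]; simp [up, ww]
      have e3 : (g * (up t * ww F)) 1 1 = -g 1 0 := by
        simp only [sl_mul]; simp [up, ww]
      rw [e2, e3]
      split_ifs with h <;> simp [h, he.ne']
    rw [Finset.sum_apply]
    simp only [e1, sum_add_distrib]
    split_ifs with h
    · have : (Fintype.card F : K) = 0 := by rw [← map_natCast i, FiniteField.cast_card_eq_zero, map_zero]
      simp [h, h3 g h, this]
    · let E : F ≃ F := (Equiv.mulLeft₀ _ h).trans (Equiv.addRight (g 1 1))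
      rw [hS, sum_mul, ← E.sum_comp fun s => i s ^ e * β]
      congr 1
      exact (E.sum_comp fun s => if s = 0 then (-i (g 1 0)) ^ e * α else 0).trans (by simp)
  have hNW : (∑ t, Rr K _ (up t * ww F) f) ∈ W := sum_mem fun t _ => hW _ hf
  have key : ∀ {d} {c : K}, d < Fintype.card F → c ≠ 0 → c • lf i 1 0 ^ d ∈ W →
      ∃ d < Fintype.card F, LL i d ≤ W := fun hd hc h =>
    ⟨_, hd, LL_le i (p := p) hd hW ((W.smul_mem_iff hc).1 h)⟩
  rcases (Nat.le_sub_one_of_lt he').lt_or_eq with h | h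
  · have h4 : S = 0 := by
      simp only [hS, ← map_pow, ← map_sum, FiniteField.sum_pow_lt_card_sub_one F e h, map_zero]
    by_cases h5 : α = 0
    · refine key (c := β) he' (fun h6 => h0 (funext fun g => by simp [hv g, h5, h6])) ?_
      convert hf using 1
      funext g
      rw [hv g]
      split_ifs with h6 <;> simp [lf, h5, h6, he.ne', mul_comm]
    · refine key (c := (-1) ^ e * α) he' (by simp [h5]) ?_
      convert hNW using 1
      funext g
      rw [hN g]
      split_ifs with h6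
      · simp [lf, h6, he.ne']
      · simp [lf, h4, neg_pow (i _)]; ring
  · have h4 : ∀ x : F, x ≠ 0 → i x ^ e = 1 := fun x hx => by
      rw [← map_pow, h, FiniteField.pow_card_sub_one_eq_one x hx, map_one]
    have h5 : S = -1 := by
      have : ∀ s : F, i s ^ e = 1 - if s = 0 then 1 else 0 := fun s => by
        split_ifs with hs
        · simp [hs, he.ne']
        · simp [h4 s hs]
      have h6 : (Fintype.card F : K) = 0 := by
        rw [← map_natCast i, FiniteField.cast_card_eq_zero, map_zero]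
      simp [hS, this, h6]
    by_cases h6 : α = β
    · have h7 : f = α • lf i 1 0 ^ 0 := funext fun g => by
        rw [hv g]
        split_ifs with h7
        · simp [h4 _ (h3 g h7)]
        · simp [h4 _ h7, h6]
      exact key (by omega) (fun h8 => h0 (by rw [h7, h8, zero_smul])) (h7 ▸ hf)
    · refine key (c := α - β) he' (sub_ne_zero.2 h6) ?_
      convert hNW using 1
      funext g
      rw [hN g]
      split_ifs with h7
      · simp [lf, h7, he.ne']
      · rw [← map_neg, h4 _ (neg_ne_zero.2 h7)]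
        simp [lf, h4 _ h7, h5]; ring

theorem exists_emb [Nontrivial V] (ρ : Representation K SL(2, F) V)
    (hρ : ∀ W : Submodule K V, (∀ g, W ≤ W.comap (ρ g)) → W = ⊥ ∨ W = ⊤) :
    ∃ d < Fintype.card F, ∃ Φ : V →ₗ[K] (SL(2, F) → K), Function.Injective Φ ∧
      LinearMap.range Φ = LL i d ∧ ∀ g v, Φ (ρ g v) = Rr K _ g (Φ v) := by
  obtain ⟨p, hp⟩ := CharP.exists K
  obtain ⟨φ, h0, e, he, he', hφ⟩ := exists_Beig i ρ.dual
  let Φ : V →ₗ[K] (SL(2, F) → K) := LinearMap.pi fun g => φ ∘ₗ ρ g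
  have h1 : ∀ g v, Φ (ρ g v) = Rr K _ g (Φ v) := fun g v => funext fun h => by
    simp [Φ, Rr_apply]
  have h2 : Function.Injective Φ := by
    rw [← LinearMap.ker_eq_bot]
    refine (hρ _ fun g v hv => ?_).resolve_right fun h => h0 (LinearMap.ext fun v => ?_)
    · rw [mem_comap, LinearMap.mem_ker, h1, show Φ v = 0 from hv, map_zero]
    · simpa [Φ] using congrFun (show Φ v = 0 from h.ge trivial) 1
  have h3 : ∀ h, LinearMap.range Φ ≤ (LinearMap.range Φ).comap (Rr K _ h) := by
    rintro h _ ⟨v, rfl⟩; exact ⟨_, h1 h v⟩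
  obtain ⟨v, hv, e', -, -, hv'⟩ := exists_Beig i ρ
  obtain ⟨d, hd, h4⟩ := exists_LL_le i (p := p) he he' h3 ⟨v, rfl⟩
    (fun h => hv (h2 (h.trans (map_zero Φ).symm))) (fun b g hb => by
      have h5 := LinearMap.congr_fun (hφ b⁻¹ (by simp [SpecialLinearGroup.coe_inv, adjugate_fin_two, hb]))
        (ρ g v)
      simpa [Φ, SpecialLinearGroup.coe_inv, adjugate_fin_two, Module.Dual.transpose_apply] using h5)
    (fun t g => by
      have := congrFun (h1 (up t) v) g
      rw [hv' _ (by simp [up]), Rr_apply] at this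
      simpa [up] using this.symm)
  refine ⟨d, hd, Φ, h2, le_antisymm ?_ h4, h1⟩
  rcases hρ ((LL i d).comap Φ) (fun g v hv => by
    rw [mem_comap, mem_comap, h1]; exact LL_inv i d g hv) with h | h
  · obtain ⟨w, hw⟩ := h4 (subset_span ⟨0, 1, rfl⟩)
    have h5 : w = 0 := h.le (show Φ w ∈ LL i d from hw ▸ subset_span ⟨0, 1, rfl⟩)
    have := congrFun hw 1
    simp [h5, lf] at this
  · rintro _ ⟨w, rfl⟩; exact h.ge (mem_top (x := w))

end CF.Geom.Sm
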