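import Cfsg.Agent.Geom.Sm2

/-! Simple modules of `SL₂(q)` in the defining characteristic, III: eigenvalue inequalities. -/

set_option autoImplicit false

namespace CF.Geom.Sm

open Module Polynomial Finset Matrix Submodule
open scoped MatrixGroups

universe u

variable {F K : Type*} [Field F] [Field K]

/-- the companion matrix -/
def cp (τ : F) : SL(2, F) := ⟨!![0, -1; 1, τ], by simp [det_fin_two]⟩

variable {i : F →+* K} {τ : F}

theorem Rr_cp {μ : K} (h0 : μ ≠ 0) (hτ : i τ = μ + μ⁻¹) :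
    Rr K _ (cp τ) (lf i 1 (-μ)) = μ • lf i 1 (-μ) := by
  have := Rr_lf i (cp τ) 1 (-μ) 1
  rw [pow_one, pow_one] at this
  rw [this]
  funext g
  simp [lf, cp, hτ]; field_simp; ring

theorem cp_pow {μ : K} (h0 : μ ≠ 0) (hτ : i τ = μ + μ⁻¹) (n : ℕ) :
    i ((cp τ ^ n) 0 0) - μ * i ((cp τ ^ n) 0 1) = μ ^ n ∧
      i ((cp τ ^ n) 1 0) - μ * i ((cp τ ^ n) 1 1) = -μ ^ (n + 1) := by
  have h := pow_smul_eig (Rr K _) (Rr_cp h0 hτ) n
  have h1 := congrFun h 1
  have h2 := congrFun h (ww F)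
  simp only [Rr_apply, lf, sl_mul, Pi.smul_apply] at h1 h2
  constructor
  · simp [ww, lf] at h2; linear_combination h2
  · simp [lf] at h1; linear_combination h1

theorem cp_pow_eq_one {μ : K} (h0 : μ ≠ 0) (hτ : i τ = μ + μ⁻¹) (h1 : μ ≠ μ⁻¹) {n : ℕ}
    (h : μ ^ n = 1) : cp τ ^ n = 1 := by
  obtain ⟨a, b⟩ := cp_pow h0 hτ n
  obtain ⟨c, d⟩ := cp_pow (inv_ne_zero h0) (by rw [hτ, inv_inv, add_comm]) n
  rw [pow_succ] at b d
  rw [inv_pow] at c d
  rw [h] at a b c d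
  have h2 := sub_ne_zero.2 h1
  have e1 : i ((cp τ ^ n) 0 1) = 0 := (mul_eq_zero.1 (by linear_combination c - a)).resolve_left h2
  have e2 : i ((cp τ ^ n) 1 1) = 1 := mul_left_cancel₀ h2 (by linear_combination d - b)
  have e3 : i ((cp τ ^ n) 0 0) = 1 := by linear_combination a + μ * e1
  have e4 : i ((cp τ ^ n) 1 0) = 0 := by linear_combination b + μ * e2
  apply sl_ext <;> apply i.injective <;> simp only [e1, e2, e3, e4] <;> simp

theorem pow_of_center {μ : K} (h0 : μ ≠ 0) (hτ : i τ = μ + μ⁻¹) {n : ℕ}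
    (h : cp τ ^ n ∈ Subgroup.center SL(2, F)) : μ ^ (2 * n) = 1 := by
  obtain ⟨r, h1, h2⟩ := Matrix.SpecialLinearGroup.mem_center_iff.1 h
  have h3 := (cp_pow h0 hτ n).1
  rw [← h2] at h3
  simp at h3
  rw [Fintype.card_fin] at h1
  rw [mul_comm, pow_mul, ← h3, ← map_pow, h1, map_one]

variable [Fintype F] [IsAlgClosed K] {p : ℕ} [CharP K p]

theorem roots_simple {V : Type*} [AddCommGroup V] [Module K V] [FiniteDimensional K V]
    [Nontrivial V] (ρ : Representation K SL(2, F) V)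
    (hρ : ∀ W : Submodule K V, (∀ g, W ≤ W.comap (ρ g)) → W = ⊥ ∨ W = ⊤) (hp : (2 : K) ≠ 0)
    (h1 : ρ (-1) = 1) {μ : K} (h0 : μ ≠ 0) (hτ : i τ = μ + μ⁻¹) (hμ : μ ≠ μ⁻¹) :
    ∃ d < Fintype.card F, Even d ∧
      (ρ (cp τ)).charpoly.roots = (JJ p d).val.map fun j => μ ^ j * μ⁻¹ ^ (d - j) := by
  obtain ⟨d, hd, Φ, h2, h3, h4⟩ := exists_emb i ρ hρ
  refine ⟨d, hd, ?_, ?_⟩
  · obtain ⟨v, hv⟩ := h3.ge (subset_span ⟨0, 1, rfl⟩)
    have h5 := congrFun (h4 (-1) v) 1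
    rw [h1, Module.End.one_apply, hv, Rr_apply] at h5
    refine (Nat.even_or_odd d).resolve_right fun h => hp ?_
    simp [lf, h.neg_one_pow] at h5
    linear_combination h5
  · have h5 := LL_eq (i := i) (p := p) hd (a := 1) (b := -μ) (a' := 1) (b' := -μ⁻¹)
      (by simpa [neg_add_eq_sub, sub_eq_zero] using hμ)
    have h6 : ∀ j : JJ p d, ∃ v, Φ v = lf i 1 (-μ) ^ j.1 * lf i 1 (-μ⁻¹) ^ (d - j.1) := fun j =>
      h3.ge (h5.ge (subset_span ⟨j, rfl⟩))
    choose b hb using h6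
    rw [roots_of_eigen (ρ (cp τ)) b ?_ ?_ (fun j => μ ^ j.1 * μ⁻¹ ^ (d - j.1)) fun j => h2 ?_]
    · exact Multiset.attach_map_val' (JJ p d).val fun j => μ ^ j * μ⁻¹ ^ (d - j)
    · refine (map_le_map_iff_of_injective h2 _ _).1 ?_
      rw [Submodule.map_top, h3, h5, map_span, ← Set.range_comp]
      exact span_mono (by rintro _ ⟨j, rfl⟩; exact ⟨j, hb j⟩)
    · rw [← LinearMap.finrank_range_of_inj h2, h3, finrank_LL (p := p) hd, Fintype.card_coe]
    · have e1 := Rr_cp h0 hτ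
      have e2 := Rr_cp (inv_ne_zero h0) (τ := τ) (i := i) (by rw [hτ, inv_inv, add_comm])
      rw [h4, map_smul, hb]
      funext g
      have e3 := congrFun e1 g
      have e4 := congrFun e2 g
      simp only [Rr_apply, Pi.mul_apply, Pi.pow_apply, Pi.smul_apply, smul_eq_mul] at e3 e4 ⊢
      rw [e3, e4]; ring

theorem roots_nonneg (hp : (2 : K) ≠ 0) {μ : K} (h0 : μ ≠ 0) (hτ : i τ = μ + μ⁻¹) (hμ : μ ≠ μ⁻¹)
    (f : K → ℤ) (hf : ∀ d < Fintype.card F, Even d → 0 ≤ ∑ j ∈ JJ p d, f (μ ^ j * μ⁻¹ ^ (d - j)))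
    (n : ℕ) : ∀ (V : Type u) [AddCommGroup V] [Module K V] [FiniteDimensional K V]
      (ρ : Representation K SL(2, F) V), finrank K V = n → ρ (-1) = 1 →
        0 ≤ ((ρ (cp τ)).charpoly.roots.map f).sum := by
  induction n using Nat.strong_induction_on with
  | _ n ih =>
  intro V _ _ _ ρ hn h1
  rcases subsingleton_or_nontrivial V with h | h
  · rw [roots_of_eigen (J := Empty) (ρ (cp τ)) Empty.elim (fun v _ => Subsingleton.elim 0 v ▸ zero_mem _)
      (by simp [finrank_zero_of_subsingleton]) Empty.elim (·.elim)]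
    simp
  by_cases hρ : ∀ W : Submodule K V, (∀ g, W ≤ W.comap (ρ g)) → W = ⊥ ∨ W = ⊤
  · obtain ⟨d, hd, h2, h3⟩ := roots_simple (p := p) ρ hρ hp h1 h0 hτ hμ
    rw [h3, Multiset.map_map]
    exact hf d hd h2
  · push Not at hρ
    obtain ⟨W, h2, h3, h4⟩ := hρ
    have h5 := W.finrank_quotient_add_finrank
    have h6 := finrank_lt h4
    have h7 : finrank K W ≠ 0 := by rwa [Ne, finrank_eq_zero]
    rw [charpoly_quot _ W (h2 _), roots_mul (mul_ne_zero (LinearMap.charpoly_monic _).ne_zero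
      (LinearMap.charpoly_monic _).ne_zero), Multiset.map_add, Multiset.sum_add]
    refine add_nonneg (ih _ (by omega) W (ρ.subrepresentation W h2) rfl ?_)
      (ih _ (by omega) (V ⧸ W) (ρ.quotient W h2) rfl ?_)
    · ext; simp [h1]
    · ext; simp [h1]

theorem eig_nonneg (hp : (2 : K) ≠ 0) {μ : Kˣ} {m : ℕ} (hm : orderOf μ = m) (h2 : 2 < m)
    (hτ : i τ = μ + (μ : K)⁻¹) {J : Type} [Fintype J] [DecidableEq J] (ρ : SL(2, F) →* GL J K)
    (h1 : ρ (-1) = 1) {y D : GL J K} {n : J → ℤ} (hy : ρ (cp τ) = y * D * y⁻¹)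
    (hD : D.1 = diagonal fun a => ((μ ^ n a : Kˣ) : K)) (G : ℤ → ℤ)
    (hG : ∀ d < Fintype.card F, Even d → 0 ≤ ∑ j ∈ JJ p d, G ((2 * j - d) % m)) :
    0 ≤ ∑ a, G (n a % m) := by
  classical
  let f : K → ℤ := fun z => if h : ∃ k : ℤ, ((μ ^ k : Kˣ) : K) = z then G (h.choose % m) else 0
  have hf : ∀ k : ℤ, f (μ ^ k : Kˣ) = G (k % m) := fun k => by
    have h : ∃ k' : ℤ, ((μ ^ k' : Kˣ) : K) = (μ ^ k : Kˣ) := ⟨k, rfl⟩
    have := zpow_eq_zpow_iff_modEq.1 (Units.ext h.choose_spec)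
    rw [hm] at this
    simp only [f, dif_pos h]
    rw [this]
  let ρ' : Representation K SL(2, F) (J → K) :=
    ((Matrix.toLinAlgEquiv' : Matrix J J K ≃ₐ[K] _) : Matrix J J K →* _).comp
      ((Units.coeHom _).comp ρ)
  have := roots_nonneg (p := p) hp μ.ne_zero hτ (fun h => by
    have : μ ^ 2 = 1 := Units.ext (by
      rw [Units.val_pow_eq_pow_val, sq]; nth_rw 2 [h]; exact mul_inv_cancel₀ μ.ne_zero)
    have := Nat.le_of_dvd two_pos (orderOf_dvd_of_pow_eq_one this)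
    omega) f (fun d hd he => by
      convert hG d hd he using 2 with j hj
      have hj' : j ≤ d := by simpa [Nat.lt_succ_iff] using (mem_filter.1 hj).1
      rw [← hf, show (2 * j - d : ℤ) = j + -((d - j : ℕ) : ℤ) by push_cast [hj']; ring,
        _root_.zpow_add]
      simp) _ (J → K) ρ' rfl (by simp [ρ', h1])
  have e : (ρ' (cp τ)).charpoly = D.1.charpoly := by
    rw [← charpoly_units_conj y D.1, ← charpoly_toLin']
    congr 1
    show toLin' (ρ (cp τ)).1 = _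
    simp [hy]
  rw [e, hD, charpoly_diagonal, roots_prod', Multiset.map_map] at this
  simp only [Function.comp_def, hf] at this
  exact this

end CF.Geom.Sm
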