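import Cfsg.Agent.Geom.Sm3
import Cfsg.Agent.BN.Ss1

/-! Subgroups `L₂(q)` of Chevalley groups in the defining characteristic: eigenvalue sums. -/

set_option autoImplicit false

namespace CF.Geom.Sm

open CF.Chev CF.BN CF.ExA Cfsg.Lie Matrix Finset
open scoped MatrixGroups

variable {B ι : Type} [Fintype B] [DecidableEq B] [Fintype ι] [DecidableEq ι] {C : ChevBasis B ι}

/-- reduction of an integer vector -/
def red (m : ℕ) (y : B → ℤ) : B → ZMod m := fun i => y i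

variable (C) in
/-- The sum of `G` over the weights of the adjoint module. -/
def ES (m : ℕ) (G : ℤ → ℤ) (y : B → ℤ) : ℤ :=
  Fintype.card B * G 0 + ∑ r, G (pr C y (C.vec r) % m)

theorem ES_Mw {m : ℕ} {G : ℤ → ℤ} {w : Equiv.Perm ι} (hw : w ∈ C.W) (y : B → ℤ) :
    ES C m G (Mw C w *ᵥ y) = ES C m G y := by
  unfold ES
  rw [← Equiv.sum_comp w fun r => G (pr C (Mw C w *ᵥ y) (C.vec r) % m)]
  simp only [pr_Mw (C.W_le_Aut hw)]

theorem pr_red {m : ℕ} (y : B → ℤ) (r : ι) :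
    (pr C y (C.vec r) : ZMod m) = ∑ i, red m y i * C.A (C.simple i) r := by
  simp [pr_vec, red]

theorem ES_congr {m : ℕ} {G : ℤ → ℤ} {y y' : B → ℤ} (h : red m y = red m y') :
    ES C m G y = ES C m G y' := by
  unfold ES
  congr 1
  refine sum_congr rfl fun r _ => ?_
  rw [(ZMod.intCast_eq_intCast_iff' _ (pr C y' (C.vec r)) m).1 (by rw [pr_red, pr_red, h])]

theorem ES_neg {m : ℕ} {G : ℤ → ℤ} (y : B → ℤ) : ES C m G (-y) = ES C m G y := by
  unfold ES
  rw [← Equiv.sum_comp C.negPerm fun r => G (pr C y (C.vec r) % m)]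
  simp [pr_apply, C.vec_neg]

theorem Mz_red {m : ℕ} (w : Equiv.Perm ι) (y : B → ℤ) :
    Mz C m w *ᵥ red m y = red m (Mw C w *ᵥ y) := map_mulVec _ _

omit [Fintype B] [DecidableEq B] in
theorem red_smul {m : ℕ} (k : ℤ) (y : B → ℤ) : red m (k • y) = k • red m y := by
  funext i; simp [red]

omit [Fintype B] [DecidableEq B] in
theorem red_add {m : ℕ} (x y : B → ℤ) : red m (x + y) = red m x + red m y := by
  funext i; simp [red]

section
variable {K : Type*} [Field K]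

omit [Fintype B] [DecidableEq B] in
theorem zp_iff {z : Kˣ} {m : ℕ} (hz : orderOf z = m) {a b : B → ℤ} :
    ((fun i => z ^ a i) = fun i => z ^ b i) ↔ red m a = red m b := by
  simp only [funext_iff, zpow_eq_zpow_iff_modEq, hz, red, ZMod.intCast_eq_intCast_iff]

omit [Fintype B] [DecidableEq B] in
theorem zp_pow (z : Kˣ) (a : B → ℤ) (k : ℕ) : (fun i => z ^ a i) ^ k = fun i => (z ^ k) ^ a i := by
  funext i; rw [Pi.pow_apply, ← zpow_natCast, ← _root_.zpow_mul, mul_comm, _root_.zpow_mul, zpow_natCast]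

omit [Fintype B] [DecidableEq B] in
theorem zp_pow' (z : Kˣ) (a : B → ℤ) (k : ℕ) :
    (fun i => z ^ a i) ^ k = fun i => z ^ ((k : ℤ) • a) i := by
  funext i; rw [Pi.pow_apply, ← zpow_natCast, ← _root_.zpow_mul, mul_comm]; rfl

theorem Wt_supp {z : Kˣ} {m : ℕ} (hz : orderOf z = m) (hm : 0 < m) {x : B → ℤ} {J : Set B}
    (h : ∀ r, (m : ℤ) ∣ pr C x (C.vec r) → ∀ i ∉ J, C.cov r i = 0) {w : Equiv.Perm ι} (hw : w ∈ C.W)
    (e : Mz C m w *ᵥ red m x = red m x) (y : B → ℤ) : ∀ i ∉ J, (Mw C w *ᵥ y) i = y i := by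
  refine Wt_ind (C := C) (c := fun i => z ^ x i) (P := fun w => ∀ i ∉ J, (Mw C w *ᵥ y) i = y i)
    (isOfFinOrder_iff_pow_eq_one.2 ⟨m, hm, by
      rw [zp_pow, ← hz, pow_orderOf_eq_one]; funext i; simp⟩) (by simp [Mw_one]) ?_ w
    ⟨hw, by rw [mp_zpow, zp_iff hz, ← Mz_red, e]⟩
  intro a _ ha w hw ih i hi
  rw [rv_zp, ← orderOf_dvd_iff_zpow_eq_one, hz] at ha
  rw [Mw_mul (C.refl_mem_Aut a) (C.W_le_Aut hw), ← mulVec_mulVec, Mw_refl]
  simp [h a ha i hi, ih i hi]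

variable {G : Type*} [Group G] {ρ : StRep C K G}

theorem ad_tor (h : ρ.R3) {f : G →* GL (B ⊕ ι) K} (hf : ρ.IsAdHom f) (c : B → Kˣ) :
    f (h.tor c) = C.tG (C.torChar c) := by
  induction c using Pi.mulSingle_induction with
  | one => simp
  | mul c d hc hd => simp [hc, hd]
  | mulSingle i t =>
    rw [StRep.R3.tor_single, C.torChar_single, ← PreSt.adPre_h, ← PreSt.map_h, hf.map_eq]

end

variable {p q : ℕ} [Fact p.Prime] {X : Type*} [Group X] (L : LS C 1 p q 1 X)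

theorem θ_bij : Function.Bijective L.θ :=
  ⟨L.θ.ker_eq_bot_iff.1 (Subgroup.card_eq_one.1 L.card_ker), L.surj⟩

theorem setup (hp : p ≠ 2) {F : Type*} [Field F] [Fintype F] [CharP F p] {H : Subgroup X}
    (φ : H ≃* PSL(2, F)) {m : ℕ} (h2 : 2 < m)
    (hq : m ∣ Fintype.card F - 1 ∨ m ∣ Fintype.card F + 1) :
    ∃ μ : L.Kˣ, orderOf μ = m ∧ ∃ (g : L.G) (y : B → ℤ),
      L.T.σ (g * L.h.r3.tor (fun i => μ ^ y i) * g⁻¹) = g * L.h.r3.tor (fun i => μ ^ y i) * g⁻¹ ∧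
      (∃ w ∈ C.W, mp (Mw C w) (fun i => μ ^ y i) = (fun i => μ ^ y i) ^ q) ∧
      (∀ k, (fun i => μ ^ y i) ^ k = 1 → m ∣ 2 * k) ∧ ∀ G : ℤ → ℤ,
        (∀ d < Fintype.card F, Even d → 0 ≤ ∑ j ∈ JJ p d, G ((2 * j - d) % m)) → 0 ≤ ES C m G y := by
  classical
  have hP : p.Prime := Fact.out
  let _ := ZMod.algebra F p
  let _ := ZMod.algebra L.K p
  let i : F →+* L.K := (IsAlgClosed.lift (R := ZMod p) (S := F) (M := L.K)).toRingHom
  obtain ⟨n, -, hn⟩ := FiniteField.card F p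
  have h0 : m.Coprime p := by
    have h1 : p ∣ Fintype.card F := hn ▸ dvd_pow_self p n.ne_zero
    have h3 := Fintype.card_pos (α := F)
    refine ((Nat.Prime.coprime_iff_not_dvd hP).2 fun h => hP.one_lt.ne' (Nat.dvd_one.1 ?_)).symm
    rcases hq with h' | h'
    · exact (Nat.dvd_add_right (h.trans h')).1 (by rwa [Nat.sub_add_cancel h3])
    · exact (Nat.dvd_add_right h1).1 (h.trans h')
  obtain ⟨μ, hμ⟩ := exists_orderOf (K := L.K) (n := m) fun e => hP.ne_one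
    (Nat.Coprime.eq_one_of_dvd h0.symm ((CharP.cast_eq_zero_iff L.K p m).1 e))
  have h3 : μ ^ m = 1 := hμ ▸ pow_orderOf_eq_one μ
  obtain ⟨τ, hτ⟩ : (μ : L.K) + (μ : L.K)⁻¹ ∈ i.range := by
    rw [← mem_range_iff_pow, hn, add_pow_char_pow, ← hn, inv_pow]
    rcases hq with ⟨k, h⟩ | ⟨k, h⟩
    · rw [← Nat.sub_add_cancel (Fintype.card_pos (α := F)), h, pow_succ, pow_mul,
        ← Units.val_pow_eq_pow_val, h3]; simp
    · have h4 : (μ : L.K) ^ Fintype.card F * μ = 1 := by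
        rw [← pow_succ, h, pow_mul, ← Units.val_pow_eq_pow_val, h3]; simp
      rw [eq_inv_of_mul_eq_one_left h4, inv_inv, add_comm]
  have h4 : (μ : L.K) ≠ (μ : L.K)⁻¹ := fun h => by
    have : μ ^ 2 = 1 := Units.ext (by
      rw [Units.val_pow_eq_pow_val, sq]; nth_rw 2 [h]; exact mul_inv_cancel₀ μ.ne_zero)
    have := Nat.le_of_dvd two_pos (orderOf_dvd_of_pow_eq_one this)
    omega
  let e := MulEquiv.ofBijective L.θ (θ_bij L)
  let j : PSL(2, F) →* Fx L.T.σ := e.symm.toMonoidHom.comp (H.subtype.comp φ.symm.toMonoidHom)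
  have hj : Function.Injective j := e.symm.injective.comp (H.subtype_injective.comp φ.symm.injective)
  let k : SL(2, F) →* L.G := ((Fx L.T.σ).subtype.comp j).comp (QuotientGroup.mk' _)
  have hk : ∀ g, k g = 1 ↔ g ∈ Subgroup.center SL(2, F) := fun g => by
    rw [← QuotientGroup.eq_one_iff, ← map_eq_one_iff _ hj, ← OneMemClass.coe_eq_one]; rfl
  have h5 : k (cp τ) ^ m = 1 := by
    rw [← map_pow, cp_pow_eq_one μ.ne_zero hτ h4 (by rw [← Units.val_pow_eq_pow_val, h3]; rfl), map_one]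
  have h6 : L.T.σ (k (cp τ)) = k (cp τ) := (j _).2
  obtain ⟨w, hw, c, hc, g, -, hg⟩ := L.frob.exists_mem_WTor L.big L.σ_tor h6
    (h0.coprime_dvd_left (orderOf_dvd_of_pow_eq_one h5))
  have h7 : ∀ n, c ^ n = 1 ↔ k (cp τ) ^ n = 1 := fun n => by
    rw [hg, conj_pow, ← map_pow, ← map_eq_one_iff _ L.h.inj]; simp
  have : NeZero m := ⟨by omega⟩
  choose y _ hy using fun i => (hμ ▸ IsPrimitiveRoot.orderOf μ : IsPrimitiveRoot μ m
    ).eq_pow_of_mem_rootsOfUnity (ξ := c i) (congrFun ((h7 m).2 h5) i)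
  obtain rfl : c = fun i => μ ^ ((y i : ℕ) : ℤ) := funext fun i => by rw [zpow_natCast, hy]
  refine ⟨μ, hμ, g, _, hg ▸ h6, ⟨w, hw, mem_WTor_one.1 hc⟩, fun n hn => ?_, fun G hG => ?_⟩
  · rw [h7, ← map_pow, hk] at hn
    rw [← hμ]
    exact orderOf_dvd_of_pow_eq_one (Units.ext (pow_of_center μ.ne_zero hτ hn))
  · obtain ⟨f, hf⟩ := L.h.faith
    have h8 : (2 : L.K) ≠ 0 := fun h => hp ((Nat.prime_dvd_prime_iff_eq hP Nat.prime_two).1
      ((CharP.cast_eq_zero_iff L.K p 2).1 h))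
    have := eig_nonneg (p := p) h8 hμ h2 hτ (f.comp k)
      (by rw [MonoidHom.comp_apply, (hk _).2 (Subgroup.mem_center_iff.2 (by simp)), map_one])
      (y := f g) (D := C.tG (C.torChar fun i => μ ^ ((y i : ℕ) : ℤ)))
      (n := Sum.elim 0 fun r => pr C (fun i => y i) (C.vec r))
      (by rw [MonoidHom.comp_apply, hg, map_mul, map_mul, ad_tor _ hf, map_inv]) (by
        show diagonal _ = _
        congr 1
        funext a
        rcases a with a | a
        · simp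
        · exact congrArg _ (rv_zp μ (fun i => y i) a)) G hG
    simpa [ES] using this

theorem syl [Finite X] {ℓ k m : ℕ} [Fact ℓ.Prime] (hm : m = ℓ ^ k)
    (hc : (Nat.card X).factorization ℓ = 2 * k) {z : L.Kˣ} (hz : orderOf z = m) {w : Equiv.Perm ι}
    (hw : w ∈ C.W) {e f : B → ℤ} (he : Mz C m w *ᵥ red m e = (q : ℤ) • red m e)
    (hf : Mz C m w *ᵥ red m f = (q : ℤ) • red m f) {i j : B}
    (h : e i = 1 ∧ e j = 0 ∧ f i = 0 ∧ f j = 1) {g : L.G} {y : B → ℤ}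
    (hs : L.T.σ (g * L.h.r3.tor (fun i => z ^ y i) * g⁻¹) =
      g * L.h.r3.tor (fun i => z ^ y i) * g⁻¹) :
    ∃ v ∈ C.W, ∃ a b : ℕ, a < m ∧ b < m ∧
      Mz C m v *ᵥ red m y = red m ((a : ℤ) • e + (b : ℤ) • f) := by
  have hℓ : ℓ.Prime := Fact.out
  have : NeZero m := ⟨hm ▸ pow_ne_zero _ hℓ.ne_zero⟩
  have h0 : z ^ m = 1 := hz ▸ pow_orderOf_eq_one z
  obtain ⟨u, ψ, h1, h2, -⟩ := L.frob.exists_torus L.big L.σ_tor hw
  let A : Multiplicative (ZMod m × ZMod m) →* WTor C L.K (Pm 1 q) w :=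
    { toFun := fun x => ⟨fun i => z ^ (((x.toAdd.1.val : ℤ) • e + (x.toAdd.2.val : ℤ) • f) i), by
        rw [mem_WTor_one, mp_zpow, zp_pow', zp_iff hz, ← Mz_red, red_smul, red_add, red_smul,
          red_smul, mulVec_add, mulVec_smul, mulVec_smul, he, hf,
          smul_add, smul_comm (q : ℤ), smul_comm (q : ℤ)]⟩
      map_one' := Subtype.ext (funext fun i => by simp)
      map_mul' := fun a b => Subtype.ext (by
        refine ((zp_iff hz).2 ?_).trans (funext fun i => _root_.zpow_add z _ _)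
        funext i
        simp only [red, Pi.add_apply, Pi.smul_apply, smul_eq_mul, toAdd_mul, Prod.fst_add,
          Prod.snd_add, Int.cast_add, Int.cast_mul, Int.cast_natCast, ZMod.natCast_zmod_val]
        ring) }
  have hA : Function.Injective A := fun a b hab => by
    have := (zp_iff hz).1 (congrArg Subtype.val hab)
    have e1 := congrFun this i
    have e2 := congrFun this j
    simp only [red, Pi.add_apply, Pi.smul_apply, h, smul_eq_mul, mul_one, mul_zero, add_zero, zero_add,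
      Int.cast_natCast, ZMod.natCast_zmod_val] at e1 e2
    exact Multiplicative.toAdd.injective (Prod.ext e1 e2)
  have hX := Nat.card_congr (Equiv.ofBijective _ (θ_bij L))
  have : Finite (Fx L.T.σ) := .of_injective _ (θ_bij L).1
  let P := Sylow.ofCard (p := ℓ) (ψ.comp A).range (by
    rw [hX, hc, ← Nat.card_congr (MonoidHom.ofInjective (f := ψ.comp A) (h1.comp hA)).toEquiv]
    simp [hm, two_mul, pow_add])
  let s : Fx L.T.σ := ⟨_, hs⟩
  have h3 : s ^ ℓ ^ k = 1 := Subtype.ext (by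
    show (g * _ * g⁻¹) ^ _ = 1
    rw [conj_pow, ← map_pow, zp_pow, ← hm, h0]; simp [← Pi.one_def])
  obtain ⟨n, -, hn⟩ := (Nat.dvd_prime_pow hℓ).1 (orderOf_dvd_of_pow_eq_one h3)
  obtain ⟨Q, hQ⟩ := (IsPGroup.of_card ((Nat.card_zpowers s).trans hn)).exists_le_sylow
  obtain ⟨x, hx⟩ := MulAction.exists_smul_eq (Fx L.T.σ) Q P
  obtain ⟨a, ha⟩ : x * s * x⁻¹ ∈ (ψ.comp A).range := by
    have : MulAut.conj x • s ∈ (x • Q : Sylow ℓ _) :=
      Subgroup.smul_mem_pointwise_smul _ _ _ (hQ (Subgroup.mem_zpowers s))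
    rwa [hx] at this
  have h4 := congrArg Subtype.val ha
  rw [MonoidHom.comp_apply, h2] at h4
  obtain ⟨v, hv, h5⟩ := L.h.exists_W_of_conj (g := u * x * g) (c := fun i => z ^ y i) (c' := A a) (by
    rw [show L.h.r3.tor (A a) = u * (u⁻¹ * L.h.r3.tor (A a) * u) * u⁻¹ by group, h4]
    simp [s, mul_assoc])
  refine ⟨v, hv, _, _, ZMod.val_lt a.toAdd.1, ZMod.val_lt a.toAdd.2, ?_⟩
  rw [Mz_red, ← zp_iff hz, ← mp_zpow, h5]; rfl

end CF.Geom.Sm
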