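import Cfsg.Agent.Geom.Tm9
import Cfsg.Agent.Ab2.SB
import Cfsg.Agent.Ab2.LYp
import Cfsg.Agent.Ab2.Gold
import Cfsg.Agent.Ab2.App2
import Cfsg.Agent.SC2.E

/-! Cliques, centralisers and the global setting. -/

namespace CF.Geom.Tm
open Subgroup CF.BG CF.Xs
open scoped commutatorElement
set_option linter.unusedSectionVars false

universe u
variable {G : Type u} [Group G] [Finite G]
variable {𝒞 Φ : Set (Subgroup G)} {W A B D E F P R C V U T K L H S Y V₀ V₁ : Subgroup G}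
  {a b c d e f g k t u v w x y z : G} {m q : ℕ}

theorem norm_of_brs (h : ∀ x ∈ V, ⁅x, g⁆ ∈ V) : g ∈ 𝐍 V := mem_norm_of_cj_le (by
  rintro _ ⟨x, hx, rfl⟩
  change g * x * g⁻¹ ∈ V
  rw [cj_eq_br]; exact mm (br_inv_mem (h x hx)) hx)

/-- neighbours of a member are adjacent -/
def Tri (𝒞 : Set (Subgroup G)) : Prop := ∀ {A B C}, Adj 𝒞 A B → Adj 𝒞 A C → B ≠ C → Adj 𝒞 B C

/-- all neighbours are maximal -/
def AM (𝒞 : Set (Subgroup G)) (m : ℕ) : Prop := ∀ {A B}, Adj 𝒞 A B → Dl 𝒞 m A (A ⇂ B) B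

namespace St
variable (h : St 𝒞 m q)
include h

theorem dl_or (ad : Adj 𝒞 A D) : Dl 𝒞 m A (A ⇂ D) D ∨ ♯(A ⇂ D) < m :=
  (le_or_gt m _).imp_left (h.dl ad.hP ad.hR ad.ne inf_le_left inf_le_right)

theorem cent_inf (ad : Adj 𝒞 A B) (ha : a ∈ A) (hc : a ∈ 𝐂 (A ⊔ B)) : a = 1 :=
  h.cent_one ad.hR ad.hP ad.ne.symm ha (mem_cent_sup.1 hc).2

variable (tw : Two 𝒞 m q) (m4 : 4 ≤ m)
include tw m4

theorem cent_same (s : Dl 𝒞 m A V B) (s' : Dl 𝒞 m A V E) : 𝐂 (A ⊔ E) = 𝐂 (A ⊔ B) := by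
  obtain ⟨x, hx, rfl⟩ := h.delta tw m4 s s'
  rw [← cj_of_mem hx, ← cj_sup, ← cj_cent, cj_of_mem hx, cj_of_cent (cent_symm le_rfl (mem_sup_left hx))]

theorem cent_norm' (s : Dl 𝒞 m A V B) (gA : g ∈ 𝐍 A) (gV : g ∈ 𝐍 V) : g ∈ 𝐍 (𝐂 (A ⊔ B)) :=
  cj_eq_self.1 (by rw [cj_cent, cj_sup, cj_of_norm gA, h.cent_same tw m4 s (s.cj'' h.toTIC gA gV)])

theorem cent_pn1 (p : Pn 𝒞 m A V₀ V₁) (n : V₀ ⊓ V₁ ≠ ⊥) (s : Dl 𝒞 m A V₀ B) (s' : Dl 𝒞 m A V₁ C)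
    (hc : c ∈ C ⇂ A) : 𝐂 (A ⊔ cj c B) = 𝐂 (A ⊔ B) := by
  obtain ⟨c₁, hc₁, c1, k⟩ := h.exists_c1 p s' n
  rw [← cj_of_norm hc.2, ← cj_sup, ← cj_cent, cj_of_norm hc.2]
  refine cj_of_cent fun u hu => ?_
  obtain ⟨x, hx, e⟩ := h.cent_decomp tw m4 s' (mem_cent_sup.1 hu).1
  have br : ∀ c ∈ C ⇂ A, ⁅u, c⁆ = ⁅x, c⁆ := fun c hc => by
    rw [← br_comm_mul (x := x) (e c (mem_sup_right hc.1)).symm, mul_inv_cancel_left]
  have := h.cent_inf (h.adj s) (br_left hx hc₁.2) (br c₁ hc₁ ▸ br_left hu (h.cent_norm' tw m4 s hc₁.2 k))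
  exact br_one.1 ((br c hc).trans (br_one.2 (s'.cent h.toTIC hc (s'.fix h.toTIC hc₁.1 c1 hx (br_one.1 this)))))

theorem cent_pn (p : Pn 𝒞 m A V₀ V₁) (n : V₀ ⊓ V₁ ≠ ⊥) (s : Dl 𝒞 m A V₀ B) (s' : Dl 𝒞 m A V₁ C) :
    𝐂 (A ⊔ B) = 𝐂 (A ⊔ C) := by
  have H := h.toTIC
  obtain ⟨x, hx, hx'⟩ := p.m0.exists_not p.m1 p.ne
  obtain ⟨y, hy, hy'⟩ := p.m1.exists_not p.m0 p.ne.symm
  obtain ⟨c, hc, e⟩ := h.cover s.le s' (mul_mem_sup hx hy) fun e => hx' ((mul_mem_cancel_right hy).1 e)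
  obtain ⟨b, hb, e'⟩ := h.cover s'.le s (sup_comm V₀ V₁ ▸ mul_mem_sup hx hy)
    fun e => hy' ((mul_mem_cancel_left hx).1 e)
  have := p.eq (s.cj' H hc.2).mb (s'.cj' H hb.2).mb
    (fun a ha => by rw [← cj_of_comm (s'.cent H hc ha.2).symm]; exact conj_mem_cj.2 ha.1)
    (fun a ha => by rw [← cj_of_comm (s.cent H hb ha.1).symm]; exact conj_mem_cj.2 ha.2) e e'
    fun k => hx' ((mul_mem_cancel_right hy).1 k.2)
  rw [← h.cent_pn1 tw m4 p n s s' hc, ← h.cent_pn1 tw m4 p.symm (inf_comm V₀ V₁ ▸ n) s' s hb]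
  exact h.cent_same tw m4 (this ▸ s'.cj' H hb.2) (s.cj' H hc.2)

omit m4 in
theorem Is_eq (e : m = q) (s : Dl 𝒞 m A V B) (n : Is A ≠ ⊥) : Is A = V := by
  obtain ⟨g, rfl⟩ := h.tr s.hA s.hD
  obtain ⟨b, hb, b1⟩ := exists_mem_ne_one (H := Is (cj g A)) (by rwa [← cj_Is, Ne, cj_eq_bot])
  refine eq_of_card_le (s.eq ▸ (h.adj s).Is_le h.toTIC) ?_
  rw [s.card, e, ← h.card_cm s (((h.adj s).symm h.toTIC).Is_le h.toTIC hb) b1]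
  exact card_le (cm_le.2 fun x hx => h.br_Is tw s hx hb)

end St

namespace Big
variable (h : Big 𝒞 m q)
include h

theorem cent_eq (s : Dl 𝒞 m A V B) (s' : Dl 𝒞 m A U C) : 𝐂 (A ⊔ B) = 𝐂 (A ⊔ C) := by
  by_cases e : V = U
  · exact h.cent_same h.tw h.m4 s' (e ▸ s)
  · exact h.cent_pn h.tw h.m4 (h.pn' s.mb s'.mb e) (h.inf_ne' s.mb s'.mb e) s s'

theorem cent_N (s : Dl 𝒞 m A V B) : 𝐍 A ≤ 𝐍 (𝐂 (A ⊔ B)) := fun g hg => cj_eq_self.1 (by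
  rw [cj_cent, cj_sup, cj_of_norm hg, h.cent_eq (s.cj' h.toTIC hg) s])

theorem cent_adj (s : Dl 𝒞 m A V B) (ad : Adj 𝒞 A D) : 𝐂 (A ⊔ B) ≤ 𝐂 D := by
  have H := h.toTIC
  rcases h.dl_or ad with s' | lt
  · exact (h.cent_eq s s').le.trans (cent_anti le_sup_right)
  obtain ⟨U, C, n⟩ := h.exists_nm ad lt
  obtain ⟨y, hy, hy'⟩ := h.exists_not n.toDl
  obtain ⟨k, hk, κ, -, -, ne⟩ := h.kap_to n hy hy'
  obtain ⟨d, hd, d1⟩ := exists_mem_ne_one (ad.symm H).nb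
  obtain ⟨w, hw, w', hw', rfl⟩ := h.om_two n κ hk ne (mem_NN_right hd)
  have o : ∀ {U C}, Dl 𝒞 m A U C → Om A C D ≤ 𝐂 (𝐂 (A ⊔ B)) := fun s' => h.cent_eq s s' ▸ (sup_le
    (inf_le_left.trans (inf_le_left.trans le_sup_right)) (inf_le_left.trans le_sup_left)).trans (cent_symm le_rfl)
  intro u hu
  obtain ⟨a, ha, e⟩ := ad.cent_decomp H (mem_cent_sup.1 hu).1 (h.norm_of_comm ad.hR hd.1 d1
    (mm (o n.toDl hw) (o (n.cj' H κ.nP) hw') u hu))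
  have := h.cent_inf (h.adj s) (br_left ha.1 κ.nP) (by
    rw [← br_comm_mul (x := a) (e k hk).symm, mul_inv_cancel_left]; exact br_left hu (h.cent_N s κ.nP))
  rw [κ.fP0 a ha.1 (br_one.1 this), inv_one, one_mul] at e
  exact (mem_cent_sup.1 e).2

theorem tri_am (am : AM 𝒞 m) : Tri 𝒞 := fun s s' => h.adj_max (am s) (am s')

theorem tri_Is (n : ∀ A ∈ 𝒞, Is A ≠ ⊥) : Tri 𝒞 := by
  intro A D E s s' ne
  have H := h.toTIC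
  have le : ∀ {D U}, Adj 𝒞 A D → ♯(A ⇂ D) < m → Mb 𝒞 m A U → A ⇂ D ≤ U := fun s lt k => by_contra fun l =>
    let ⟨_, _, n'⟩ := h.exists_nm s lt
    n A s.hP (h.eight n' k l).2
  have mx : ∀ {D E}, Adj 𝒞 A D → ♯(A ⇂ D) < m → Dl 𝒞 m A (A ⇂ E) E → D ≠ E → Adj 𝒞 D E := fun s lt s' ne =>
    let ⟨_, hd, d1⟩ := exists_mem_ne_one (s.symm H).nb
    .mk' s.hR s'.hD ne hd.1 (h.nB ⟨s', s, lt, le s lt s'.mb⟩ hd) d1
  rcases h.dl_or s with k | lt <;> rcases h.dl_or s' with k' | lt'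
  exacts [h.adj_max k k' ne, (mx s' lt' k ne.symm).symm H, mx s lt k' ne, by
    have oo : ∀ {V B V' B' w w'}, Dl 𝒞 m A V B → Dl 𝒞 m A V' B' → w ∈ Om A B D → w' ∈ Om A B' E →
        w * w' = w' * w := fun {V B V' B' w w'} k k' hw hw' => by
      have n : NM 𝒞 m A V B D := ⟨k, s, lt, le s lt k.mb⟩
      have n' : NM 𝒞 m A V' B' E := ⟨k', s', lt', le s' lt' k'.mb⟩
      obtain ⟨b, hb, a, ha, rfl⟩ := h.om_mem n hw
      obtain ⟨b', hb', a', ha', rfl⟩ := h.om_mem n' hw'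
      exact mem_cent1.1 (mm (mem_cent1_comm.1 (mm (mem_cent1.2 (h.theta' k' k hb'.1 (norm_of_brs fun x hx =>
        le s' lt' k.mb (h.om_br n' hb' (k.le hx))) hb.1 (norm_of_brs fun x hx =>
        le s lt k'.mb (h.om_br n hb (k'.le hx))))) (mem_cent1.2 (k.cent H hb.1 (le s' lt' k.mb ha')))))
        (mem_cent1.2 (h.om_V n' hw' a (le s lt k'.mb ha))))
    have tw : ∀ {D d}, Adj 𝒞 A D → ♯(A ⇂ D) < m → d ∈ D ⇂ A → ∃ V B V' B' w w', Dl 𝒞 m A V B ∧ Dl 𝒞 m A V' B' ∧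
        w ∈ Om A B D ∧ w' ∈ Om A B' D ∧ w * w' = d := fun s lt hd => by
      obtain ⟨U, C, n⟩ := h.exists_nm s lt
      obtain ⟨y, hy, hy'⟩ := h.exists_not n.toDl
      obtain ⟨k, hk, κ, -, -, ne⟩ := h.kap_to n hy hy'
      obtain ⟨w, hw, w', hw', e⟩ := h.om_two n κ hk ne (mem_NN_right hd)
      exact ⟨_, _, _, _, w, w', n.toDl, n.cj' H κ.nP, hw, hw', e⟩
    obtain ⟨d, hd, d1⟩ := exists_mem_ne_one (s.symm H).nb
    obtain ⟨e, he, e1⟩ := exists_mem_ne_one (s'.symm H).nb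
    obtain ⟨_, _, _, _, w₁, w₂, k₁, k₂, h₁, h₂, rfl⟩ := tw s lt hd
    obtain ⟨_, _, _, _, w₃, w₄, k₃, k₄, h₃, h₄, rfl⟩ := tw s' lt' he
    exact .mk' s.hR s'.hR ne hd.1 (h.norm_of_comm s'.hR he.1 e1 (mem_cent1.1 (mm
      (mem_cent1_comm.1 (mm (mem_cent1.2 (oo k₁ k₃ h₁ h₃).symm) (mem_cent1.2 (oo k₁ k₄ h₁ h₄).symm)))
      (mem_cent1_comm.1 (mm (mem_cent1.2 (oo k₂ k₃ h₂ h₃).symm) (mem_cent1.2 (oo k₂ k₄ h₂ h₄).symm)))))) d1]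

end Big

/-! ### dihedral groups -/

theorem dih_conj (hx : x * x = 1) (hy : y * y = 1) (i : ℕ) : ∃ g ∈ zpowers (x * y),
    (Even i ∧ x * (x * y) ^ i = g * x * g⁻¹) ∨ (Odd i ∧ x * (x * y) ^ i = g * y * g⁻¹) := by
  have e := dih1 hx hy
  obtain ⟨j, rfl | rfl⟩ := Nat.even_or_odd' i
  · exact ⟨((x * y) ^ j)⁻¹, im (npow_mem_zpowers _ _), .inl ⟨even_two_mul j, by
      rw [two_mul, pow_add, ← mul_assoc, conj_pow_inv e, inv_inv]⟩⟩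
  · exact ⟨((x * y) ^ j)⁻¹, im (npow_mem_zpowers _ _), .inr ⟨odd_two_mul_add_one j, by
      rw [show 2 * j + 1 = j + (1 + j) by ring, pow_add, ← mul_assoc, conj_pow_inv e, inv_inv, pow_add, pow_one,
        mul_assoc, ← mul_assoc x, sq_left hx, mul_assoc]⟩⟩

theorem dih_cent (hx : x * x = 1) (hy : y * y = 1) (i : ℕ) :
    ⁅(x * y) ^ i, x⁆ = (x * y) ^ (2 * i) ∧ ⁅(x * y) ^ i, y⁆ = (x * y) ^ (2 * i) := by
  have e := dih1 hx hy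
  have e' : y * (x * y) * y⁻¹ = (x * y)⁻¹ := by
    rw [mul_inv_rev, inv_of_sq hx, inv_of_sq hy, mul_assoc, mul_assoc, hy, mul_one]
  constructor
  · rw [br_def, mul_assoc _ x, conj_pow_inv' e, two_mul, pow_add]; group
  · rw [br_def, mul_assoc _ y, conj_pow_inv' e', two_mul, pow_add]; group

theorem dih_even (hx : x * x = 1) (hy : y * y = 1) (ev : ¬ Odd (orderOf (x * y))) : ∃ i, (x * y) ^ i ≠ 1 ∧
    (x * y) ^ i * (x * y) ^ i = 1 ∧ (x * y) ^ i * x = x * (x * y) ^ i ∧ (x * y) ^ i * y = y * (x * y) ^ i := by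
  obtain ⟨i, hi⟩ := Nat.not_odd_iff_even.1 ev
  have p := orderOf_pos (x * y)
  have e : (x * y) ^ (2 * i) = 1 := by rw [two_mul, ← hi, pow_orderOf_eq_one]
  exact ⟨i, pow_ne_one_of_lt_orderOf (by omega) (by omega), by rw [← pow_add, ← two_mul, e],
    br_one.1 ((dih_cent hx hy i).1.trans e), br_one.1 ((dih_cent hx hy i).2.trans e)⟩

theorem tic_norm (h : TIC 𝒞) (hA : A ∈ 𝒞) (hT : PiGrp {2} T) (l : A ≤ T) : T ≤ 𝐍 A :=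
  (hT.nil.eq_of_inf_norm_le (inf_le_left : T ⊓ 𝐍 A ≤ T) fun g hg => ⟨hg.1, cj_eq_self.1 (h.wc hA (h.cj g hA)
    ((cj_le_of_norm hg.2 (le_inf l (le_norm_self _))).trans inf_le_right))⟩).ge.trans inf_le_right

theorem tic_syl (h : TIC 𝒞) (hA : A ∈ 𝒞) : ∃ S, Syl 2 S ⊤ ∧ A ≤ S ∧ S ≤ 𝐍 A :=
  let ⟨S, hS, l⟩ := exists_syl_le le_top (tic_pi h hA)
  ⟨S, hS, l, tic_norm h hA hS.pi l⟩

theorem tic_two (h : TIC 𝒞) (hA : A ∈ 𝒞) (hT : PiGrp {2} T) : ∃ g, T ≤ 𝐍 (cj g A) := by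
  obtain ⟨S, hS, -, l⟩ := tic_syl h hA
  obtain ⟨g, -, k⟩ := hS.syl_le_cj le_top hT
  exact ⟨g, k.trans (cj_norm g A ▸ cj_mono g l)⟩

theorem adj_or (h : TIC 𝒞) (hA : A ∈ 𝒞) (hE : E ∈ 𝒞) (hx : x ∈ E) (x1 : x ≠ 1) (n : x ∈ 𝐍 A) :
    E = A ∨ Adj 𝒞 A E := or_iff_not_imp_left.2 fun ne => (Adj.mk' hE hA ne hx n x1).symm h

/-- `H` contains the normaliser of `A` and the neighbours of `A` -/
structure Ct (𝒞 : Set (Subgroup G)) (A H : Subgroup G) : Prop extends TIC 𝒞 where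
  hA : A ∈ 𝒞
  nb : A ≠ ⊥
  n : 𝐍 A ≤ H
  ad : ∀ {B}, Adj 𝒞 A B → B ≤ H

namespace Ct
variable (h : Ct 𝒞 A H)
include h

theorem fus (ha : a ∈ A) (a1 : a ≠ 1) (e : g * a * g⁻¹ ∈ H) : g ∈ H := by
  obtain ⟨S, hS, -, l⟩ := tic_syl h.toTIC h.hA
  obtain ⟨k, hk, l'⟩ := (hS.of_le (l.trans h.n) le_top).syl_cj_le (zpowers_le.2 e)
    ((tic_pi h.toTIC (h.cj g h.hA)).le (zpowers_le.2 (conj_mem_cj.2 ha)))
  refine (mul_mem_cancel_left hk).1 ?_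
  rcases adj_or h.toTIC h.hA (h.cj (k * g) h.hA) (conj_mem_cj.2 ha) (mt conj_eq_one_iff.1 a1)
    (by simpa [mul_assoc] using l (l' (conj_mem_cj.2 (mem_zpowers _)))) with e | s
  · exact h.n (cj_eq_self.1 e)
  · obtain ⟨t, ht, -, e, -⟩ := s.exists_swap h.toTIC
    exact (mul_mem_cancel_left (im (sup_le ((le_norm_self _).trans h.n) (h.ad s) ht))).1
      (h.n (cj_eq_self.1 (by rw [← cj_cj, ← e, cj_inv_cj])))

theorem exists_cent (hY : PiGrp {2} Y) (l : Y ≤ H) : ∃ k ∈ H, ∃ a ∈ A, a ≠ 1 ∧ k * a * k⁻¹ ∈ 𝐂 Y := by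
  obtain ⟨S, hS, -, l₁⟩ := tic_syl h.toTIC h.hA
  obtain ⟨k, hk, l'⟩ := (hS.of_le (l₁.trans h.n) le_top).syl_le_cj l hY
  obtain ⟨_, ⟨⟨a, ha, rfl⟩, c⟩, a1⟩ := exists_mem_ne_one (hY.inf_cent_ne_bot (tic_pi h.toTIC (h.cj k h.hA))
    (l'.trans (cj_norm k A ▸ cj_mono k l₁)) (by simpa using h.nb))
  exact ⟨k, hk, a, ha, fun e => a1 (by simp [e]), c⟩

theorem ctrl (hY : PiGrp {2} Y) (l : Y ≤ H) (l' : Y ≤ cj g H) : ∃ c ∈ 𝐂 Y, c * g ∈ H := by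
  obtain ⟨k, hk, a, ha, a1, c⟩ := h.exists_cent hY l
  obtain ⟨k', hk', a', ha', a1', c'⟩ := h.exists_cent (hY.cj g⁻¹) (le_cj_iff.1 l')
  rw [← cj_cent, mem_cj_inv] at c'
  have p : ∀ {g a}, a ∈ A → PiGrp {2} (zpowers (g * a * g⁻¹)) := fun {g a} ha =>
    (tic_pi h.toTIC (h.cj g h.hA)).le (zpowers_le.2 (conj_mem_cj.2 ha))
  obtain ⟨T, hT, l₁⟩ := exists_syl_le (zpowers_le.2 c) (p ha)
  obtain ⟨j, hj, l₂⟩ := hT.syl_cj_le (zpowers_le.2 c') (by simpa [mul_assoc] using p (g := g * k') ha')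
  obtain ⟨i, l₃⟩ := tic_two h.toTIC h.hA hT.pi
  have i1 : i⁻¹ * k ∈ H := h.fus ha a1 (h.n (by
    have := l₃ (l₁ (mem_zpowers _))
    rw [← cj_norm, mem_cj] at this
    simpa [mul_assoc] using this))
  have i2 : i⁻¹ * (j * g * k') ∈ H := h.fus ha' a1' (h.n (by
    have := l₃ (l₂ (conj_mem_cj.2 (mem_zpowers _)))
    rw [← cj_norm, mem_cj] at this
    simpa [mul_assoc] using this))
  exact ⟨j, hj, (mul_mem_cancel_right hk').1 ((mul_mem_cancel_left ((mul_mem_cancel_right hk).1 i1)).1 i2)⟩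

theorem ctrl1 (hx : PiElt {2} x) (l : x ∈ H) (l' : g * x * g⁻¹ ∈ H) : ∃ k ∈ H, k * x * k⁻¹ = g * x * g⁻¹ := by
  obtain ⟨c, hc, e⟩ := h.ctrl hx.zpowers (zpowers_le.2 l) (zpowers_le.2 (mem_cj_inv.2 l'))
  refine ⟨(c * g⁻¹)⁻¹, im e, ?_⟩
  rw [mul_inv_rev, inv_inv, mul_assoc g, ← (im hc) x (mem_zpowers x)]
  group

theorem sc (hS : S ≤ H) (p : PiGrp {2} S) (n : H ≤ 𝐍 K) : Cfsg.IsStronglyClosed (S ⊓ K) S :=
  ⟨inf_le_left, fun x hx g e => ⟨e, by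
    obtain ⟨k, hk, e'⟩ := h.ctrl1 (p.elt hx.1) (hS hx.1) (hS e)
    exact e' ▸ conj_mem_of_norm (n hk) hx.2⟩⟩

theorem zc (ne : H ≠ ⊤) : ∃ z ∈ A, ZD.ZC z H := by
  obtain ⟨S, hS, -, l⟩ := tic_syl h.toTIC h.hA
  obtain ⟨z, hz, z1⟩ := exists_mem_ne_one (hS.pi.inf_cent_ne_bot (tic_pi h.toTIC h.hA) l h.nb)
  exact ⟨z, hz.1, ⟨z1, h.sq h.hA hz.1⟩, h.n (le_norm_self _ hz.1), ne, ⟨S, hS, hz.2⟩, fun _ => h.fus hz.1 z1⟩

end Ct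

/-- the global hypotheses -/
structure Gl (𝒞 : Set (Subgroup G)) : Prop extends TIC 𝒞 where
  tr : ∀ {P R}, P ∈ 𝒞 → R ∈ 𝒞 → ∃ g, BG.cj g P = R
  ex : ∃ A, A ∈ 𝒞
  nb : ∀ {A}, A ∈ 𝒞 → A ≠ ⊥
  o2 : 𝐎 {2} (⊤ : Subgroup G) = ⊥
  o : 𝐎 {2}ᶜ (⊤ : Subgroup G) = ⊥
  gen : ∀ H : Subgroup G, (∀ A ∈ 𝒞, A ≤ H) → H = ⊤

namespace Gl
variable (h : Gl 𝒞)
include h

theorem bot_of_pi (n : K ⊴ ⊤) (p : PiGrp {2} K) : K = ⊥ := eq_bot_mono h.o2 (le_O n p)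

theorem eq_top (n : K ⊴ ⊤) (hA : A ∈ 𝒞) (l : A ≤ K) : K = ⊤ := h.gen K fun B hB => by
  obtain ⟨g, rfl⟩ := h.tr hA hB
  exact cj_le_of_norm (n.norm trivial) l

theorem F_bot : 𝐅 (⊤ : Subgroup G) = ⊥ := le_bot_iff.1 (F_le_of_forall fun p hp _ => by
  by_cases e : p = 2
  · rw [e, h.o2]
  · rw [← h.o]; exact O_mono _ (by simpa using Ne.symm e))

theorem inf_ne (n : K ⊴ ⊤) (k1 : K ≠ ⊥) (hA : A ∈ 𝒞) : K ⊓ A ≠ ⊥ := fun e => k1 (by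
  have c : ∀ k ∈ K, k ∈ 𝐍 A → k ∈ 𝐂 A := fun k hk hn a ha =>
    (br_one.1 (eq_one_of_mem_bot e ⟨br_left hk (n.norm trivial), br_right ha hn⟩)).symm
  obtain ⟨a, ha, a1⟩ := exists_mem_ne_one (h.nb hA)
  have aa := h.sq hA ha
  have nK : K ⊴ K ⊔ zpowers a := normalIn_sup_left (le_top.trans n.norm)
  have cK : K ≤ 𝐂 A := fun g hg => c g hg (h.norm_of_comm hA ha a1 (br_one.1 (eq_one_of_mem_bot h.o
    (O_le_O_of_normal n _ ((O_inf_normal nK _).le ⟨ZD.zstar_in ⟨a1, aa⟩ (mem_sup_right (mem_zpowers a))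
      (fun g hg e => ?_) (mem_sup_left hg), br_right hg (n.norm trivial)⟩)))).symm)
  · have : K ≤ 𝐙 ⊤ := le_inf le_top (cent_symm (h.eq_top ⟨le_top, norm_cent n.norm⟩ hA (cent_symm cK)).ge)
    exact eq_bot_mono h.F_bot (this.trans (center_le_F _))
  obtain ⟨k, hk, β, hβ, rfl⟩ := (mem_sup_norm' (le_top.trans n.norm)).1 hg
  have e' : k * β * a * (k * β)⁻¹ = k * a * k⁻¹ := by
    rw [mul_assoc k, mem_cent1.1 (zpowers_le.2 (self_mem_cent1 a) hβ)]; group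
  rw [e'] at e ⊢
  have k1 := c _ (br_left hk (n.norm trivial)) (h.norm_of_comm hA ha a1 (mem_cent1.1
    (mm (mem_cent1.2 e.symm) (im (self_mem_cent1 a)))))
  by_cases ne : A = cj k A
  · exact cj_of_comm (c k hk (cj_eq_self.1 ne.symm) a ha).symm
  · exact absurd (h.cent_one hA (h.cj k hA) ne (conj_mem_cj.2 ha)
      (cj_eq_br k a ▸ mm k1 (tic_abel h.toTIC hA ha))) (by simpa using a1))

theorem comp_ns (k : Sig.Comp L ⊤) : Ab2.NS L := Ab2.Comp.ns k (eq_bot_mono h.F_bot k.center_le_F)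

theorem comp_normal (k : Sig.Comp L ⊤) : L ⊴ ⊤ := ⟨le_top, (h.gen _ fun A hA x hx => by_contra fun n => by
  have ns := h.comp_ns k
  have k' := k.cj_of_norm (g := x) (by simp)
  have c := k'.cent_of_ne k fun e => n (cj_eq_self.1 e)
  have xx := h.sq hA hx
  have x1 : x ≠ 1 := fun e => n (e ▸ one_mem _)
  have one : ∀ {l}, l ∈ L → l ∈ cj x L → l = 1 := fun hl hl' => ns.eq_one hl (c hl')
  obtain ⟨S, hS, -, l⟩ := tic_syl h.toTIC hA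
  have hL := (hS.inf_normal (Sig.Lay_normal ⊤)).inf_normal k.normal_Lay
  have := (ns.eq_or (L ⊓ 𝐍 A) ⟨inf_le_left, le_norm_iff.2 fun l hl s hs => ⟨cjm hl hs.1, ?_⟩⟩).resolve_left
    (ne_bot_mono (ns.syl_ne hL) (le_inf inf_le_right (inf_le_left.trans (inf_le_left.trans l))))
  · refine ns.not_abel (abel_of_forall fun a ha b hb => comm_of_sq (fun l hl => one (mm hl hl) ?_) ha hb)
    have e := h.sq hA (br_right hx (this.ge hl).2)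
    have e' := c (conj_mem_cj.2 (im hl)) l hl
    rw [br_def, mul_assoc l, mul_assoc l, mul_assoc, ← mul_assoc _ l, ← e', mul_assoc, ← mul_assoc,
      mul_eq_one_iff_eq_inv] at e
    exact e ▸ im (mm (conj_mem_cj.2 (im hl)) (conj_mem_cj.2 (im hl)))
  have c' := fun {a b} (ha : a ∈ L) (hb : b ∈ L) => c (conj_mem_cj.2 hb) a ha
  have d : l * (x * l * x⁻¹) ∈ 𝐍 A := h.norm_of_comm hA hx x1 (by
    conv_rhs => rw [c' hl hl]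
    simp only [inv_of_sq xx, mul_assoc, xx, mul_one, sq_left xx])
  have e : l * (x * l * x⁻¹) * ⁅s, x⁆ * (l * (x * l * x⁻¹))⁻¹ = ⁅l * s * l⁻¹, x⁆ := by
    calc _ = l * (x * l * x⁻¹ * s) * (x * s⁻¹ * x⁻¹ * (x * l⁻¹ * x⁻¹) * l⁻¹) := by simp only [br_def]; group
      _ = l * s * (x * (l * s⁻¹ * l⁻¹) * x⁻¹ * l⁻¹) := by rw [← c' hs.1 hl]; group
      _ = _ := by rw [← c' (im hl) (cjm hl (im hs.1))]; simp only [br_def]; group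
  have u := e ▸ conj_mem_of_norm d (br_right hx hs.2)
  by_cases u1 : ⁅l * s * l⁻¹, x⁆ = 1
  · exact h.norm_of_comm hA hx x1 (br_one.1 u1)
  · refine h.norm_of_comm hA u u1 ?_
    rw [br_def, mul_assoc (l * s * l⁻¹), mul_assoc (l * s * l⁻¹), mul_assoc (l * s * l⁻¹),
      c' (cjm hl hs.1) (im (cjm hl hs.1))]).ge⟩

theorem exists_L : ∃ L, L ⊴ ⊤ ∧ Ab2.NS L ∧ 𝐂 L = (⊥ : Subgroup G) := by
  obtain ⟨A, hA⟩ := h.ex
  obtain ⟨L, n, ns, c⟩ := Ab2.exists_simple h.F_bot (ne_bot_mono (h.nb hA) le_top) fun K L k l c => by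
    obtain ⟨a, ha, a1⟩ := exists_mem_ne_one (h.inf_ne (h.comp_normal k) k.ne_bot hA)
    have := ((h.comp_ns l).eq_or _ (normalIn_inf_left fun g hg => h.norm_of_comm hA ha.2 a1 (c ha.1 g hg))).resolve_left
      (h.inf_ne (h.comp_normal l) l.ne_bot hA)
    exact l.not_abel ((tic_abel h.toTIC hA).mono (this.ge.trans inf_le_right))
  exact ⟨L, n, ns, by simpa using c⟩

end Gl

theorem gs (n : L ⊴ ⊤) (ns : Ab2.NS L) (c : 𝐂 L = ⊥) (s : Ab2.SC W ⊤) (w1 : W ≠ ⊥) : Ab2.IF L W :=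
  have k := s.sa.simple (.inl Ab2.ly) ns le_top (le_top.trans n.norm) (by rw [c, inf_bot_eq]) w1
  (Ab2.gd_of_top k.2).iF Ab2.gw4 ns (s.mono k.1 le_top) w1

theorem gs_mem (k : Ab2.IF L W) (ht : t ∈ L) (ht' : t ∈ 𝐍 W) (tt : t * t = 1) : t ∈ W :=
  k.iv t ⟨ht, k.two t ⟨ht, ht'⟩ (Ab2.e2_of_sq tt)⟩ tt

/-- the centraliser of a connected component has odd order -/
theorem Ct.cent_odd (h : Ct 𝒞 A (𝐍 K)) (ns : Ab2.NS (⊤ : Subgroup G)) (ad : Adj 𝒞 A B) (c : A ⊔ B ≤ 𝐂 K)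
    (hS : Syl 2 S ⊤) (l : A ≤ S) : S ⊓ K = ⊥ := by
  have SH := (tic_norm h.toTIC h.hA hS.pi l).trans h.n
  have s1 := h.sc SH hS.pi (norm_cent le_rfl)
  have s2 := h.sc SH hS.pi le_rfl
  have nc : ∀ {X : Subgroup G}, X ≠ ⊥ → normalClosure (X : Set G) = ⊤ := fun {X} n =>
    (ns.eq_or _ (normalIn_top.2 normalClosure_normal)).resolve_left (ne_bot_mono n le_normalClosure)
  by_contra n
  have := SC2.pf Ab2.ly s1 s2 hS fun a ha b hb => (ha.2 b hb.2).symm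
  rw [nc n, nc (ne_bot_mono h.nb (le_inf l (le_sup_left.trans c))), ns.perf, ns.O, sup_bot_eq] at this
  have ab : Abel (S ⊓ 𝐂 K ⊓ (S ⊓ K)) := fun a ha b hb => ha.1.2 b hb.2.2
  have n2 : S ⊓ 𝐂 K ⊓ (S ⊓ K) ≠ ⊥ := fun e => ns.ne (le_bot_iff.1 (this.trans (by
    rw [e]; exact normalClosure_le_normal le_rfl)))
  have s := Ab2.sc_Om hS (inf_le_left.trans inf_le_left) ab fun a ha g _ e =>
    ⟨s1.2 a ha.1 g e, s2.2 a ha.2 g e⟩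
  have k := gs (.refl _) ns (by simpa using ns.center) s (by
    obtain ⟨x, hx, o⟩ := exists_mem_orderOf_eq Nat.prime_two
      ((hS.pi.le (inf_le_left.trans inf_le_left)).dvd_card n2)
    exact ne_bot_of_mem (ab.mem_Om.2 ⟨hx, o ▸ pow_orderOf_eq_one x⟩) fun e => by simp [e] at o)
  obtain ⟨a, ha, a1⟩ := exists_mem_ne_one h.nb
  exact a1 (h.cent_one ad.hR ad.hP ad.ne.symm ha (cent_symm (le_sup_right.trans c) (Om_le _ _ (gs_mem k trivial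
    (s.norm hS.pi ((Om_le _ _).trans (inf_le_left.trans inf_le_left)) le_top (l ha)) (h.sq h.hA ha))).2.2))

end CF.Geom.Tm
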