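import Cfsg.Agent.Geom.Tm10

/-! The degenerate cases and simplicity. -/

namespace CF.Geom.Tm
open Subgroup CF.BG CF.Xs
open scoped commutatorElement
set_option linter.unusedSectionVars false

universe u
variable {G : Type u} [Group G] [Finite G]
variable {𝒞 Φ : Set (Subgroup G)} {W A B D E F P R C V U T K L H S Y V₀ V₁ : Subgroup G}
  {a b c d e f g k t u v w x y z : G} {m q : ℕ}

theorem not_odd_of (n : K ⊴ ⊤) (hx : x * x = 1) (hy : y * y = 1) (h1 : x ∉ K) (h2 : y ∈ K) :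
    ¬ Odd (orderOf (x * y)) := fun o => h1 (tt_y hx hy o ▸ n.conj_mem trivial h2)

theorem cj_closure_le {X Y : Set G} (h : ∀ x ∈ X, g * x * g⁻¹ ∈ Y) : cj g (closure X) ≤ closure Y :=
  cj_le_iff.2 ((closure_le _).2 fun x hx => mem_cj_inv.2 (subset_closure (h x hx)))

/-- moving a conjugate into a Sylow subgroup of the centraliser -/
theorem sc_aux (hW : PiGrp {2} W) (ab : Abel W) (hS : PiGrp {2} S) (ha : a ∈ W) (g : G) :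
    ∃ T j, PiGrp {2} T ∧ S ⊓ 𝐂₁ (g * a * g⁻¹) ≤ T ∧ cj j W ≤ T ∧ g * a * g⁻¹ ∈ cj j W := by
  obtain ⟨T, hT, l⟩ := exists_syl_le (inf_le_right : S ⊓ 𝐂₁ (g * a * g⁻¹) ≤ _) hS.inf_left
  obtain ⟨k, hk, l'⟩ := hT.syl_cj_le (K := cj g W) (cj_cent1 g a ▸ cj_mono g (le_cent1_iff.2 (ab ha))) (hW.cj g)
  exact ⟨T, k * g, hT.pi, l, cj_cj k g W ▸ l', by
    rw [← cj_cj, ← cj_of_comm (mem_cent1.1 hk)]; exact conj_mem_cj.2 (conj_mem_cj.2 ha)⟩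

theorem Gl.mem_of_far (h : Gl 𝒞) (n : K ⊴ ⊤) (k1 : K ≠ ⊥) (hA : A ∈ 𝒞) (hx : x ∈ A)
    (far : ∀ B ∈ 𝒞, B ≠ A → x ∉ 𝐍 B) : x ∈ K := by
  by_contra xK
  obtain ⟨a, ha, a1⟩ := exists_mem_ne_one (h.inf_ne n k1 hA)
  have xx := h.sq hA hx
  have key : ∀ g : G, g * a * g⁻¹ ∈ 𝐍 A := fun g => by
    have y := conj_mem_cj (g := g).2 ha.2
    have yy := h.sq (h.cj g hA) y
    obtain ⟨i, z1, -, c1, c2⟩ := dih_even xx yy (not_odd_of n xx yy xK (n.conj_mem trivial ha.1))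
    have : ∀ {B}, B ∈ 𝒞 → x * (x * (g * a * g⁻¹)) ^ i ∈ B → x * (x * (g * a * g⁻¹)) ^ i ≠ 1 →
        g * a * g⁻¹ ∈ 𝐍 A := fun {B} hB k k1 => by
      have e : B = A := by_contra fun e => far B hB e (h.norm_of_comm hB k k1 (by rw [mul_assoc x _ x, c1]))
      exact h.norm_of_comm hA ((mul_mem_cancel_left hx).1 (e ▸ k)) z1 c2.symm
    obtain ⟨j, -, ⟨-, e⟩ | ⟨-, e⟩⟩ := dih_conj xx yy i
    · exact this (h.cj j hA) (e ▸ conj_mem_cj.2 hx) (e ▸ mt conj_eq_one_iff.1 fun e => xK (e ▸ one_mem _))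
    · exact this (h.cj j (h.cj g hA)) (e ▸ conj_mem_cj.2 y) (e ▸ by simpa using a1)
  have nL : normalClosure {a} ⊴ ⊤ := normalIn_top.2 normalClosure_normal
  have l : normalClosure {a} ≤ 𝐍 A := (closure_le _).2 fun y hy => by
    obtain ⟨_, rfl, hz⟩ := Group.mem_conjugatesOfSet_iff.1 hy
    obtain ⟨g, rfl⟩ := isConj_iff.1 hz
    exact key g
  exact a1 (eq_one_of_mem_bot h.o2 (O_le_O_of_normal nL _ (le_O (normalIn_inf_left l)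
    (tic_pi h.toTIC hA).inf_right ⟨subset_normalClosure rfl, ha.2⟩)))

/-- every member has only one direction -/
def One (𝒞 : Set (Subgroup G)) (m : ℕ) : Prop := ∀ {P R R'}, Adj 𝒞 P R → Adj 𝒞 P R' → Dl 𝒞 m P (P ⇂ R') R

/-- the weak closure of the directions -/
def WD (𝒞 : Set (Subgroup G)) (T : Subgroup G) : Subgroup G :=
  closure {d | d ∈ T ∧ ∃ P R, Adj 𝒞 P R ∧ d ∈ P ⇂ R}

theorem WD_le : WD 𝒞 T ≤ T := (closure_le _).2 fun _ h => h.1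

theorem mem_WD (s : Adj 𝒞 P R) (hd : d ∈ P ⇂ R) (hT : d ∈ T) : d ∈ WD 𝒞 T := subset_closure ⟨hT, P, R, s, hd⟩

theorem cj_WD (h : TIC 𝒞) (g : G) (T : Subgroup G) : cj g (WD 𝒞 T) = WD 𝒞 (cj g T) := by
  have k : ∀ (g : G) T, cj g (WD 𝒞 T) ≤ WD 𝒞 (cj g T) := fun g T => cj_closure_le fun x ⟨hx, P, R, s, k⟩ =>
    ⟨conj_mem_cj.2 hx, _, _, s.cj h g, cj_res g P R ▸ conj_mem_cj.2 k⟩
  exact le_antisymm (k g T) (le_cj_iff.2 (by simpa using k g⁻¹ (cj g T)))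

theorem WD_abs (h : TIC 𝒞) (hS : Syl 2 S ⊤) (hT : PiGrp {2} T) (l : WD 𝒞 S ≤ T) (s : Adj 𝒞 P R)
    (hd : d ∈ P ⇂ R) (hd' : d ∈ T) : d ∈ WD 𝒞 S := by
  obtain ⟨g, -, l'⟩ := hS.syl_le_cj le_top hT
  exact (eq_of_card_le (H := WD 𝒞 S) (K := WD 𝒞 (cj g S)) ((closure_le _).2 fun x hx => subset_closure
    ⟨l' (l (subset_closure hx)), hx.2⟩) (by rw [← cj_WD h, card_cj])).ge (mem_WD s hd (l' hd'))

namespace St
variable (h : St 𝒞 m q) (o : One 𝒞 m)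
include h o

theorem WD_sq (hT : PiGrp {2} T) : ∀ w ∈ WD 𝒞 T, w * w = 1 := closure_sq
  (fun _ ⟨_, _, _, s, k⟩ => h.sq s.hP k.1) fun d ⟨hd, P, R, s, k⟩ e ⟨he, P', R', s', k'⟩ => by
  have H := h.toTIC
  obtain ⟨g, l⟩ := tic_two H s.hP hT
  by_cases d1 : d = 1
  · simp [d1]
  by_cases e1 : e = 1
  · simp [e1]
  rcases adj_or H (h.cj g s.hP) s.hP k.1 d1 (l hd) with r | r <;>
    rcases adj_or H (h.cj g s.hP) s'.hP k'.1 e1 (l he) with r' | r'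
  · exact h.comm s.hP k.1 (r ▸ r' ▸ k'.1)
  · rw [← r] at r' l
    exact r'.comm H ((o r' s).eq.ge k) ⟨k'.1, l he⟩
  · rw [← r'] at r l
    exact (r.comm H ((o r s').eq.ge k') ⟨k.1, l hd⟩).symm
  · exact h.L5 (o r r) (o r' r) ⟨k.1, l hd⟩ ⟨k'.1, l he⟩ (hT.elt (mm hd he))

theorem WD_cent (hT : PiGrp {2} T) (s : Adj 𝒞 F R) (hf : f ∈ F) (f1 : f ≠ 1) (hf' : f ∈ WD 𝒞 T) :
    WD 𝒞 T ≤ 𝐂 (F ⇂ R) := (closure_le _).2 fun e he a ha => by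
  have c := comm_of_sq (h.WD_sq o hT) (subset_closure he) hf'
  obtain ⟨-, E, R', s', k⟩ := he
  by_cases e1 : e = 1
  · simp [e1]
  have n := h.norm_of_comm s.hP hf f1 c
  rcases adj_or h.toTIC s.hP s'.hP k.1 e1 n with r | r
  exacts [h.comm s.hP ha.1 (r ▸ k.1), r.comm h.toTIC ((o r s).eq.ge ha) ⟨k.1, n⟩]

theorem WD_res (hS : Syl 2 S ⊤) (s : Adj 𝒞 F R) (hf : f ∈ F) (f1 : f ≠ 1) (hf' : f ∈ WD 𝒞 S) :
    F ⇂ R ≤ WD 𝒞 S := fun _ ha => WD_abs h.toTIC hS ((hS.pi.le WD_le).sup (tic_pi h.toTIC s.hP).inf_left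
  (.inl (norm_of_cent (h.WD_cent o hS.pi s hf f1 hf')))) le_sup_left s ha (mem_sup_right ha)

omit o in
theorem one_aux (sB : Dl 𝒞 m F V B) (sP : Dl 𝒞 m F V P) (hp : a ∈ P ⇂ F) (p1 : a ≠ 1) (uu : u * u = 1)
    (uV : u ∈ 𝐂 V) (uF : u ∈ 𝐍 F) (uB : u ∉ 𝐍 B) (up : u * a = a * u) (ht : t ∈ F) (ut : u * t = t * u)
    (hy : y ∈ B) (hy' : y ∉ 𝐍 F) (c : u * t * y = y * (u * t)) : t ∈ V := by
  have H := h.toTIC
  have tt := h.sq sB.hA ht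
  have y1 : y ≠ 1 := fun e => hy' (e ▸ one_mem _)
  have tV : t ∈ 𝐂 V := fun a ha => h.comm sB.hA (sB.le ha) ht
  obtain ⟨b, hb, b1, cb⟩ := exists_fix1 (R := B ⇂ F) (fun _ k => h.sq sB.hD k.1) (mem_norm_res
    (h.norm_of_comm sB.hD hy y1 c) (mm uF (le_norm_self _ ht))) (sq_mul uu tt ut.symm) (h.nb (h.symm sB))
  have bb := h.sq sB.hD hb.1
  have aa := h.sq sP.hD hp.1
  have f := sB.br' H hb ht
  have ρF := RR_sq (fun _ => h.sq sB.hA) sB.le (mm (sB.rr H hb) (sP.rr H hp))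
  have ρu : u * (b * a * (b * a)) = b * a * (b * a) * u := by
    have e : u * (b * a) * u⁻¹ = ⁅b, t⁆ * (b * a) := by
      calc _ = t⁻¹ * (t * u * b) * (a * u⁻¹) := by group
        _ = t⁻¹ * b * t * (u * a * u⁻¹) := by rw [← ut, ← cb, ut]; group
        _ = _ := by
          rw [cj_of_comm up, ← mul_assoc, sB.cent H hb f, br_def, inv_of_sq tt, inv_of_sq bb]
          simp only [← mul_assoc, bb, one_mul]
    have c2 := (mm (sB.rr H hb) (sP.rr H hp)).1 _ f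
    rw [← mul_inv_eq_iff_eq_mul, ← conj_mul, e, mul_assoc, ← mul_assoc (b * a), ← c2, mul_assoc ⁅b, t⁆ (b * a),
      sq_left (h.sq sB.hA (sB.le f))]
  obtain ⟨i, hi⟩ : ∃ i, (b * a * (b * a)) ^ (4 * i + 1) = 1 := by
    obtain ⟨j, hj⟩ := h.L5o sB sP hb hp
    exact ⟨j * j + j, by
      rw [show 4 * (j * j + j) + 1 = (2 * j + 1) * (2 * j + 1) by ring, pow_mul, ← hj, pow_orderOf_eq_one, one_pow]⟩
  have gF := im (pow_mem ρF i)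
  have gu : ((b * a * (b * a)) ^ i)⁻¹ ∈ 𝐂₁ u := im (pow_mem (mem_cent1.2 ρu.symm) i)
  have e : b * (((b * a * (b * a)) ^ i)⁻¹ * a * ((b * a * (b * a)) ^ i)⁻¹⁻¹) = (b * a) ^ (4 * i + 1) := by
    rw [← pow_two, ← pow_mul, ← mul_assoc, ← mul_assoc, conj_pow_inv' (dih1 bb aa), inv_inv, mul_assoc _ b,
      ← pow_succ, ← pow_add]
    congr 1; ring
  have s' := sP.cj'' H (cent_le_norm _ gF) (h.cent_norm sP gF)
  have hp' := cj_mem_res hp (cent_le_norm _ gF)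
  have p1' : ((b * a * (b * a)) ^ i)⁻¹ * a * ((b * a * (b * a)) ^ i)⁻¹⁻¹ ≠ 1 := mt conj_eq_one_iff.1 p1
  have up' := mem_cent1.1 (cjm gu (mem_cent1.2 up.symm))
  have bp : b * (((b * a * (b * a)) ^ i)⁻¹ * a * ((b * a * (b * a)) ^ i)⁻¹⁻¹) =
      ((b * a * (b * a)) ^ i)⁻¹ * a * ((b * a * (b * a)) ^ i)⁻¹⁻¹ * b := by
    rw [← inv_of_sq (x := b * _) (by rw [e, ← pow_add, ← two_mul, pow_mul, pow_two, hi]), mul_inv_rev,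
      h.inv s'.hD hp'.1, inv_of_sq bb]
  generalize ((b * a * (b * a)) ^ i)⁻¹ * a * ((b * a * (b * a)) ^ i)⁻¹⁻¹ = p at *
  generalize cj ((b * a * (b * a)) ^ i)⁻¹ P = P' at *
  have ne : B ≠ P' := fun e => uB (h.norm_of_comm sB.hD (e ▸ hp'.1) p1' up'.symm)
  have ad : Adj 𝒞 B P' := .mk' sB.hD s'.hD ne hb.1 (h.norm_of_comm s'.hD hp'.1 p1' bp) b1
  obtain ⟨v, hv, e⟩ := h.surj' sB hy hy' (h.L4 s' sB ad ▸ ad.br' H hy ⟨hp'.1, h.norm_of_comm sB.hD hb.1 b1 bp.symm⟩)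
  have f' := s'.br' H hp' ht
  have k : ⁅v⁻¹ * p, u * t⁆ = ⁅p, t⁆ := by
    rw [br_mul, br_one.2 (mm uV tV _ (im hv)), mul_one, br_mul', br_one.2 up', one_mul,
      cj_of_comm (uV _ f').symm, cj_of_comm (h.comm sB.hA (im (sB.le hv)) (sB.le f'))]
  have := ((h.adj sB).symm H).fpf H hy' (sB.le f') (k ▸ mem_cent1.1 (commutatorElement_def (v⁻¹ * p) _ ▸ mm (cjm
    (mem_cent1.2 (comm_of_br_eq e)) (mem_cent1.2 c)) (im (mem_cent1.2 c))))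
  exact s'.fix H hp'.1 p1' ht (br_one.1 this).symm

theorem one_sc (hS : Syl 2 S ⊤) (ad : Adj 𝒞 A B) (l : A ≤ S) : Ab2.SC (WD 𝒞 S) ⊤ ∧ ¬ A ≤ WD 𝒞 S := by
  have H := h.toTIC
  have SA := tic_norm H ad.hP hS.pi l
  obtain ⟨g₀, hg₀, l₀⟩ := (hS.of_le SA le_top).syl_cj_le (inf_le_right : B ⇂ A ≤ _) (tic_pi H ad.hR).inf_left
  rw [cj_res, cj_of_norm hg₀] at l₀
  have ad₀ : Adj 𝒞 A (cj g₀ B) := by simpa only [cj_of_norm hg₀] using ad.cj H g₀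
  clear ad
  generalize cj g₀ B = B at *
  have s₀ := o ad₀ ad₀
  obtain ⟨K, eA, eD⟩ := h.clq hS.pi (s₀.le.trans l) s₀ l₀
  have mc : ∀ {D}, D ∈ Cq 𝒞 m A (A ⇂ B) S → D ∈ 𝒞 := by
    rintro D (rfl | s₁)
    exacts [s₀.hA, s₁.1.hD]
  have eW : Wq 𝒞 m A (A ⇂ B) S = WD 𝒞 S := le_antisymm (Wq_le (fun a ha => mem_WD ad₀ ha (l ha.1))
    fun D s k d hd => mem_WD ((h.adj s).symm H) hd (k hd)) ((closure_le _).2 fun d hd => by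
      have hd' : d ∈ WD 𝒞 S := subset_closure hd
      obtain ⟨dS, P, R, s, k⟩ := hd
      by_cases d1 : d = 1
      · exact d1 ▸ one_mem _
      rcases adj_or H s₀.hA s.hP k.1 d1 (SA dS) with rfl | r
      · exact le_Wq ((o s ad₀).eq.le k)
      · exact le_Wq' (o r ad₀) ((h.WD_res o hS (r.symm H) k.1 d1 hd').trans WD_le) ⟨k.1, SA dS⟩)
  rw [eW] at K eA eD
  refine ⟨Ab2.sc_of_syl hS WD_le (Ab2.ab_mk K.wsq) fun a ha g _ uS => ?_, fun e => ?_⟩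
  swap
  · obtain ⟨x, hx, hx'⟩ := K.ex (.inl rfl)
    exact hx' (e hx)
  obtain ⟨T, j, hT, l₁, l₂, hu⟩ := sc_aux (pi_of_sq K.wsq) K.wabel hS.pi ha g
  rw [cj_WD H] at l₂ hu
  generalize g * a * g⁻¹ = u at *
  have hS' := hS.cj_top j
  have uu := h.WD_sq o hS'.pi u hu
  have uz : u ∈ nz _ _ := eW ▸ nz_Cq (𝒞 := 𝒞) (m := m) H (SA uS) (cj_eq_self.1 (by
    have := (o (by simpa only [cj_of_norm (SA uS)] using ad₀.cj H u) ad₀).eq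
    rw [cj_res, cj_of_norm (SA uS), this])) (le_norm_self _ uS)
  have adj : ∀ {F R}, F ∈ Cq 𝒞 m A (A ⇂ B) S → R ∈ Cq 𝒞 m A (A ⇂ B) S → F ≠ R → Adj 𝒞 F R := fun hF hR ne =>
    ⟨mc hF, mc hR, ne, by
      rw [K.res hF hR ne, ← one_lt_card, K.card_eq hF (.inl rfl), eA, s₀.card]; exact h.one⟩
  have key : ∀ {F R}, F ∈ Cq 𝒞 m A (A ⇂ B) S → R ∈ Cq 𝒞 m A (A ⇂ B) S → F ≠ R → u ∈ 𝐍 F →
      ∃ f ∈ F, f ≠ 1 ∧ f ∈ WD 𝒞 (cj j S) := fun {F R} hF hR ne n => by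
    obtain ⟨f, hf, f1, c⟩ := exists_fix1 (R := F ⊓ WD 𝒞 S) (fun _ k => K.sq hF k.1) (mem_norm_inf n uz.2) uu
      (K.res hF hR ne ▸ (adj hF hR ne).nb)
    exact ⟨f, hf.1, f1, WD_abs H hS' hT l₂ (adj hF hR ne) ((K.res hF hR ne).ge hf)
      (l₁ ⟨WD_le hf.2, mem_cent1.2 c⟩)⟩
  by_cases all : ∀ D ∈ Cq 𝒞 m A (A ⇂ B) S, u ∈ 𝐍 D
  · refine (eq_of_card_le (K := WD 𝒞 (cj j S)) (eW ▸ Wq_le ?_ fun D s k => ?_) (by rw [← cj_WD H, card_cj])).ge hu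
    · obtain ⟨f, hf, f1, k⟩ := key (.inl rfl) (.inr ⟨s₀, l₀⟩) s₀.ne (SA uS)
      exact h.WD_res o hS' ad₀ hf f1 k
    · obtain ⟨f, hf, f1, k⟩ := key (.inr ⟨s, k⟩) (.inl rfl) s.ne.symm (all D (.inr ⟨s, k⟩))
      exact h.WD_res o hS' ((h.adj s).symm H) hf f1 k
  push Not at all
  obtain ⟨D, hD, n⟩ := all
  obtain ⟨y, hy, hy'⟩ := K.ex hD
  obtain ⟨F, t, σ, c1, c2, -⟩ := K.dih uz uu hD (fun e => n (cj_eq_self.1 e)) hy hy'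
  have ne := K.sw_ne hD (fun e => n (cj_eq_self.1 e.symm)) σ
  have uF := K.norm uz σ.hD σ.mem (fun e => σ.nW (e ▸ one_mem _)) c1
  obtain ⟨f, hf, f1, k⟩ := key σ.hD hD ne uF
  have aF := adj σ.hD hD ne
  by_cases ex : ∃ P p, Adj 𝒞 F P ∧ p ∈ P ⇂ F ∧ p ≠ 1 ∧ p ∈ WD 𝒞 (cj j S)
  · obtain ⟨P, p, r, hp, p1, k'⟩ := ex
    exact absurd ((K.res σ.hD hD ne).le (h.one_aux (o aF aF) (o r aF) hp p1 uu (h.WD_cent o hS'.pi aF hf f1 k hu) uF n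
      (comm_of_sq (h.WD_sq o hS'.pi) hu k') σ.mem c1 hy (fun e => hy' (K.inf hD σ.hD ne.symm hy e)) c2)).2 σ.nW
  refine absurd ((closure_le (𝐍 D)).2 (fun e he => ?_) hu) n
  have he' : e ∈ WD 𝒞 (cj j S) := subset_closure he
  obtain ⟨-, E, R, s, k'⟩ := he
  by_cases e1 : e = 1
  · exact e1 ▸ one_mem _
  have eF := h.norm_of_comm aF.hP hf f1 (comm_of_sq (h.WD_sq o hS'.pi) he' k)
  rcases adj_or H aF.hP s.hP k'.1 e1 eF with rfl | r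
  exacts [((o s aF).eq.le k').2, absurd ⟨E, e, r, ⟨k'.1, eF⟩, e1, he'⟩ ex]

end St

theorem Gl.not_one (h : Gl 𝒞) (s : St 𝒞 m q) (o : One 𝒞 m) : False := by
  obtain ⟨A, B, hA, hB, ne, e⟩ := s.ex
  have ad := s.adj ⟨hA, hB, ne, rfl, e⟩
  obtain ⟨L, n, ns, c⟩ := h.exists_L
  obtain ⟨S, hS, l, -⟩ := tic_syl h.toTIC hA
  obtain ⟨sc, k⟩ := s.one_sc o hS ad l
  have far : ∀ x ∈ A, x ∉ 𝐍 B → x ∈ L := fun x hx hx' => h.mem_of_far n ns.ne hA hx fun D hD ne e =>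
    hx' ((o ((Adj.mk' hA hD ne.symm hx e fun e => hx' (e ▸ one_mem _))) ad).eq.le ⟨hx, e⟩).2
  obtain ⟨x, hx, hx'⟩ := h.exists_notMem hA hB ne
  obtain ⟨a, ha, a1⟩ := exists_mem_ne_one ad.nb
  refine k fun y hy => gs_mem (gs n ns c sc (ne_bot_of_mem (mem_WD ad ha (l ha.1)) a1)) ?_
    (sc.norm hS.pi WD_le le_top (l hy)) (h.sq hA hy)
  by_cases e : y ∈ 𝐍 B
  · exact (mul_mem_cancel_right (far x hx hx')).1 (far _ (mm hy hx) fun k => hx' ((mul_mem_cancel_left e).1 k))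
  · exact far y hy e

end CF.Geom.Tm
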