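import Cfsg.Agent.Geom.Tm12
import Cfsg.Agent.Bender.Final
import Cfsg.Agent.Bender.App
import Cfsg.Agent.Perm.ONan4
import Mathlib.LinearAlgebra.Projectivization.Cardinality

/-! Strong embedding and the linear groups. -/

namespace CF.Geom.Tm
open Subgroup CF.BG CF.Xs
open scoped commutatorElement LinearAlgebra.Projectivization
set_option linter.unusedSectionVars false

universe u
variable {G : Type u} [Group G] [Finite G]
variable {𝒞 Φ : Set (Subgroup G)} {W A B D E F P R C V U T K L H S Y V₀ V₁ : Subgroup G}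
  {a b c d e f g k t u v w x y z : G} {m q : ℕ}

theorem Ct.nbr (h : Ct 𝒞 A H) (s : Adj 𝒞 A B) : Ct 𝒞 B H := by
  obtain ⟨t, ht, -, e, e'⟩ := s.exists_swap h.toTIC
  have tH := sup_le ((le_norm_self _).trans h.n) (h.ad s) ht
  refine ⟨h.toTIC, s.hR, by rw [← e, Ne, cj_eq_bot]; exact h.nb, by
    rw [← e, ← cj_norm]; exact cj_le_of_mem tH h.n, fun {C} r => ?_⟩
  have := h.ad (e' ▸ r.cj h.toTIC t)
  rwa [cj_le_iff, cj_of_mem (im tH)] at this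

theorem Ct.cj' (h : Ct 𝒞 A H) (hg : g ∈ H) : Ct 𝒞 (cj g A) H :=
  ⟨h.toTIC, h.cj g h.hA, by rw [Ne, cj_eq_bot]; exact h.nb, cj_norm g A ▸ cj_le_of_mem hg h.n, fun {C} r => by
    have := h.ad (by simpa only [cj_inv_cj] using r.cj h.toTIC g⁻¹)
    rwa [cj_le_iff, inv_inv, cj_of_mem hg] at this⟩

theorem Ct.se (h : Ct 𝒞 A H) (ns : Ab2.NS (⊤ : Subgroup G)) (ne : H ≠ ⊤)
    (h3 : ∀ B, Adj 𝒞 A B → ∀ a ∈ A ⇂ B, ∀ b ∈ B ⇂ A, a * b ≠ 1 → 𝐂₁ (a * b) ≤ H) :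
    Bender.IsBender G ∧ ∃ S, Syl 2 S ⊤ ∧ H = 𝐍 S := by
  have := ns.simple_top
  obtain ⟨z, hz, zc⟩ := h.zc ne
  obtain ⟨k, S, e⟩ := Bender.se_simple Bender.part2 (zc.se_simple fun e he ne c => by
    obtain ⟨g, rfl⟩ := isConj_iff.1 he
    have z1 : z * (g * z * g⁻¹) ≠ 1 := fun e => ne (by rw [← mul_right_inj z, e, zc.iv.sq])
    have e1 := Ab2.conj_ne_one zc.iv.ne g
    have n := h.norm_of_comm h.hA hz zc.iv.ne c.symm
    rcases adj_or h.toTIC h.hA (h.cj g h.hA) (conj_mem_cj.2 hz) e1 n with e | s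
    · exact fun x hx => h.n (h.norm_of_comm h.hA (mm hz (e ▸ conj_mem_cj.2 hz)) z1 (mem_cent1.1 hx))
    · exact h3 _ s z ⟨hz, h.norm_of_comm s.hR (conj_mem_cj.2 hz) e1 c⟩ _ ⟨conj_mem_cj.2 hz, n⟩ z1)
  exact ⟨k, S, syl_sylow_top S, e⟩

theorem norm_ne_top (ns : Ab2.NS (⊤ : Subgroup G)) (n : A ≠ ⊥) (ab : Abel A) : 𝐍 A ≠ ⊤ := fun e =>
  ns.not_abel ((ns.eq_or A ⟨le_top, e.ge⟩).resolve_left n ▸ ab)

theorem Gl.bender (h : Gl 𝒞) (ns : Ab2.NS (⊤ : Subgroup G)) (n : ∀ A B, ¬ Adj 𝒞 A B) : Bender.IsBender G :=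
  let ⟨A, hA⟩ := h.ex
  ((⟨h.toTIC, hA, h.nb hA, le_rfl, fun s => (n _ _ s).elim⟩ : Ct 𝒞 A (𝐍 A)).se ns
    (norm_ne_top ns (h.nb hA) (tic_abel h.toTIC hA)) fun B s => (n _ _ s).elim).1

theorem Ct.not_se (h : Ct 𝒞 A H) (ns : Ab2.NS (⊤ : Subgroup G)) (ne : H ≠ ⊤) (ad : Adj 𝒞 A C) :
    ∃ B, Adj 𝒞 A B ∧ ∃ a ∈ A ⇂ B, ∃ b ∈ B ⇂ A, a * b ≠ 1 ∧ ¬ 𝐂₁ (a * b) ≤ H := by
  by_contra! e
  obtain ⟨-, S, hS, rfl⟩ := h.se ns ne e
  have l : ∀ {A}, A ∈ 𝒞 → A ≤ 𝐍 S → A ≤ S := fun hA l x hx =>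
    hS.mem_of_norm trivial (l hx) ((tic_pi h.toTIC hA).elt hx)
  exact ad.ne (h.wc ad.hP ad.hR ((l ad.hR (h.ad ad)).trans (tic_norm h.toTIC h.hA hS.pi
    (l h.hA ((le_norm_self _).trans h.n))))).symm

theorem St.cover' (h : St 𝒞 m q) (e : m = q) (s : Adj 𝒞 A B) (hw : w ∈ NN A B) : w ∈ A ∨ ∃ x ∈ A, w ∈ cj x B := by
  have H := h.toTIC
  obtain ⟨a, ha, b, hb, rfl⟩ := (s.mem_NN H).1 hw
  exact (s.clq H).cover left_Ln (s.right_Ln H) s.ne (by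
    rw [s.inf_NN H, (h.dl_of_eq e s).card, h.card s.hP, e]) (s.inf_NN H ▸ ha) (s.inf_NN' H ▸ hb)

theorem St.nb' (h : St 𝒞 m q) (hA : A ∈ 𝒞) : A ≠ ⊥ :=
  let ⟨_, _, s⟩ := h.exists_dl hA
  ne_bot_mono (h.nb s) s.le

theorem Cs.ct_top (h : Cs 𝒞 m q) (e : m = q) (c : Ct 𝒞 A H) : H = ⊤ := by_contra fun ne => by
  obtain ⟨V, C, s⟩ := h.exists_dl c.hA
  obtain ⟨B, ad, a, ha, b, hb, n1, n⟩ := c.not_se h.ns ne (h.adj s)
  rcases h.cover' e ad (mm (mem_NN_left ha) (mem_NN_right hb)) with k | ⟨x, hx, k⟩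
  · exact n fun g hg => c.n (h.norm_of_comm c.hA k n1 (mem_cent1.1 hg))
  · exact n fun g hg => ((c.nbr ad).cj' (c.n (le_norm_self _ hx))).n
      (h.norm_of_comm (h.cj x ad.hR) k n1 (mem_cent1.1 hg))

/-- the stabiliser of a clique -/
def HL (𝒞 : Set (Subgroup G)) (A : Subgroup G) : Subgroup G := nz (Lam 𝒞 A) ⊥

theorem Tri.mem_HL (τ : Tri 𝒞) (h : TIC 𝒞) (hE : E ∈ Lam 𝒞 A) : g ∈ HL 𝒞 A ↔ cj g E ∈ Lam 𝒞 A :=
  ⟨fun k => nz_cj k hE, fun k => nz_of_fin (fun D hD => by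
    rw [← τ.Lam_eq h k]; exact Lam_cj h g (τ.Lam_eq h hE ▸ hD)) (by simp)⟩

theorem Tri.ct (τ : Tri 𝒞) (h : TIC 𝒞) (hA : A ∈ 𝒞) (n : A ≠ ⊥) : Ct 𝒞 A (HL 𝒞 A) :=
  ⟨h, hA, n, fun g hg => (τ.mem_HL h Lam_self).2 (.inl (cj_of_norm hg)),
    fun s x hx => (τ.mem_HL h (.inr s)).2 (.inr (by rwa [cj_of_mem hx]))⟩

theorem St.pn_conj (h : St 𝒞 m q) (p : Pn 𝒞 m A V₀ V₁) (s : Dl 𝒞 m A V₀ B) (s' : Dl 𝒞 m A V₁ C) :
    ∃ c ∈ C ⇂ A, ∃ b ∈ B ⇂ A, cj c V₀ = cj b V₁ := by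
  have H := h.toTIC
  obtain ⟨x, hx, hx'⟩ := p.m0.exists_not p.m1 p.ne
  obtain ⟨y, hy, hy'⟩ := p.m1.exists_not p.m0 p.ne.symm
  obtain ⟨c, hc, e⟩ := h.cover s.le s' (mul_mem_sup hx hy) fun e => hx' ((mul_mem_cancel_right hy).1 e)
  obtain ⟨b, hb, e'⟩ := h.cover s'.le s (sup_comm V₀ V₁ ▸ mul_mem_sup hx hy)
    fun e => hy' ((mul_mem_cancel_left hx).1 e)
  exact ⟨c, hc, b, hb, p.eq (s.cj' H hc.2).mb (s'.cj' H hb.2).mb
    (fun a ha => by rw [← cj_of_comm (s'.cent H hc ha.2).symm]; exact conj_mem_cj.2 ha.1)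
    (fun a ha => by rw [← cj_of_comm (s.cent H hb ha.1).symm]; exact conj_mem_cj.2 ha.2) e e'
    fun k => hx' ((mul_mem_cancel_right hy).1 k.2)⟩

theorem St.dir_tr (h : St 𝒞 m q) (ca : CA 𝒞 m A) (s : Mb 𝒞 m A V) (s' : Mb 𝒞 m A U) : ∃ g ∈ 𝐍 A, cj g V = U := by
  by_cases e : V = U
  · exact ⟨1, one_mem _, by rw [cj_one, e]⟩
  obtain ⟨B, s⟩ := s
  obtain ⟨C, s'⟩ := s'
  obtain ⟨c, hc, b, hb, e⟩ := h.pn_conj (h.pn ca s.mb s'.mb e) s s'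
  exact ⟨b⁻¹ * c, mm (im hb.2) hc.2, by rw [← cj_cj, e, cj_inv_cj]⟩

theorem St.nbr_tr (h : St 𝒞 m q) (tw : St.Two 𝒞 m q) (m4 : 4 ≤ m) (ca : CA 𝒞 m A) (s : Dl 𝒞 m A V B)
    (s' : Dl 𝒞 m A U C) : ∃ g ∈ 𝐍 A, cj g B = C := by
  obtain ⟨g, hg, rfl⟩ := h.dir_tr ca s.mb s'.mb
  obtain ⟨x, hx, rfl⟩ := h.delta tw m4 (s.cj' h.toTIC hg) s'
  exact ⟨x * g, mm (le_norm_self _ hx) hg, (cj_cj _ _ _).symm⟩

theorem St.ncard_Ln (h : St 𝒞 m q) (tw : St.Two 𝒞 m q) (s : Dl 𝒞 m A V B) : (Ln A B).ncard = q + 1 := by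
  have : Ln A B = insert A {D | ∃ k ∈ A, cj k B = D} := Set.ext fun D => ⟨fun hD => or_iff_not_imp_left.2 fun ne =>
    let ⟨x, hx, e⟩ := h.Ln_cases tw s hD (Ne.symm ne); ⟨x, hx, e.symm⟩, by
    rintro (rfl | ⟨k, hk, rfl⟩)
    exacts [left_Ln, cj_Ln ((h.adj s).right_Ln h.toTIC) (mem_sup_left hk)]⟩
  rw [this, Set.ncard_insert_of_notMem, ncard_cj, h.relIndex_A s]
  rintro ⟨k, hk, e⟩
  exact s.ne (by rw [← cj_inv_cj k B, e, cj_of_mem (im hk)])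

theorem ncard_line {F V : Type*} [Field F] [Finite F] [AddCommGroup V] [Module F V] [Module.Finite F V] {p r : ℙ F V} (ne : p ≠ r) :
    {z : ℙ F V | z.submodule ≤ p.submodule ⊔ r.submodule}.ncard = Nat.card F + 1 := by
  have e : Module.finrank F (p.submodule ⊔ r.submodule :) = 2 := by
    have := Submodule.finrank_sup_add_finrank_inf_eq p.submodule r.submodule
    rw [p.finrank_submodule, r.finrank_submodule] at this
    have lt : p.submodule ⊓ r.submodule < p.submodule := lt_of_le_of_ne inf_le_left fun e => ne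
      (Projectivization.submodule_injective (Submodule.eq_of_le_of_finrank_eq (inf_eq_left.1 e)
        (by rw [p.finrank_submodule, r.finrank_submodule])))
    have := Submodule.finrank_lt_finrank_of_lt lt
    rw [p.finrank_submodule] at this
    omega
  generalize p.submodule ⊔ r.submodule = U at *
  rw [← Projectivization.card_of_finrank_two F U e, ← Set.ncard_range_of_injective
    (Projectivization.map_injective U.subtype U.injective_subtype)]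
  congr 1
  ext z
  constructor
  · intro k
    induction z using Projectivization.ind with | h v hv =>
    have : v ∈ U := k (Submodule.mem_span_singleton_self v)
    exact ⟨.mk F ⟨v, this⟩ fun e => hv (congrArg Subtype.val e), rfl⟩
  · rintro ⟨z, rfl⟩
    induction z using Projectivization.ind with | h v hv =>
    exact (Submodule.span_singleton_le_iff_mem _ _).2 v.2

/-- `G` is `PSL_n(q)` with `n ≥ 3` -/
def IsL (G : Type*) [Group G] (q : ℕ) : Prop := ∃ (F : Type) (_ : Field F) (_ : Fintype F) (n : ℕ),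
  3 ≤ n ∧ Fintype.card F = q ∧ Nonempty (G ≃* Matrix.ProjectiveSpecialLinearGroup (Fin n) F)

theorem Cs.onan (h : Cs 𝒞 m q) (m4 : 4 ≤ m) (ca : ∀ A, CA 𝒞 m A) (am : AM 𝒞 m) (τ : Tri 𝒞) (hA : A ∈ 𝒞)
    (e : HL 𝒞 A = ⊤) : IsL G q := by
  have H := h.toTIC
  have tw : St.Two 𝒞 m q := .inr h.two
  have all : ∀ {P R}, P ∈ 𝒞 → R ∈ 𝒞 → P ≠ R → Adj 𝒞 P R := fun hP hR ne => by
    obtain ⟨g, rfl⟩ := h.tr hA hP
    obtain ⟨k, rfl⟩ := h.tr hA hR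
    exact τ.adj H ((τ.mem_HL H Lam_self).1 (e ▸ trivial)) ((τ.mem_HL H Lam_self).1 (e ▸ trivial)) ne
  let _ : MulAction G 𝒞 :=
    { smul := fun g P => ⟨cj g P.1, h.cj g P.2⟩
      one_smul := fun P => Subtype.ext (cj_one _)
      mul_smul := fun g k P => Subtype.ext (cj_cj _ _ _).symm }
  have fx : ∀ (g : G) (P : 𝒞), g • P = P ↔ g ∈ 𝐍 P.1 := fun g P => Subtype.ext_iff.trans cj_eq_self
  obtain ⟨V, B, s⟩ := h.exists_dl hA
  have o : Perm.ON (X := 𝒞) fun P => P.1 := by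
    refine ⟨fun P R P' R' ne ne' => ?_, fun g hg => ?_, fun k => (fx _ _).2 (le_norm_self _ k), fun _ _ => rfl,
      fun {P} _ _ => h.comm P.2, ⟨A, hA⟩, ⟨B, s.hD⟩, fun e => s.ne (congrArg Subtype.val e), ?_⟩
    · obtain ⟨g, e⟩ := h.tr P.2 P'.2
      obtain ⟨k, hk, e'⟩ := h.nbr_tr tw m4 (ca _) (am (e ▸ (all P.2 R.2 (mt Subtype.ext ne)).cj H g))
        (am (all P'.2 R'.2 (mt Subtype.ext ne')))
      exact ⟨k * g, Subtype.ext ((cj_cj _ _ _).symm.trans (e ▸ cj_of_norm (e ▸ hk))),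
        Subtype.ext ((cj_cj _ _ _).symm.trans e')⟩
    · have := (h.ns.eq_or _ (normalIn_top.2 (MonoidHom.normal_ker (MulAction.toPermHom G 𝒞)))).resolve_right fun e =>
        s.ne (h.wc s.hD hA fun x hx => (fx x ⟨B, s.hD⟩).1 (Equiv.congr_fun (MonoidHom.mem_ker.1 (e.ge trivial)) _))
      exact eq_one_of_mem_bot this (Equiv.ext hg)
    · obtain ⟨a, ha, a1⟩ := exists_mem_ne_one (h.nb s)
      exact ⟨a, s.le ha, a1, (fx _ _).2 (s.le_norm ha)⟩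
  obtain ⟨F, _, _, n, ε, L, n3, nL, cL, ⟨ι⟩, ln⟩ := o.main
  have ne : (⟨A, hA⟩ : 𝒞) ≠ ⟨B, s.hD⟩ := fun e => s.ne (congrArg Subtype.val e)
  obtain rfl := (h.ns.eq_or L (normalIn_top.2 nL)).resolve_left fun e => h.ns.ne (by
    rw [← cL, e]; exact (eq_top_iff.2 fun g _ a ha => by simp [mem_bot.1 ha]).symm)
  refine ⟨F, inferInstance, inferInstance, n, n3, Nat.add_right_cancel (m := 1) ?_, ⟨topEquiv.symm.trans ι⟩⟩
  rw [← h.ncard_Ln tw s, ← Nat.card_eq_fintype_card, ← ncard_line (ε.injective.ne ne),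
    ← Set.ncard_preimage_of_injective_subset_range ε.injective (by simp),
    ← Set.ncard_image_of_injective _ Subtype.val_injective]
  congr 1
  ext D
  constructor
  · rintro ⟨⟨D, hD⟩, k, rfl⟩
    by_cases e : A = D
    · exact e ▸ left_Ln
    · exact h.mem_Ln tw m4 s (h.dl' s hD e fun a ha =>
        (fx _ _).1 ((ln _ _ _ ne).2 k a (s.le ha) ((fx _ _).2 (s.le_norm ha))))
  · intro hD
    refine ⟨⟨D, Ln_mem H hA hD⟩, (ln _ _ _ ne).1 fun a ha k => (fx _ _).2 ?_, rfl⟩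
    exact ((h.adj s).clq H).wn hD (mem_NN_left ⟨ha, (fx _ _).1 k⟩)

end CF.Geom.Tm
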