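import Cfsg.Agent.Geom.Tm13

/-! The planar case. -/

namespace CF.Geom.Tm
open Subgroup CF.BG CF.Xs
open scoped commutatorElement
set_option linter.unusedSectionVars false

universe u
variable {G : Type u} [Group G] [Finite G]
variable {𝒞 Φ : Set (Subgroup G)} {W A B D E F P R C V U T K L H S Y V₀ V₁ B' C' U' V' : Subgroup G}
  {a b c d f g k t u v w x y z : G} {m q : ℕ}

/-- there are no triangles -/
def NT (𝒞 : Set (Subgroup G)) : Prop := ∀ {A B C}, Adj 𝒞 A B → Adj 𝒞 A C → Adj 𝒞 B C → A ⇂ B = A ⇂ C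

theorem Sw.inv (s : Sw Φ W P R D t) (K : Clq Φ W) {D' : Subgroup G} {t' : G} (s' : Sw Φ W P R D' t') :
    t * (t * t') * t⁻¹ = (t * t')⁻¹ := dih1 (K.sq s.hD s.mem) (K.sq s'.hD s'.mem)

namespace St
variable (h : St 𝒞 m q) (e : m = q)
include h e

theorem dir_eq (ca : CA 𝒞 m A) (s : Mb 𝒞 m A V) (s' : Mb 𝒞 m A U) (hx : x ∈ V) (hx' : x ∈ U) (x1 : x ≠ 1) :
    V = U := by_contra fun ne => x1 (eq_one_of_mem_bot (card_eq_one.1 (Nat.eq_of_mul_eq_mul_right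
      (zero_lt_one.trans h.one_q) (by rw [h.card_inf s s' (ca V U s s' ne), one_mul, e]))) (mem_inf.2 ⟨hx, hx'⟩))

theorem dir_cov (ca : CA 𝒞 m A) (s : Dl 𝒞 m A V B) (s₁ : Mb 𝒞 m A U) (s₂ : Mb 𝒞 m A U') (n₁ : U ≠ V)
    (n₂ : U' ≠ V) : ∃ b ∈ B ⇂ A, cj b U = U' := by
  obtain ⟨x, hx, hx'⟩ := s₂.exists_not s.mb n₂
  obtain ⟨b, hb, k⟩ := h.cover s₁.le s ((ca _ _ s₁ s.mb n₁).ge (s₂.le hx)) hx'
  exact ⟨b, hb, h.dir_eq e ca (s₁.cj h.toTIC hb.2) s₂ k hx fun e => hx' (e ▸ one_mem _)⟩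

variable (m4 : 4 ≤ m)
include m4

theorem pair_tr (ca : CA 𝒞 m A) (s : Dl 𝒞 m A V B) (r : Dl 𝒞 m A U C) (ne : U ≠ V) (s' : Dl 𝒞 m A V' B')
    (r' : Dl 𝒞 m A U' C') (ne' : U' ≠ V') : ∃ g ∈ 𝐍 A, cj g B = B' ∧ cj g C = C' := by
  have H := h.toTIC
  obtain ⟨g, hg, rfl⟩ := h.nbr_tr (.inl e) m4 ca s s'
  obtain rfl := (s.cj' H hg).eq.symm.trans s'.eq
  obtain ⟨b, hb, rfl⟩ := h.dir_cov e ca s' (r.cj' H hg).mb r'.mb (mt cj_inj.1 ne) ne'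
  obtain ⟨x, hx, rfl⟩ := h.delta (.inl e) m4 ((r.cj' H hg).cj' H hb.2) r'
  obtain ⟨v, hv, u, hu, rfl⟩ := (h.mem_sup s.hA s'.le r'.le).1 ((ca _ _ s'.mb r'.mb ne'.symm).ge hx)
  refine ⟨v * (b * g), mm (le_norm_self _ (s'.le hv)) (mm hb.2 hg), ?_, ?_⟩
  · rw [← cj_cj, ← cj_cj, cj_of_mem hb.1, cj_of_norm (s'.le_norm hv)]
  · rw [← cj_cj, ← cj_cj, ← cj_cj, cj_of_norm (((r.cj' H hg).cj' H hb.2).le_norm hu)]

theorem col (s : Adj 𝒞 A B) (s' : Adj 𝒞 A C) (k : A ⇂ B = A ⇂ C) (ne : B ≠ C) : Adj 𝒞 B C ∧ B ⇂ C = B ⇂ A :=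
  have := h.adj_same (.inl e) m4 (h.dl_of_eq e s) (k ▸ h.dl_of_eq e s') ne
  ⟨h.adj this, this.eq⟩

theorem tri_or (ca : ∀ A, CA 𝒞 m A) : Tri 𝒞 ∨ NT 𝒞 := or_iff_not_imp_right.2 fun nt => by
  simp only [NT, not_forall] at nt
  obtain ⟨A, B, C, s, s', r, ne⟩ := nt
  intro A' B' C' k k' ne'
  by_cases e' : A' ⇂ B' = A' ⇂ C'
  · exact (h.col e m4 k k' e' ne').1
  obtain ⟨g, rfl⟩ := h.tr s.hP k.hP
  obtain ⟨j, -, rfl, rfl⟩ := h.pair_tr e m4 (ca _) (h.dl_of_eq e (s.cj h.toTIC g)) (h.dl_of_eq e (s'.cj h.toTIC g))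
    (by rw [← cj_res, ← cj_res]; exact mt cj_inj.1 (Ne.symm ne)) (h.dl_of_eq e k) (h.dl_of_eq e k')
    (Ne.symm e')
  exact (r.cj h.toTIC g).cj h.toTIC j

theorem nt_odd (ca : ∀ A, CA 𝒞 m A) (hP : P ∈ 𝒞) (hR : R ∈ 𝒞) (ne : P ≠ R) (n : ¬ Adj 𝒞 P R) (hx : x ∈ P)
    (x1 : x ≠ 1) (hy : y ∈ R) (y1 : y ≠ 1) : Odd (orderOf (x * y)) := by
  have H := h.toTIC
  by_contra ev
  have xx := h.sq hP hx
  have yy := h.sq hR hy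
  obtain ⟨i, w1, ww, c1, c2⟩ := dih_even xx yy ev
  have k : ∃ E ∈ 𝒞, x * (x * y) ^ i ∈ E := by
    obtain ⟨g, -, ⟨-, e⟩ | ⟨-, e⟩⟩ := dih_conj xx yy i
    exacts [⟨_, h.cj g hP, e ▸ conj_mem_cj.2 hx⟩, ⟨_, h.cj g hR, e ▸ conj_mem_cj.2 hy⟩]
  generalize (x * y) ^ i = w at *
  have wP := h.norm_of_comm hP hx x1 c1
  have wR := h.norm_of_comm hR hy y1 c2
  have n' : w ∉ P := fun k => n (.mk' hP hR ne k wR w1)
  obtain ⟨E, hE, k⟩ : ∃ E ∈ 𝒞, w ∈ E := by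
    obtain ⟨E, hE, k⟩ := k
    have k1 : x * w ≠ 1 := fun e => n' (eq_inv_of_mul_eq_one_right e ▸ im hx)
    have kP := mm (le_norm_self _ hx) wP
    rcases adj_or H hP hE k k1 kP with rfl | s
    · exact absurd ((mul_mem_cancel_left hx).1 k) n'
    rcases h.cover' e s (w := w) (by
      simpa only [sq_left xx] using mm (mem_NN_left ⟨hx, h.norm_of_comm hE k k1 (by rw [mul_assoc, c1])⟩)
        (mem_NN_right ⟨k, kP⟩)) with j | ⟨g, -, j⟩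
    exacts [⟨P, hP, j⟩, ⟨_, h.cj g hE, j⟩]
  have s : Adj 𝒞 E P := .mk' hE hP (fun e => n' (e ▸ k)) k wP w1
  have s' : Adj 𝒞 E R := .mk' hE hR (fun e => n ((Adj.mk' hR hP ne.symm (e ▸ k) wP w1).symm H)) k wR w1
  exact n (h.col e m4 s s' (h.dir_eq e (ca E) (h.dl_of_eq e s).mb (h.dl_of_eq e s').mb ⟨k, wP⟩ ⟨k, wR⟩ w1) ne).1

theorem nt_uniq (nt : NT 𝒞) (ne : B ≠ C) (n : ¬ Adj 𝒞 B C) (s : Adj 𝒞 B P) (s' : Adj 𝒞 B R) (k : B ⇂ P = B ⇂ R)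
    (r : Adj 𝒞 C P) (r' : Adj 𝒞 C R) : P = R := by_contra fun d => by
  have H := h.toTIC
  obtain ⟨a, j⟩ := h.col e m4 s s' k d
  exact n (h.col e m4 (s.symm H) (r.symm H) (j.symm.trans (nt (r.symm H) a r').symm) ne).1

theorem not_nt (ca : ∀ A, CA 𝒞 m A) (two : ∀ A ∈ 𝒞, ∀ V, ∃ U, Mb 𝒞 m A U ∧ V ≠ U) (nt : NT 𝒞) : False := by
  have H := h.toTIC
  have tw : Two 𝒞 m q := .inl e
  obtain ⟨A, B, hA, hB, ne, c⟩ := h.ex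
  have s : Dl 𝒞 m A (A ⇂ B) B := ⟨hA, hB, ne, rfl, c⟩
  have ad := h.adj s
  have K := ad.clq H
  obtain ⟨x, hx, hx'⟩ := h.exists_notMem hA hB ne
  obtain ⟨y, hy, hy'⟩ : ∃ y ∈ A, ¬ (x * y ∈ 𝐍 B ∨ y ∈ 𝐍 B) := by_contra fun k => by
    have := relIndex_eq_two_iff_exists_notMem_and'.2 ⟨x, hx, hx', fun y hy => by_contra fun j => k ⟨y, hy, j⟩⟩
    rw [h.relIndex_A s] at this
    omega
  obtain ⟨D, D', t, t', σ, σ', -, -, -, dd⟩ := K.trans left_Ln (ad.right_Ln H) ne hx (mt (ad.memNN H hx).1 hx') hy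
    (mt (ad.memNN H hy).1 fun k => hy' (.inr k))
  have κ := K.kap left_Ln (ad.right_Ln H) ne σ σ' (dd (mt (ad.memNN H (mm hx hy)).1 fun k => hy' (.inl k)))
  have tκ := σ.inv K σ'
  generalize t * t' = κ₀ at *
  have tt' := K.sq σ.hD σ.mem
  obtain ⟨U, C, r, nU, kC⟩ : ∃ U C, Dl 𝒞 m A U C ∧ U ≠ A ⇂ B ∧ κ₀ ∈ 𝐍 C := by
    have κV := mem_norm_res κ.nP κ.nR
    obtain ⟨U, k, nU⟩ := two A hA (A ⇂ B)
    obtain ⟨b, hb, e₁⟩ := h.dir_cov e (ca A) s k (k.cj H κ.nP) nU.symm fun j => nU (cj_inj.1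
      ((cj_of_norm κV).trans j.symm))
    obtain ⟨w, hw, j⟩ := fix_odd (tic_pi H hB).inf_left (mem_norm_res κ.nR κ.nP) κ.odd hb e₁.symm
    obtain ⟨C, r⟩ := k.cj H hw.2
    obtain ⟨z, hz, e₂⟩ := h.delta tw m4 r (r.cj'' H κ.nP j)
    obtain ⟨w', hw', j'⟩ := fix_odd (tic_pi H hA) κ.nP κ.odd hz e₂
    exact ⟨_, _, r.cj'' H (le_norm_self _ hw') (h.cent_norm r (tic_abel H hA hw')), fun j => nU (cj_inj.1
      ((cj_of_norm (mem_norm_res hw.2 (le_norm_self _ hw.1))).trans j.symm)), j'⟩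
  have aC := h.adj r
  have nBC : B ≠ C := fun j => nU (r.eq.symm.trans (j ▸ rfl))
  have nad : ¬ Adj 𝒞 B C := fun j => nU (r.eq.symm.trans (nt ad aC j).symm)
  have aT : Adj 𝒞 B (cj t C) := σ.pr ▸ aC.cj H t
  have kT : κ₀ ∈ 𝐍 (cj t C) := by
    have := (mem_norm_cj (g := t)).2 (im kC)
    rwa [← conj_inv, tκ, inv_inv] at this
  obtain ⟨y, hy, y1⟩ := exists_mem_ne_one aT.nb
  obtain ⟨c, hc, c1⟩ := exists_mem_ne_one (aC.symm H).nb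
  have o := h.nt_odd e m4 ca hB r.hD nBC nad hy.1 y1 hc.1 c1
  have yy := h.sq hB hy.1
  have cc := h.sq r.hD hc.1
  have τ1 : cj (tt y c) B = C := h.ti (h.cj _ hB) r.hD ((congrArg (· ∈ _) (tt_x yy cc o)).mp (conj_mem_cj.2 hy.1)) hc.1 c1
  have τ2 : cj (tt y c) C = B := h.ti (h.cj _ r.hD) hB ((congrArg (· ∈ _) (tt_y yy cc o)).mp (conj_mem_cj.2 hc.1)) hy.1 y1
  have p1 : Adj 𝒞 B (cj (tt y c) A) := τ2 ▸ (aC.symm H).cj H _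
  have p2 : Adj 𝒞 C (cj (tt y c) A) := τ1 ▸ (ad.symm H).cj H _
  have pd : B ⇂ cj t C = B ⇂ cj (tt y c) A := h.dir_eq e (ca B) (h.dl_of_eq e aT).mb (h.dl_of_eq e p1).mb hy
    ⟨hy.1, (congrArg (· ∈ _) (tt_y yy cc o)).mp (mem_norm_cj.2 hc.2)⟩ y1
  generalize cj (tt y c) A = P at *
  have kP : κ₀ ∈ 𝐍 P := cj_eq_self.1 (h.nt_uniq e m4 nt nBC nad (cj_of_norm κ.nR ▸ p1.cj H κ₀) p1 (by
    rw [← pd, ← cj_of_norm (mem_norm_res κ.nR kT), pd, cj_res, cj_of_norm κ.nR]) (cj_of_norm kC ▸ p2.cj H κ₀) p2)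
  have aCT : Adj 𝒞 C (cj t C) := by
    have dT := h.dl_of_eq e aT
    obtain ⟨b, hb, rfl⟩ := h.delta tw m4 dT (pd ▸ h.dl_of_eq e p1)
    obtain ⟨a, ha, j⟩ := fix_coset (tic_abel H hB) dT.le κ.nR (mem_norm_res κ.nR kT) (fun a ha => κ.fR0 a ha.1)
      (im hb) ⟨br_left (im hb) κ.nR, by
        rw [← cj_norm, mem_cj] at kP
        rw [br_def, inv_inv]; exact mm kP (im kT)⟩
    rw [inv_mul_eq_one.1 (κ.fR0 _ (mm (im ha.1) (im hb)) j)] at ha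
    rwa [cj_of_norm (inv_mem_iff.1 ha.2)] at p2
  have K' := aCT.clq H
  obtain ⟨y, hy, hy'⟩ := K'.ex left_Ln
  obtain ⟨F, s₀, ρ, c1, c2, -⟩ := K'.dih (aCT.nz_swap H rfl (by rw [cj_cj, tt', cj_one])) tt' left_Ln aCT.ne.symm hy hy'
  have dD := h.dl_of_Ln s σ.hD (K.sw_ne left_Ln ne σ).symm
  have aF := h.adj (h.dl_of_Ln (h.dl_of_eq e aCT) ρ.hD (K'.sw_ne left_Ln aCT.ne ρ).symm)
  have nDC : C ≠ D := fun j => nU (r.eq.symm.trans (j ▸ dD.eq))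
  refine nU (r.eq.symm.trans ((nt aC (h.adj dD) ?_).trans dD.eq))
  by_cases dF : D = F
  · exact dF ▸ aF
  have t1 : t ≠ 1 := fun j => σ.nW (j ▸ one_mem _)
  have s1 : s₀ ≠ 1 := fun j => ρ.nW (j ▸ one_mem _)
  have tF := h.norm_of_comm aF.hR ρ.mem s1 c1
  have aDF : Adj 𝒞 D F := .mk' dD.hD aF.hR dF σ.mem tF t1
  have nD : t * s₀ ∉ D := fun j => dF (h.ti dD.hD aF.hR ((mul_mem_cancel_left σ.mem).1 j) ρ.mem s1)
  obtain ⟨x, hx, j⟩ := (h.cover' e aDF (mm (mem_NN_left ⟨σ.mem, tF⟩)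
    (mem_NN_right ⟨ρ.mem, h.norm_of_comm dD.hD σ.mem t1 c1.symm⟩))).resolve_left nD
  have d' := (h.dl_of_eq e aDF).cj'' H (le_norm_self _ hx) (h.cent_norm (h.dl_of_eq e aDF) (tic_abel H dD.hD hx))
  have nF : F ≠ cj x F := fun i => dF (h.ti dD.hD aF.hR σ.mem ((mul_mem_cancel_right ρ.mem).1 (i ▸ j)) t1)
  obtain ⟨a₁, e₁⟩ := h.col e m4 aDF (h.adj d') d'.eq.symm nF
  rcases adj_or H aC.hR d'.hD j (fun i => nD (i ▸ one_mem _)) (h.norm_of_comm aC.hR hy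
    (fun i => hy' (i ▸ one_mem _)) c2) with i | i
  · exact (i ▸ h.adj d').symm H
  · exact (h.col e m4 (aF.symm H) (aDF.symm H) ((nt (aF.symm H) a₁ i).trans e₁) nDC).1

end St

theorem Cs.plane (h : Cs 𝒞 m q) (e : m = q) (m4 : 4 ≤ m) (ca : ∀ A, CA 𝒞 m A) : IsL G q := by
  have τ : Tri 𝒞 := (h.tri_or e m4 ca).resolve_right (h.not_nt e m4 ca h.two)
  obtain ⟨A, -, hA, -⟩ := h.ex
  exact h.onan m4 ca (h.dl_of_eq e) τ hA (h.ct_top e (τ.ct h.toTIC hA (h.nb' hA)))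

end CF.Geom.Tm
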