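import Cfsg.Agent.Geom.Tm15
import Cfsg.Agent.Ab2.RD
import Cfsg.Agent.ZD.Rk1

/-! Four-groups: the Sylow 2-subgroup is dihedral of order eight. -/

namespace CF.Geom.Tm
open Subgroup CF.BG CF.Xs
open scoped commutatorElement Pointwise
set_option linter.unusedSectionVars false

universe u
variable {G : Type u} [Group G] [Finite G]
variable {𝒞 Φ : Set (Subgroup G)} {W A B C D E F P R V U T K L H S Y N V' B' : Subgroup G}
  {a b c d e f g k t u v w x y z b' : G} {m q : ℕ}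

theorem half (l : V ≤ A) (c : ♯A = ♯V * 2) (hx : x ∈ A) (hy : y ∈ A) (h1 : x ∉ V) (h2 : y ∉ V) : x * y ∈ V := by
  have i : V.relIndex A = 2 := by
    have := card_mul_relIndex l
    exact Nat.eq_of_mul_eq_mul_left Nat.card_pos (this.trans c)
  exact (mul_mem_iff_of_index_two (H := V.subgroupOf A) i (a := ⟨x, hx⟩) (b := ⟨y, hy⟩)).2 (iff_of_false h1 h2)

theorem two_eq (c : ♯V = 2) (hx : x ∈ V) (hy : y ∈ V) (h1 : x ≠ 1) (h2 : y ≠ 1) : x = y := by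
  have := half (V := ⊥) bot_le (by rw [c, card_bot]) (im hx) hy (by simpa using h1) (by simpa using h2)
  exact inv_mul_eq_one.1 (mem_bot.1 this)

theorem comm_half (l : V ≤ A) (c : ♯A = ♯V * 2) (hx : x ∈ A) (h1 : x ∉ V) (k : g ∈ 𝐂 V) (k' : x * g = g * x) :
    g ∈ 𝐂 A := fun y hy => by
  by_cases h2 : y ∈ V
  · exact k y h2
  have := k _ (half l c (im hx) hy (fun e => h1 (by simpa using im e)) h2)
  calc y * g = x * (x⁻¹ * y * g) := by group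
    _ = x * g * x⁻¹ * y := by rw [this]; group
    _ = g * y := by rw [k']; group

namespace St
variable (h : St 𝒞 2 2)
include h

theorem same2 (s : Dl 𝒞 2 A V B) (s' : Dl 𝒞 2 A V E) (hb : b ∈ B ⇂ A) (b1 : b ≠ 1) (he : e ∈ E ⇂ A) (e1 : e ≠ 1)
    (p : PiElt {2} (b * e)) : ∃ x ∈ A, e = x * b * x⁻¹ := by
  obtain ⟨x, hx, rfl⟩ := h.line1 (.inl rfl) s s' hb b1 he e1 (h.L5 s s' hb he p)
  exact ⟨x, hx, two_eq (h.card0 s') he (cj_mem_res hb (le_normalizer hx)) e1 (Ab2.conj_ne_one b1 x)⟩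

theorem key2 (s : Dl 𝒞 2 A V B) (s' : Dl 𝒞 2 A V E) (hb : b ∈ B ⇂ A) (he : e ∈ E ⇂ A) (e1 : e ≠ 1)
    (c : u * e = e * u) (uV : u ∈ 𝐂 V) (br : ⁅u, b⁆ ∈ V) : u * b = b * u := by
  have H := h.toTIC
  by_cases b1 : b = 1
  · simp [b1]
  have bb := H.sq s.hD hb.1
  have ee := H.sq s'.hD he.1
  obtain ⟨n, o, hn⟩ : ∃ n, Odd n ∧ (b * e) ^ n * (b * e) ^ n = 1 := ⟨_, h.L5o s s' hb he, by
    rw [← (Commute.refl _).mul_pow, pow_orderOf_eq_one]⟩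
  obtain ⟨g, hg, k⟩ := dih_conj bb ee n
  have k := (k.resolve_left fun k => Nat.not_even_iff_odd.2 o k.1).2
  have wV : b * e ∈ 𝐂 V := mm (fun a ha => s.cent H hb ha) fun a ha => s'.cent H he ha
  have gA : g ∈ 𝐍 A := zpowers_le.2 (mm hb.2 he.2) hg
  have gV : g ∈ 𝐍 V := cent_le_norm _ (zpowers_le.2 wV hg)
  obtain ⟨x, hx, k'⟩ := h.same2 s (s'.cj'' H gA gV) hb b1 (cj_mem_res he gA) (Ab2.conj_ne_one e1 g) (by
    rw [← k, sq_left bb]; exact piElt_of_four (by rw [hn, one_mul]))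
  have jV : (b * e) ^ n ∈ V := by
    have : (b * e) ^ n = b * ⁅x, b⁆ * b⁻¹ := by
      rw [← sq_left bb ((b * e) ^ n), k, k', br_def, mul_assoc b _ b⁻¹, mul_assoc _ b⁻¹ b⁻¹, ← mul_inv_rev, bb]; group
    rw [this]; exact conj_mem_of_norm (cent_le_norm _ fun a ha => s.cent H hb ha) (s.br H hb hx)
  have e2 : u * (b * e) * u⁻¹ = ⁅u, b⁆ * (b * e) := by
    rw [br_def]; calc u * (b * e) * u⁻¹ = u * b * (e * u⁻¹) := by group
      _ = u * b * (u⁻¹ * e) := by rw [(Commute.inv_left c).eq]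
      _ = _ := by group
  have e3 := congrArg (· ^ n) e2
  simp only [conj_pow] at e3
  rw [Commute.mul_pow (wV _ br), cj_of_comm (uV _ jV).symm, right_eq_mul] at e3
  obtain ⟨j, rfl⟩ := o
  have zz := H.sq s.hA (s.le br)
  rw [pow_succ, pow_mul, pow_two, zz, one_pow, one_mul] at e3
  exact br_one.1 e3

theorem half' (s : Dl 𝒞 2 A V B) : ♯A = ♯V * 2 := by rw [h.card s.hA, s.card]

theorem two_norm (s : Dl 𝒞 2 A V B) (hT : PiGrp {2} T) (l : A ⊔ B ⇂ A ≤ T) : T ≤ 𝐂 V := by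
  obtain ⟨U, k, k'⟩ := h.fixV s.mb hT (tic_norm h.toTIC s.hA hT (le_sup_left.trans l))
  obtain rfl := h.eq_of_norm s k ((le_sup_right.trans l).trans k')
  intro g hg a ha
  by_cases a1 : a = 1
  · simp [a1]
  have := two_eq s.card (conj_mem_of_norm (k' hg) ha) ha (Ab2.conj_ne_one a1 g) a1
  rw [← mul_inv_eq_iff_eq_mul.1 this]

theorem mem_D (s : Dl 𝒞 2 A V B) (hb : b ∈ B ⇂ A) (b1 : b ≠ 1) (hT : PiGrp {2} T) (l : A ⊔ B ⇂ A ≤ T)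
    (hE : E ∈ 𝒞) (ht : t ∈ E) (ht' : t ∈ T) : t ∈ A ∨ ∃ x ∈ A, t = x * b * x⁻¹ := by
  have H := h.toTIC
  by_cases t1 : t = 1
  · exact .inl (t1 ▸ one_mem _)
  have tA := tic_norm H s.hA hT (le_sup_left.trans l) ht'
  rcases adj_or H s.hA hE ht t1 tA with rfl | ad
  · exact .inl ht
  have s' := h.dl_of_eq rfl ad
  have : V = A ⇂ E := h.eq_of_norm s' s.mb fun y hy => by
    by_cases y1 : y = 1
    · exact y1 ▸ one_mem _
    · exact two_eq (h.card0 s') hy ⟨ht, tA⟩ y1 t1 ▸ cent_le_norm _ (h.two_norm s hT l ht')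
  exact .inr (h.same2 s (this ▸ s') hb b1 ⟨ht, tA⟩ t1 (hT.elt (mm (l (mem_sup_right hb)) ht')))

theorem mem_D' (s : Dl 𝒞 2 A V B) (hT : PiGrp {2} T) (l : A ⊔ B ⇂ A ≤ T) (hE : E ∈ 𝒞) (ht : t ∈ E)
    (ht' : t ∈ T) : t ∈ A ⊔ B ⇂ A := by
  obtain ⟨b, hb, b1⟩ := exists_mem_ne_one (h.nb (h.symm s))
  rcases h.mem_D s hb b1 hT l hE ht ht' with k | ⟨x, hx, rfl⟩
  exacts [mem_sup_left k, cjm (mem_sup_left hx) (mem_sup_right hb)]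

theorem br_T (s : Dl 𝒞 2 A V B) (hb : b ∈ B ⇂ A) (hT : PiGrp {2} T) (l : A ⊔ B ⇂ A ≤ T) (hu : u ∈ T) :
    ⁅u, b⁆ ∈ V := by
  have H := h.toTIC
  by_cases b1 : b = 1
  · simp [b1]
  have uA := tic_norm H s.hA hT (le_sup_left.trans l) hu
  have bT := l (mem_sup_right hb)
  obtain ⟨x, hx, k⟩ := h.same2 s (s.cj'' H uA (cent_le_norm _ (h.two_norm s hT l hu))) hb b1 (cj_mem_res hb uA)
    (Ab2.conj_ne_one b1 u) (hT.elt (mm bT (cjm hu bT)))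
  rw [← cj_br, k]; exact s.br H hb hx

theorem D_cent (s : Dl 𝒞 2 A V B) (hd : d ∈ A ⊔ B ⇂ A) (c : d ∈ 𝐂 A) : d ∈ A := by
  obtain ⟨a, ha, b, hb, rfl⟩ := (mem_sup_norm' inf_le_right).1 hd
  have := h.cent_one s.hA s.hD s.ne hb.1 ((mul_mem_cancel_left (tic_abel h.toTIC s.hA ha)).1 c)
  simpa [this] using ha

theorem D_inf (s : Dl 𝒞 2 A V B) (hd : d ∈ A ⊔ B ⇂ A) (c : d ∈ 𝐂 (A ⊔ B)) : d = 1 :=
  h.cent_inf (h.adj s) (h.D_cent s hd (mem_cent_sup.1 c).1) c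

theorem split2 (s : Dl 𝒞 2 A V B) (hT : PiGrp {2} T) (l : A ⊔ B ⇂ A ≤ T) (hu : u ∈ T) :
    ∃ d ∈ A ⊔ B ⇂ A, d⁻¹ * u ∈ 𝐂 (A ⊔ B) := by
  have H := h.toTIC
  obtain ⟨x, hx, hx'⟩ := h.exists_not s
  have uA := tic_norm H s.hA hT (le_sup_left.trans l) hu
  have uV := h.two_norm s hT l hu
  obtain ⟨d, hd, k⟩ := h.surj s hx hx' (a := ⁅u, x⁆) (half s.le (h.half' s) (conj_mem_of_norm uA hx) (im hx)
    (fun e => hx' ((mem_norm.1 (cent_le_norm _ uV) x).2 e)) fun e => hx' (by simpa using im e))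
  have dT := l (mem_sup_right hd)
  have c1 : d⁻¹ * u ∈ 𝐂 A := comm_half s.le (h.half' s) hx hx' (mm (im (h.two_norm s hT l dT)) uV)
    (comm_of_br_eq k).symm
  obtain ⟨b, hb, b1⟩ := exists_mem_ne_one (h.nb (h.symm s))
  obtain ⟨a, ha, k'⟩ : ∃ a ∈ A, ⁅a, b⁆ = ⁅d⁻¹ * u, b⁆ := by
    by_cases e : ⁅d⁻¹ * u, b⁆ = 1
    · exact ⟨1, one_mem _, by simp [e]⟩
    · exact ⟨x, hx, two_eq s.card (s.br H hb hx) (h.br_T s hb hT l (mm (im dT) hu))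
        (fun e => hx' (s.fix H hb.1 b1 hx (br_one.1 e))) e⟩
  obtain ⟨a', ha', c2⟩ := (h.adj s).cent_decomp H (mm (im (tic_abel H s.hA ha)) c1)
    (H.norm_of_comm s.hD hb.1 b1 (comm_of_br_eq k'))
  exact ⟨d * a * a', mm (mm (mem_sup_right hd) (mem_sup_left ha)) (mem_sup_left ha'.1), by
    simpa only [mul_inv_rev, mul_assoc] using c2⟩

theorem D_le (s : Dl 𝒞 2 A V B) : A ⊔ B ⇂ A ≤ A ⊔ B := sup_le_sup_left inf_le_left _

theorem D_sq (s : Dl 𝒞 2 A V B) (hd : d ∈ A ⊔ B ⇂ A) : d * d ∈ V := by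
  have H := h.toTIC
  obtain ⟨a, ha, b, hb, rfl⟩ := (mem_sup_norm' inf_le_right).1 hd
  have := s.br H hb ha
  rwa [br_def, H.inv s.hA ha, H.inv s.hD hb.1, mul_assoc (a * b)] at this

theorem sc_D (s : Dl 𝒞 2 A V B) (hT : PiGrp {2} T) (l : A ⊔ B ⇂ A ≤ T) : Cfsg.IsStronglyClosed (A ⊔ B ⇂ A) T := by
  have H := h.toTIC
  refine ⟨l, fun u hu g e => ?_⟩
  have key : ∀ {E}, E ∈ 𝒞 → ∀ {t}, t ∈ E → g * t * g⁻¹ ∈ T → g * t * g⁻¹ ∈ A ⊔ B ⇂ A := fun hE _ ht e =>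
    h.mem_D' s hT l (H.cj g hE) (conj_mem_cj.2 ht) e
  obtain ⟨a, ha, b, hb, rfl⟩ := (mem_sup_norm' inf_le_right).1 hu
  by_cases b1 : b = 1
  · subst b1; exact key s.hA (by simpa using ha) e
  by_cases aV : a ∈ V
  · by_cases a1 : a = 1
    · subst a1; exact key s.hD (by simpa using hb.1) e
    obtain ⟨x, hx, hx'⟩ := h.exists_not s
    refine key (H.cj x s.hD) ?_ e
    rw [two_eq s.card aV (s.br H hb hx) a1 fun e => hx' (s.fix H hb.1 b1 hx (br_one.1 e)), ← cj_eq_br]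
    exact conj_mem_cj.2 hb.1
  obtain ⟨d, hd, c⟩ := h.split2 s hT l e
  have zV := h.D_sq s hu
  have z1 : a * b * (a * b) ≠ 1 := fun e => aV (s.fix H hb.1 b1 ha (by
    rw [← H.inv s.hA ha, ← H.inv s.hD hb.1, ← mul_inv_rev, ← mul_inv_rev, inv_inj,
      ← inv_eq_of_mul_eq_one_right e, mul_inv_rev, H.inv s.hA ha, H.inv s.hD hb.1]))
  have e2 : g * (a * b * (a * b)) * g⁻¹ = d * d * (d⁻¹ * (g * (a * b) * g⁻¹) * (d⁻¹ * (g * (a * b) * g⁻¹))) := by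
    rw [mul_assoc d d, ← mul_assoc d (d⁻¹ * _), c d (h.D_le s hd)]; group
  have m1 : g * (a * b * (a * b)) * g⁻¹ ∈ A ⊔ B ⇂ A := key s.hA (s.le zV) (by
    rw [conj_mul.symm]; exact mm e e)
  rw [e2, mul_mem_cancel_left (mm hd hd)] at m1
  rw [h.D_inf s m1 (mm c c), mul_one] at e2
  have gA := H.norm_of s.hA (s.le zV) z1 (e2 ▸ s.le (h.D_sq s hd))
  have aA := conj_mem_of_norm gA ha
  rw [← conj_mul] at e ⊢
  exact mm (mem_sup_left aA) (key s.hD hb.1 ((mul_mem_cancel_left (l (mem_sup_left aA))).1 e))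

/-- two transvections generate the automorphism group of a four-group -/
theorem aut4 (s : Dl 𝒞 2 A V B) (s' : Dl 𝒞 2 A V' B') (ne : V ≠ V') (hb : b ∈ B ⇂ A) (b1 : b ≠ 1)
    (hb' : b' ∈ B' ⇂ A) (b1' : b' ≠ 1) (h1 : b ∈ K) (h2 : b' ∈ K) (hg : g ∈ 𝐍 A) :
    ∃ r ∈ K, r ∈ 𝐍 A ∧ g * r ∈ 𝐂 A := by
  have H := h.toTIC
  obtain ⟨z, hz, z1⟩ := exists_mem_ne_one (h.nb s)
  obtain ⟨z', hz', z1'⟩ := exists_mem_ne_one (h.nb s')
  have nv : ∀ {V V' z}, Mb 𝒞 2 A V → Mb 𝒞 2 A V' → V ≠ V' → z ∈ V → z ≠ 1 → z ∉ V' := fun {V V' z} s s' ne hz z1 e =>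
    ne (s.eq s' fun y hy => by
      by_cases y1 : y = 1
      · exact y1 ▸ one_mem _
      · exact two_eq s.card hy hz y1 z1 ▸ e)
  have n1 := nv s.mb s'.mb ne hz z1
  have n2 := nv s'.mb s.mb ne.symm hz' z1'
  have act : ∀ {V B b z x}, Dl 𝒞 2 A V B → b ∈ B ⇂ A → b ≠ 1 → z ∈ V → z ≠ 1 → x ∈ A → x ∉ V →
      b * x * b⁻¹ = z * x := fun s hb b1 hz z1 hx hx' => by
    rw [cj_eq_br, two_eq s.card (s.br' H hb hx) hz (fun e => hx' (s.fix H hb.1 b1 hx (br_one.1 e).symm)) z1]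
  have zz := H.sq s.hA (s.le hz)
  have st2 : ∀ g ∈ 𝐍 A, g * z = z * g → ∃ r ∈ K, r ∈ 𝐍 A ∧ g * r ∈ 𝐂 A := fun g hg c => by
    have gV : ∀ {g}, g * z = z * g → g ∈ 𝐂 V := fun c y hy => by
      by_cases y1 : y = 1
      · simp [y1]
      · rw [two_eq s.card hy hz y1 z1, c]
    have m := half s.le (h.half' s) (conj_mem_of_norm hg (s'.le hz')) (im (s'.le hz'))
      (fun e => n2 ((mem_norm.1 (cent_le_norm _ (gV c)) _).2 e)) fun e => n2 (by simpa using im e)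
    by_cases e : g * z' * g⁻¹ * z'⁻¹ = 1
    · exact ⟨1, one_mem _, one_mem _, comm_half s.le (h.half' s) (s'.le hz') n2 (gV (by simpa using c))
        (by simpa using (br_one.1 e).symm)⟩
    · refine ⟨b, h1, hb.2, comm_half s.le (h.half' s) (s'.le hz') n2 (mm (gV c) fun a ha => s.cent H hb ha) ?_⟩
      have e1 := mul_inv_eq_iff_eq_mul.1 (two_eq s.card m hz e z1)
      have e2 := act s hb b1 hz z1 (s'.le hz') n2
      symm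
      calc g * b * z' = g * (b * z' * b⁻¹) * g⁻¹ * (g * b) := by group
        _ = g * z * g⁻¹ * (g * z' * g⁻¹) * (g * b) := by rw [e2]; group
        _ = _ := by rw [c, e1, mul_inv_cancel_right, sq_left zz]
  obtain ⟨r, hr, rA, e⟩ : ∃ r ∈ K, r ∈ 𝐍 A ∧ r * z * r⁻¹ = g⁻¹ * z * g⁻¹⁻¹ := by
    have yA := conj_mem_of_norm (im hg) (s.le hz)
    have y1 := Ab2.conj_ne_one z1 g⁻¹
    generalize g⁻¹ * z * g⁻¹⁻¹ = y at yA y1
    have e1 := act s' hb' b1' hz' z1' (s.le hz) n1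
    by_cases yV : y ∈ V
    · exact ⟨1, one_mem _, one_mem _, by simp [two_eq s.card yV hz y1 z1]⟩
    have m := half s.le (h.half' s) yA (im (s'.le hz')) yV fun e => n2 (by simpa using im e)
    by_cases e : y * z'⁻¹ = 1
    · refine ⟨b * b', mm h1 h2, mm hb.2 hb'.2, ?_⟩
      calc b * b' * z * (b * b')⁻¹ = b * (b' * z * b'⁻¹) * b⁻¹ := by group
        _ = b * z' * b⁻¹ * (b * z * b⁻¹) := by rw [e1]; group
        _ = y := by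
          rw [act s hb b1 hz z1 (s'.le hz') n2, cj_of_comm (s.cent H hb hz).symm, mul_inv_eq_one.1 e,
            H.comm s.hA (s.le hz) (s'.le hz'), mul_assoc, zz, mul_one]
    · exact ⟨b', h2, hb'.2, by
        rw [e1, mul_inv_eq_iff_eq_mul.1 (two_eq s.card m hz e z1), H.comm s.hA (s.le hz) (s'.le hz')]⟩
  obtain ⟨r', hr', rA', c⟩ := st2 (g * r) (mm hg rA) (by
    calc g * r * z = g * (r * z * r⁻¹) * r := by group
      _ = _ := by rw [e]; group)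
  exact ⟨r * r', mm hr hr', mm rA rA', mul_assoc g r r' ▸ c⟩

theorem swap2 (s : Dl 𝒞 2 A V B) (hb : b ∈ B ⇂ A) (b1 : b ≠ 1) (hu : u ∈ 𝐂 (A ⊔ B)) (hP : P ∈ 𝒞) (hz : z ∈ P)
    (z1 : z ≠ 1) (c : z ∈ 𝐂₁ (g * u * g⁻¹)) : ∃ k ∈ 𝐂₁ u, cj (g * k) A = P := by
  have H := h.toTIC
  have DC : A ⊔ B ≤ 𝐂₁ u := fun y hy => mem_cent1.2 (hu y hy)
  have pD : PiGrp {2} (A ⊔ B ⇂ A) := (tic_pi H s.hA).sup (tic_pi H s.hD).inf_left (.inr inf_le_right)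
  obtain ⟨Y, hY, l⟩ := exists_syl_le (zpowers_le.2 (c : z ∈ 𝐂₁ (g * u * g⁻¹)))
    ((tic_pi H hP).le (zpowers_le.2 hz))
  obtain ⟨j, hj, l'⟩ := hY.syl_cj_le (K := cj g (A ⊔ B ⇂ A))
    (cj_cent1 g u ▸ cj_mono g ((h.D_le s).trans DC)) (pD.cj g)
  have hk : g⁻¹ * j * g ∈ 𝐂₁ u := by rw [← cj_cent1] at hj; exact mem_cj.1 hj
  rw [cj_cj, cj_sup, cj_res] at l'
  rcases h.mem_D (s.cj H (j * g)) (cj_res _ B A ▸ conj_mem_cj.2 hb) (Ab2.conj_ne_one b1 _) hY.pi l' hP hz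
    (l (mem_zpowers z)) with k | ⟨x, hx, k⟩
  · exact ⟨_, hk, H.ti (H.cj _ s.hA) hP (by convert k using 2; group) hz z1⟩
  obtain ⟨t, ht, -, e, -⟩ := (h.adj s).exists_swap H
  obtain ⟨x, hx, rfl⟩ := hx
  refine ⟨g⁻¹ * j * g * x * t, mm (mm hk (DC (mem_sup_left hx))) (DC ht), H.ti (H.cj _ s.hA) hP ?_ hz z1⟩
  rw [show g * (g⁻¹ * j * g * x * t) = j * g * x * t by group, ← cj_cj, e, k]
  convert conj_mem_cj.2 hb.1 using 1
  simp only [MulEquiv.toMonoidHom_eq_coe, MonoidHom.coe_coe, MulAut.conj_apply]; group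

theorem sc_T (s : Dl 𝒞 2 A V B) (s' : Dl 𝒞 2 A V' B') (ne : V ≠ V') (hb' : b' ∈ B' ⇂ A) (b1' : b' ≠ 1)
    (hT : PiGrp {2} T) (l : A ⊔ B ⇂ A ≤ T) (br : ∀ t ∈ T ⊓ 𝐂 A, ⁅t, b'⁆ ∈ V') :
    Cfsg.IsStronglyClosed (T ⊓ 𝐂 (A ⊔ B) ⊓ 𝐂₁ b') T := by
  have H := h.toTIC
  refine ⟨inf_le_left.trans inf_le_left, fun u hu g e => ?_⟩
  obtain ⟨b, hb, b1⟩ := exists_mem_ne_one (h.nb (h.symm s))
  obtain ⟨z, hz, z1⟩ := exists_mem_ne_one (h.nb s)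
  have DC : A ⊔ B ≤ 𝐂₁ u := fun y hy => mem_cent1.2 (hu.1.2 y hy)
  obtain ⟨k, hk, gA⟩ := h.swap2 s hb b1 hu.1.2 s.hA (s.le hz) z1 (g := g)
    (mem_cent1.2 (h.two_norm s hT l e z hz))
  obtain ⟨r, hr, -, gC⟩ := h.aut4 s s' ne hb b1 hb' b1' (DC (mem_sup_right hb.1)) (mem_cent1_comm.1 hu.2)
    (cj_eq_self.1 gA)
  have e1 : g * k * r * u * (g * k * r)⁻¹ = g * u * g⁻¹ := by
    rw [mul_assoc g k r, mul_inv_rev g, mul_assoc g, mem_cent1.1 (mm hk hr)]; group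
  rw [← e1] at e ⊢
  generalize g * k * r = g at gC e
  have gA := cent_le_norm _ gC
  have uA : g * u * g⁻¹ ∈ 𝐂 A := conj_mem_of_norm (norm_cent le_rfl gA) (mem_cent_sup.1 hu.1.2).1
  have key : ∀ {V B b}, Dl 𝒞 2 A V B → b ∈ B ⇂ A → b ≠ 1 → u * b = b * u → ⁅g * u * g⁻¹, b⁆ ∈ V →
      g * u * g⁻¹ * b = b * (g * u * g⁻¹) := fun s hb b1 c br =>
    h.key2 s (s.cj'' H gA (h.cent_norm s gC)) hb (cj_mem_res hb gA) (Ab2.conj_ne_one b1 g)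
      (by rw [conj_mul, conj_mul, c]) (cent_anti s.le uA) br
  have c1 := key s hb b1 (mem_cent1.1 (DC (mem_sup_right hb.1))).symm (h.br_T s hb hT l e)
  refine ⟨⟨e, ?_⟩, mem_cent1.2 (key s' hb' b1' (mem_cent1.1 hu.2) (br _ ⟨e, uA⟩))⟩
  have pD : PiGrp {2} (A ⊔ B ⇂ A) := hT.le l
  obtain ⟨Y, hY, lY⟩ := exists_syl_le (M := 𝐂₁ (g * u * g⁻¹)) (sup_le (fun y hy => mem_cent1.2 (uA y hy))
    fun y hy => by
    by_cases y1 : y = 1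
    · exact y1 ▸ one_mem _
    · exact two_eq (h.card0 s) hy hb y1 b1 ▸ mem_cent1.2 c1.symm) pD
  obtain ⟨j, hj, l'⟩ := hY.syl_cj_le (K := cj g (A ⊔ B ⇂ A))
    (cj_cent1 g u ▸ cj_mono g ((h.D_le s).trans DC)) (pD.cj g)
  rw [cj_cj] at l'
  have eA : cj (j * g) A = A := H.wc s.hA (H.cj _ s.hA) (((cj_mono _ le_sup_left).trans l').trans
    (tic_norm H s.hA hY.pi (le_sup_left.trans lY)))
  have bB := conj_mem_cj (g := j * g).2 hb.1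
  have b2 := Ab2.conj_ne_one b1 (j * g)
  rcases h.mem_D s hb b1 hY.pi lY (H.cj _ s.hD) bB (l' (conj_mem_cj.2 (mem_sup_right hb))) with k | ⟨x, hx, k⟩
  · exact absurd (H.eq_one s.hA (H.cj _ s.hD) (fun e => s.ne (cj_inj.1 (eA.trans e))) k bB) b2
  have eB : cj (j * g) B = cj x B := H.ti (H.cj _ s.hD) (H.cj _ s.hD) bB (k ▸ conj_mem_cj.2 hb.1) b2
  have e2 : cj (j * g) (A ⊔ B) = cj x (A ⊔ B) := by rw [cj_sup, cj_sup, eA, eB, cj_of_norm (le_normalizer hx)]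
  rw [cj_of_norm (le_normalizer (mem_sup_left hx))] at e2
  have := conj_mem_cj (g := j * g).2 hu.1.2
  rwa [cj_cent, e2, mul_inv_rev, mul_assoc j, mul_assoc j, ← mul_assoc _ g⁻¹, ← mul_assoc j,
    mem_cent1.1 hj, mul_inv_cancel_right] at this

end St

theorem Cs.syl_D (h : Cs 𝒞 2 2) (s : Dl 𝒞 2 A V B) (hS : Syl 2 S ⊤) (l : A ⊔ B ⇂ A ≤ S) : S = A ⊔ B ⇂ A := by
  have H := h.toTIC
  have SA := tic_norm H s.hA hS.pi (le_sup_left.trans l)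
  obtain ⟨b, hb, b1⟩ := exists_mem_ne_one (h.nb (h.symm s))
  obtain ⟨k, hk, kV⟩ := SetLike.not_le_iff_exists.1 fun e : 𝐍 A ≤ 𝐍 V =>
    h.nb s (eq_bot_mono (h.irr A s.hA) (le_Is s.le (fun e => let ⟨x, hx, n⟩ := h.exists_not s; n (e ▸ hx)) e))
  have nC : 𝐂 A ⊴ 𝐍 A := ⟨cent_le_norm _, norm_cent le_rfl⟩
  obtain ⟨c, hc, n, hn, rfl⟩ := ((hS.of_le SA le_top).inf_normal nC).syl_frattini nC hk
  have s' := s.cj' H hn.1
  have ne : V ≠ cj n V := fun e => kV (mm (h.cent_norm s hc) (cj_eq_self.1 e.symm))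
  have hb' := cj_mem_res hb hn.1
  have br : ∀ t ∈ S ⊓ 𝐂 A, ⁅t, n * b * n⁻¹⁆ ∈ cj n V := fun t ht => by
    have := conj_mem_cj (g := n).2 (h.br_T s hb hS.pi l (conj_mem_of_norm (im hn.2) ht).1)
    rwa [br_cj, inv_inv, ← mul_assoc, ← mul_assoc, mul_inv_cancel, one_mul, mul_inv_cancel_right] at this
  have s1 := h.sc_D s hS.pi l
  have s2 := h.sc_T s s' ne hb' (Ab2.conj_ne_one b1 n) hS.pi l br
  have nc : ∀ {X : Subgroup G}, X ≠ ⊥ → normalClosure (X : Set G) = ⊤ := fun {X} n =>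
    (h.ns.eq_or _ (normalIn_top.2 normalClosure_normal)).resolve_left (ne_bot_mono n le_normalClosure)
  have T0 : S ⊓ 𝐂 (A ⊔ B) ⊓ 𝐂₁ (n * b * n⁻¹) = ⊥ := by_contra fun e => by
    have := SC2.pf_bot Ab2.ly h.ns.O s1 s2 hS (fun a ha c hc => hc.1.2 a (h.D_le s ha))
      (eq_bot_of_forall fun u hu => h.D_inf s hu.1 hu.2.1.2)
    rw [nc e, nc (ne_bot_mono (h.nb' s.hA) le_sup_left)] at this
    exact h.ns.not_abel this
  have uq : ∀ {c c'}, c ∈ S ⊓ 𝐂 (A ⊔ B) → c' ∈ S ⊓ 𝐂 (A ⊔ B) → c ≠ 1 → c' ≠ 1 → c = c' := fun hc hc' c1 c1' => by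
    have k : ∀ {c}, c ∈ S ⊓ 𝐂 (A ⊔ B) → c ≠ 1 → ⁅c, n * b * n⁻¹⁆ ≠ 1 := fun hc c1 e =>
      c1 (mem_bot.1 (T0 ▸ mem_inf.2 ⟨hc, mem_cent1.2 (br_one.1 e)⟩))
    exact inv_mul_eq_one.1 (mem_bot.1 (T0 ▸ mem_inf.2 ⟨mm (im hc) hc', mem_cent1.2 <| comm_of_br_eq (two_eq s'.card
      (br _ ⟨hc.1, (mem_cent_sup.1 hc.2).1⟩) (br _ ⟨hc'.1, (mem_cent_sup.1 hc'.2).1⟩) (k hc c1) (k hc' c1'))⟩))
  refine le_antisymm (fun u hu => by_contra fun n => ?_) l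
  obtain ⟨d, hd, c⟩ := h.split2 s hS.pi l hu
  have cS : d⁻¹ * u ∈ S ⊓ 𝐂 (A ⊔ B) := ⟨mm (im (l hd)) hu, c⟩
  have c1 : d⁻¹ * u ≠ 1 := fun e => n (inv_mul_eq_one.1 e ▸ hd)
  generalize d⁻¹ * u = c at cS c1
  have cc : c * c = 1 := by_contra fun e => c1 (mul_eq_left.1 (uq (mm cS cS) cS e c1))
  obtain ⟨g, hg⟩ := ZD.thompson h.ns.index_ne hS (X := A ⊔ B ⇂ A) (relIndex_dvd_two_iff.2 ⟨c, cS.1, fun y hy => by
    obtain ⟨d, hd, k⟩ := h.split2 s hS.pi l hy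
    by_cases e : d⁻¹ * y = 1
    · exact .inr (inv_mul_eq_one.1 e ▸ hd)
    · rw [← inv_mul_eq_iff_eq_mul.1 (uq ⟨mm (im (l hd)) hy, k⟩ cS e c1) |>.symm, mul_assoc, cc, mul_one]
      exact .inl hd⟩) (z := c) ⟨c1, cc⟩
  exact c1 (h.D_inf s (by simpa [mul_assoc] using s1.2 _ hg g⁻¹ (by simpa [mul_assoc] using cS.1)) cS.2)

end CF.Geom.Tm
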