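import Cfsg.Agent.Geom.Tm18
import Cfsg.Agent.Geom.Orders
import Cfsg.Agent.W2.UD
import Cfsg.Agent.Loc.HL7

/-! The cases `|A| = 8` and `|A| = 16` with `q = 2`. -/

set_option maxRecDepth 100000
set_option synthInstance.maxSize 100000

namespace CF.Geom.Tm
open Subgroup CF.BG CF.Xs
open scoped commutatorElement Pointwise
set_option linter.unusedSectionVars false

universe u
variable {G : Type u} [Group G] [Finite G]
variable {𝒞 Φ : Set (Subgroup G)} {W A B C D E F P R V U T K L H S Y N V' B' U' : Subgroup G}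
  {a b c d e f g k t u v w x y z b' : G} {m q : ℕ}

section
open CF.W2 CF.Cod CF.Comp

/-- a normal elementary abelian subgroup -/
noncomputable def lA : List (El TS64) := [1, .w [1, 1], .w [1, 5, 1, 5], .w [1, 5, 2, 5], .w [1, 3, 5, 3, 5],
  .w [1, 3, 5, 4, 5], .w [3, 5, 1, 4, 5], .w [3, 5, 1, 3, 5]]
/-- a complement -/
noncomputable def lT : List (El TS64) := [1, .w [5], .w [1, 5, 3], .w [1, 5, 3, 5], .w [3, 5, 1, 5], .w [3, 5, 1],
  .w [1, 3, 5, 1, 4, 5], .w [1, 3, 5, 1, 4]]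

theorem spl64 : Spl (ofL lA (by decide +kernel)) (ofL lT (by decide +kernel)) 3 3 := .ofL (by decide +kernel)

theorem Cs.tr4 (h : Cs 𝒞 4 2) (hA : A ∈ 𝒞) (hz : z ∈ A) (z1 : z ≠ 1) (hy : y ∈ A) (y1 : y ≠ 1) :
    ∃ g ∈ 𝐍 A, g * z * g⁻¹ = y := by
  have β := h.big (by decide)
  have H := h.toTIC
  have k : ∀ {V x y}, Mb 𝒞 4 A V → x ∈ A → x ∉ V → y ∈ A → y ∉ V → ∃ g ∈ 𝐍 A, g * x * g⁻¹ = y :=
    fun ⟨B, s⟩ hx hx' hy hy' => let ⟨g, hg, e⟩ := h.coset_tr s hx hx' (half s.le (by rw [h.card hA, s.card]) hy (im hx)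
      hy' fun e => hx' (by simpa using im e)); ⟨g, hg.2, e⟩
  have av : ∀ {x}, x ∈ A → x ≠ 1 → ∃ V, Mb 𝒞 4 A V ∧ x ∉ V := fun {x} hx x1 => by
    obtain ⟨V, B, s⟩ := h.exists_dl hA
    obtain ⟨U, s', ne⟩ := h.two A hA V
    obtain ⟨U', r, n⟩ := h.dir3 (by decide) s.mb s' ne
    have c := β.card2 s.mb s' ne
    by_contra e
    have e : ∀ V, Mb 𝒞 4 A V → x ∈ V := fun V s => by_contra fun n => e ⟨V, s, n⟩
    refine n fun u hu => ?_
    by_cases u1 : u = 1
    exacts [u1 ▸ one_mem _, two_eq (by omega) hu ⟨e V s.mb, e U s'⟩ u1 x1 ▸ e U' r]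
  obtain ⟨V, s, n⟩ := av hz z1
  obtain ⟨U, s', n'⟩ := av hy y1
  obtain ⟨x, hx, h1, h2⟩ := not_union (K := A) (P := V) (R := U)
    (fun e => by have := card_le e; rw [h.card hA, s.card] at this; omega)
    fun e => by have := card_le e; rw [h.card hA, s'.card] at this; omega
  obtain ⟨g, hg, rfl⟩ := k s hz n hx h1
  obtain ⟨g', hg', rfl⟩ := k s' hx h2 hy n'
  exact ⟨g' * g, mm hg' hg, by group⟩

theorem Cs.eight (h : Cs 𝒞 4 2) : IsA G 8 ∨ IsA G 9 := by
  have H := h.toTIC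
  obtain ⟨A, -, hA, -⟩ := h.ex
  obtain ⟨T, s⟩ := h.spl4 hA
  have e : ∏ i ∈ Finset.range 3, (2 ^ 3 - 2 ^ i) = 2 ^ 3 * 21 := by decide
  have hS := s.isSyl H hA (fun S => h.cent_A (by decide) hA) e (by decide)
  obtain ⟨φ, i, r⟩ := s.emb spl64 (spl64.top El.card) e (by decide)
  have l := h.cent_A (by decide) hA hS le_sup_left
  have zA : φ X.z ∈ A := l ⟨r.le ⟨_, rfl⟩, fun a ha => by
    obtain ⟨b, rfl⟩ := r.ge (mem_sup_left ha)
    rw [← map_mul, ← map_mul, U.cz]⟩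
  have z1 := map_ne i U.z1
  have c7 := cls_card zA z1 fun y => h.tr4 hA zA z1
  rw [h.card hA] at c7
  have zN : 𝐂₁ (φ X.z) ≤ 𝐍 A := fun g hg => H.norm_of_comm hA zA z1 (mem_cent1.1 hg)
  have d := idx_dvd H hA s.cA le_rfl
  rw [← relIndex_mul_relIndex _ _ _ (cent_le_cent1 zA) zN, c7, e] at d
  have y : U.Hy φ := ⟨⟨i, r ▸ hS⟩, h.ns.index_ne, h.ns.eq_bot_of_sol (O_normal _ _) (O_pi _ _).nil.sol,
    (pPrimeCore_eq Nat.prime_two).trans h.ns.O, sol_of_idx (sol_cent (tic_abel H hA) (by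
      simpa only [le_antisymm l (le_inf le_sup_left (tic_abel H hA))] using
        syl_cent hS (tic_norm H hA hS.pi le_sup_left))) zN (i := 3) (j := 1)
      (Nat.dvd_of_mul_dvd_mul_right (by decide : 0 < 7) d)⟩
  refine y.main.imp_right fun k => k.resolve_right ?_
  rintro ⟨F, _, _, c, ⟨j⟩⟩
  have d1 : 7 ∣ Nat.card G := (c7.symm.dvd.trans (relIndex_dvd_card _ _)).trans (card_subgroup_dvd_card _)
  have d2 := (d1.trans (Nat.card_congr j.toEquiv).dvd).trans (card_quotient_dvd_card _)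
  rw [card_symplecticGroup, Nat.card_eq_fintype_card, c] at d2
  revert d2; decide

end

section
open CF.HL CF.W2 CF.Comp CF.Sig CF.GW CF.Ab2 Cfsg
open CF.Held (HM Sh)
open CF.Held.HM (In σT σU mem_U)

/-- the complement of the last column -/
def σX : Sh := ⟨nat_lit 17043521, nat_lit 8590, [nat_lit 1, nat_lit 2, nat_lit 3, nat_lit 7, nat_lit 8, nat_lit 13],
  by decide⟩

/-- the complement of the last column -/
def XT : Subgroup UT where
  carrier := {a | In σX a.v}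
  one_mem' := by show In σX (1 : UT).v; decide +kernel
  mul_mem' {a b} ha hb := (by decide +kernel : ∀ a : UT, In σX a.v → ∀ b : UT, In σX b.v → In σX (a * b).v) a ha b hb
  inv_mem' {a} := (by decide +kernel : ∀ a : UT, In σX a.v → In σX a⁻¹.v) a

theorem splUT : Spl HL.U XT 4 6 :=
  ⟨fun a ha => UT.ext (Held.HM.U_comm _ (mU.1 ha)).1, HL.card_U, fun t _ => mem_norm_of_cj_le (by
    rintro _ ⟨a, ha, rfl⟩
    exact (conj_mem_of_norm (Held.HM.norm_U (mem_top t.v)) ha : t.v * a.v * t.v⁻¹ ∈ Held.HM.U)),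
    eq_bot_of_forall fun t ht => (by decide +kernel : ∀ t : UT, In σX t.v → e25 * t = t * e25 → e35 * t = t * e35 →
      e45 * t = t * e45 → t = 1) t ht.1 (ht.2 _ (mU.2 (by decide +kernel))) (ht.2 _ (mU.2 (by decide +kernel)))
      (ht.2 _ (mU.2 (by decide +kernel))),
    (card_of (σ := σX) (fun _ => Iff.rfl) (by decide +kernel)).trans (by decide +kernel)⟩

theorem topUT : HL.U ⊔ XT = ⊤ := eq_top_iff.2 fun a _ => by
  obtain ⟨t, h1, h2⟩ := (by decide +kernel : ∀ a : UT, ∃ t : UT, In σX t.v ∧ In σU (a * t).v) a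
  exact (mul_mem_cancel_right (mem_sup_right h1)).1 (mem_sup_left (mU.2 h2))

theorem held_ctx [IsSimpleGroup G] {φ : UT →* G} (h : SM φ) : ∃ ψ : HM →* G, Held.Ctx ψ := by
  have na : ¬ ∀ a b : G, a * b = b * a := fun k => absurd (h.inj (by rw [map_mul, map_mul, k]) :
    e12 * e23 = e23 * e12) (by decide +kernel)
  obtain ⟨ψ, π, k⟩ := exists_cx h ((inferInstance : (commutator G).Normal).eq_bot_or_eq_top.resolve_left fun e =>
    na fun a b => commutatorElement_eq_one_iff_mul_comm.1 (mem_bot.1 (e ▸ commutator_mem_commutator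
      (mem_top a) (mem_top b))))
  have i := ivz h
  have o := (k.dz_or ((normalIn_top.1 (O_normal _ _)).eq_bot_or_eq_top.resolve_right fun e =>
    i.ne_one ((h.e2 HL.z).eq_one ((O_pi _ _).elt (e ▸ mem_top _)))) fun c => na fun a b => by
      have := (inferInstance : (center G).Normal).eq_bot_or_eq_top.resolve_left fun e =>
        i.ne_one (mem_bot.1 (e ▸ mem_center_iff.2 fun g => c g (mem_top g)))
      exact mem_center_iff.1 (this ▸ mem_top b) a).elim
    (fun d => k.gam.core_bot (dz_γ.2 ((show γ e25 = e14 by decide +kernel) ▸ d))) k.core_bot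
  exact ⟨_, (Held.exists_ctx i (MulEquiv.ofBijective π ⟨(injective_iff_map_eq_one π).2 fun x e =>
    Subtype.ext (mem_bot.1 (o ▸ (k.ker x).1 e)), k.sur⟩).symm).1⟩

end

section
open CF.Held CF.Held.HM

theorem held_two [IsSimpleGroup G] {φ : HM →* G} (h : Ctx φ) (H : TIC 𝒞) (hA : A ∈ 𝒞) (hz : φ HM.z ∈ A)
    (hu : φ e25 ∈ A) (c : ♯A = 16) : IsL G 2 ∨ Cfsg.Spor.IsoM24 G := by
  have z1 : φ HM.z ≠ 1 := φ.map_one ▸ h.inj.ne (by decide +kernel)
  have cl : ∀ a : HM, a * a = 1 ∧ rep (cls a) = e25 → φ a ∈ A := fun a e => by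
    rw [← show _ = φ a from cj_cls e.1, e.2]
    exact conj_mem_of_norm (H.norm_of_comm hA hz z1 (Cj.of' (z_comm _)).comm) hu
  have le : A ≤ HM.U.map φ := (eq_of_card_eq (H := HM.U.map φ) (by
    rintro _ ⟨a, ha, rfl⟩
    rcases (by decide +kernel : ∀ a, In σU a → a = 1 ∨ a = HM.z ∨ a * a = 1 ∧ rep (cls a) = e25) a (mem_U.1 ha)
      with rfl | rfl | e
    exacts [φ.map_one ▸ one_mem _, hz, cl a e]) (by rw [h.card_map, HM.card_U, c])).ge
  have af : ∀ {φ : HM →* G}, Ctx φ → Dz φ e25 → Dz φ e14 := fun {φ} h k1 => by_contra fun k2 =>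
    ((h.affine k1 k2).1.eq_bot_or_eq_top).elim (fun e => absurd (h.inj ((mem_bot.1 (e.le (mem_map_of_mem φ
      (mem_U.2 (show In σU HM.z by decide +kernel))))).trans φ.map_one.symm)) (by decide +kernel))
      fun e => absurd (mem_U.1 (h.mem_map.1 (e.ge (mem_top (φ e12))))) (by decide +kernel)
  obtain ⟨h1, h2⟩ : Dz φ e14 ∧ Dz φ e25 := by
    by_cases hd : Dz φ e14 ∨ Dz φ e25
    · exact hd.elim (fun k => ⟨k, (show γ e14 = e25 by decide +kernel) ▸ dz_gam.1
        (af h.gam (dz_gam.2 ((show γ e25 = e14 by decide +kernel) ▸ k)))⟩) fun k => ⟨af h k, k⟩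
    have := h.iso_z (hd ∘ .inl) (hd ∘ .inr)
    exact absurd (h.inj (((φ.map_mul e12 e23).trans (CF.Char.comm_of_simple_of_inZStar this.1
      (CF.Char.inZStar_of_isolated this) _ _)).trans (φ.map_mul e23 e12).symm)) (by decide +kernel)
  obtain ⟨y₂, k2⟩ : ∃ y, Y φ y false := (h.exists_y1 h2).imp fun y e => e.resolve_right fun k => by
    have n : y ∈ 𝐍 A := H.norm_of hA hz z1 ((show y * φ HM.z * y⁻¹ = φ e25 from k.a1) ▸ hu)
    have m := cl e45 (by decide +kernel)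
    exact absurd (mem_U.1 (h.mem_map.1 (le ((show y * φ e45 * y⁻¹ = φ f1 from k.f) ▸ conj_mem_of_norm n m))))
      (by decide +kernel)
  obtain ⟨y₁, k1 | k1⟩ := h.gam.exists_y1 (dz_gam.2 ((show γ e25 = e14 by decide +kernel) ▸ h1))
  · obtain ⟨y, k⟩ := h.exists_yy (ε := false) k1 k2
    exact .inl ((equiv_L (k.top h) (k.rels h okL)).elim (isL_sl (by decide)))
  · obtain ⟨y, k⟩ := h.gam.exists_yy (y₁ := y₂) (ε := false) (δ := true)
      ((show (φ.comp γ).comp γ = φ from MonoidHom.ext fun a => congrArg φ (γ_γ a)).symm ▸ k2) k1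
    exact .inr (equiv_M (k.top h.gam) (k.rels h.gam okM))

theorem held_tic [IsSimpleGroup G] {φ : HM →* G} (h : Ctx φ) (H : TIC 𝒞) (hA : A ∈ 𝒞) (c : ♯A = 16) :
    IsL G 2 ∨ Cfsg.Spor.IsoM24 G := by
  have p : PiGrp {2} (HM.T.map φ) := (piGrp_of_isPGroup Nat.prime_two isPGroup_T).map φ
  obtain ⟨g, n⟩ := tic_two H hA p
  rw [← card_cj g] at c
  replace hA := H.cj g hA
  generalize cj g A = A at hA c n
  have hz : φ HM.z ∈ A := by
    obtain ⟨x, hx, x1⟩ := exists_mem_ne_one (p.inf_cent_ne_bot (tic_pi H hA) n fun e => by simp [e] at c)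
    have k : ∀ b, In σT b → φ b * x = x * φ b := fun b hb => hx.2 _ (mem_map_of_mem φ (mem_T.2 hb))
    obtain ⟨a, rfl⟩ := h.cen x (k _ (by decide +kernel)).symm
    have k' : ∀ b, In σT b → a * b = b * a := fun b hb => h.inj (by rw [map_mul, map_mul, k b hb])
    obtain rfl | rfl := T_center a (mem_T.1 ⟨mem_St.2 (.inl (k' _ (by decide +kernel))),
      mem_St.2 (.inl (k' _ (by decide +kernel)))⟩) (k' _ (by decide +kernel)) (k' _ (by decide +kernel))
      (k' _ (by decide +kernel)) (k' _ (by decide +kernel))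
    exacts [absurd φ.map_one x1, hx.1]
  have z1 : φ HM.z ≠ 1 := φ.map_one ▸ h.inj.ne (by decide +kernel)
  have nm : ∀ {a} (g), φ a ∈ A → φ (g * a * g⁻¹) ∈ A := fun g ha => by
    rw [map_mul, map_mul, map_inv]
    exact conj_mem_of_norm (H.norm_of_comm hA hz z1 (Cj.of' (z_comm _)).comm) ha
  obtain ⟨x, hx, x1⟩ := SetLike.not_le_iff_exists.1 fun e : A ≤ zpowers (φ HM.z) => by
    have := card_le e
    rw [c, Nat.card_zpowers, orderOf_eq_prime (p := 2) (by rw [pow_two, H.sq hA hz]) z1] at this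
    omega
  obtain ⟨a, rfl⟩ := h.cen x (H.comm hA hx hz)
  have aa : a * a = 1 := h.inj (by rw [map_mul, H.sq hA hx, map_one])
  have m : φ (rep (cls a)) ∈ A := by
    have := nm (wit a)⁻¹ hx
    nth_rw 2 [← (cls_spec a aa).1] at this
    rwa [show ∀ w r : HM, w⁻¹ * (w * r * w⁻¹) * w⁻¹⁻¹ = r from fun _ _ => by group] at this
  have no : ∀ r, (¬ ∀ g, r * (g * r * g⁻¹) = g * r * g⁻¹ * r) → φ r ∉ A := fun r n hr =>
    n fun g => h.inj (by rw [map_mul, map_mul φ _ r, H.comm hA hr (nm g hr)])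
  rcases cls_cases aa with e | e | e | e | e | e | e | e | e
  · exact absurd (e ▸ φ.map_one ▸ one_mem _) x1
  · exact absurd (eq_z aa e ▸ mem_zpowers _) x1
  · exact held_two h.gam H hA (show φ (γ HM.z) ∈ A from γ_z.symm ▸ hz)
      (show φ (γ e25) ∈ A from (show γ e25 = e14 by decide +kernel).symm ▸ e ▸ m) c
  · exact held_two h H hA hz (e ▸ m) c
  all_goals exact absurd (e ▸ m) (no _ (by decide +kernel))

end

theorem Cs.sixteen (h : Cs 𝒞 8 2) : IsL G 2 ∨ Cfsg.Spor.IsoM24 G := by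
  have H := h.toTIC
  have := h.ns.simple_top
  obtain ⟨A, -, hA, -⟩ := h.ex
  obtain ⟨T, s⟩ := h.spl8 hA
  have e : ∏ i ∈ Finset.range 4, (2 ^ 4 - 2 ^ i) = 2 ^ 6 * 315 := by decide
  obtain ⟨φ, i, r⟩ := s.emb splUT topUT e (by decide)
  obtain ⟨ψ, k⟩ := held_ctx ⟨i, r ▸ s.isSyl H hA (fun S => h.cent_A (by decide) hA) e (by decide)⟩
  exact held_tic k H hA (h.card hA)

end CF.Geom.Tm
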