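import Cfsg.Agent.Geom.Tm15

/-! Two directions that do not span: the group has order 16 and is self-centralising. -/

namespace CF.Geom.Tm
open Subgroup CF.BG CF.Xs
open scoped commutatorElement Pointwise
set_option linter.unusedSectionVars false

universe u
variable {G : Type u} [Group G] [Finite G]
variable {𝒞 Φ : Set (Subgroup G)} {W A B C D E F P R V U T K L H S X Y N V₀ V₁ D' : Subgroup G}
  {a b c d e f g k t u v w x y z e' t' : G} {m q : ℕ}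

theorem mem_of_odd_sq (o : Odd (orderOf k)) (h : k * k ∈ H) : k ∈ H := by
  obtain ⟨i, e⟩ := o
  have : k = (k * k) ^ (i + 1) := by
    rw [← sq, ← pow_mul, show 2 * (i + 1) = 2 * i + 1 + 1 by ring, ← e, pow_succ, pow_orderOf_eq_one, one_mul]
  exact this ▸ pow_mem h _

namespace Clq
variable (h : Clq Φ W) (hP : P ∈ Φ) (hR : R ∈ Φ) (hne : P ≠ R)
include h hP hne

theorem sw_comm (s : Sw Φ W P R D t) (he : e ∈ nz Φ W) (eP : e ∈ 𝐍 P) (eR : e ∈ 𝐍 R) (eD : e ∈ 𝐍 D)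
    (hX : X ∈ Φ) : cj e (cj t X) = cj t (cj e X) := by
  have w := h.sw_same hP hne s (by have := s.cj he eP eR; rwa [cj_of_norm eD] at this)
  rw [← cj_of_norm (h.wn (nz_cj he hX) w), cj_cj, cj_cj, cj_cj, ← mul_assoc, h.sq s.hD s.mem]
  simp

include hR
variable (reg : ∀ k, Kap Φ W P R k → ∀ D ∈ Φ, D ≠ P → D ≠ R → k ∉ 𝐍 D)
include reg

theorem mid (s : Sw Φ W P R D y) (he : e ∈ nz Φ W) (eP : e ∈ 𝐍 P) (eR : e ∈ 𝐍 R) (ee : e * e ∈ W) (n : e ∉ 𝐍 D) :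
    ∃ D' t, Sw Φ W P R D' t ∧ e ∈ 𝐍 D' ∧ cj t D = cj e D := by
  have s₁ := s.cj he eP eR
  have ne : D ≠ cj e D := fun k => n (cj_eq_self.1 k.symm)
  have κ := h.kap hP hR hne s s₁ ne
  have yy := h.sq s.hD s.mem
  have y1 := h.sq s₁.hD s₁.mem
  obtain ⟨g, hg, e1⟩ := tt_conj yy y1 κ.odd
  have s' := s.cj (zpowers_le.2 κ.nz hg) (zpowers_le.2 κ.nP hg) (zpowers_le.2 κ.nR hg)
  have e2 := tt_x yy y1 κ.odd
  rw [e1] at e2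
  generalize g * y * g⁻¹ = t at s' e2
  have e3 := h.cj_eq (h.mem_nz s'.hD s'.mem) s.hD s₁.hD s.mem (fun k => s.nW (k ▸ one_mem _)) (e2 ▸ s₁.mem)
  have e4 : cj t (cj e D) = D := by rw [← e3, cj_cj, h.sq s'.hD s'.mem, cj_one]
  refine ⟨_, t, s', by_contra fun n' => reg _ (h.kap hP hR hne s' (s'.cj he eP eR)
    fun k => n' (cj_eq_self.1 k.symm)) D s.hD (h.sw_ne hP hne s) (h.sw_ne hR hne.symm s.symm) (cj_eq_self.1 ?_), e3⟩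
  rw [← cj_cj, ← cj_cj, ← cj_cj, show cj e⁻¹ D = cj e D by
    rw [← cj_of_norm (h.wn s.hD ee), cj_cj, inv_mul_cancel_left, cj_of_norm (h.wn s.hD ee)], e4, e4]

theorem two_fix (he : e ∈ nz Φ W) (eP : e ∈ 𝐍 P) (eR : e ∈ 𝐍 R) (ee : e * e ∈ W) (he' : e' ∈ nz Φ W)
    (eP' : e' ∈ 𝐍 P) (eR' : e' ∈ 𝐍 R) (ee' : e' * e' ∈ W) (e3 : e' * e * (e' * e) ∈ W)
    (f1 : ∀ X ∈ Φ, e ∈ 𝐍 X ↔ e' ∈ 𝐍 X) (f2 : ∀ X ∈ Φ, e' * e ∈ 𝐍 X → e ∈ 𝐍 X) (s : Sw Φ W P R D y) :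
    e ∈ 𝐍 D := by_contra fun n => n (f2 D s.hD (by
  obtain ⟨D₁, t, s₁, n₁, k₁⟩ := h.mid hP hR hne reg s he eP eR ee n
  obtain ⟨D₂, t', s₂, n₂, k₂⟩ := h.mid hP hR hne reg s he' eP' eR' ee' fun k => n ((f1 D s.hD).2 k)
  have a := fun {X} => h.sw_comm hP hne s₁ he eP eR n₁ (X := X)
  have a' := fun {X} => h.sw_comm hP hne s₁ he' eP' eR' ((f1 _ s₁.hD).1 n₁) (X := X)
  have b := fun {X} => h.sw_comm hP hne s₂ he eP eR ((f1 _ s₂.hD).2 n₂) (X := X)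
  have b' := fun {X} => h.sw_comm hP hne s₂ he' eP' eR' n₂ (X := X)
  have z₂ := h.mem_nz s₂.hD s₂.mem
  have k : cj t (cj t' D) = cj e' (cj e D) := by rw [k₂, ← a' s.hD, k₁]
  have : t * t' ∈ 𝐍 D := by
    by_cases q : D₁ = D₂
    · exact h.wn s.hD (h.sw_same hP hne s₁ (q ▸ s₂))
    refine mem_of_odd_sq (h.kap hP hR hne s₁ s₂ q).odd (cj_eq_self.1 ?_)
    rw [← cj_cj, ← cj_cj, ← cj_cj, k, ← b' (nz_cj he s.hD), ← b s.hD, ← a' (nz_cj he (nz_cj z₂ s.hD)),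
      ← a (nz_cj z₂ s.hD), k, cj_cj, cj_cj, cj_cj, mul_assoc _ e', cj_of_norm (h.wn s.hD e3)]
  rw [← cj_eq_self, ← cj_cj] at this ⊢
  rw [← k, this]))

end Clq

/-- `e` lies in the coset of `c` -/
def Lf (A : Subgroup G) (e c : G) : Prop := c ∈ 𝐍 A ∧ ∃ u ∈ A, e = u * c

theorem Lf.norm (l : Lf A e c) : e ∈ 𝐍 A := let ⟨h, _, hu, k⟩ := l; k ▸ mm (le_norm_self _ hu) h

theorem Lf.br (l : Lf A e c) (ab : Abel A) (hx : x ∈ A) : ⁅x, e⁆ = ⁅x, c⁆ := by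
  obtain ⟨h, u, hu, rfl⟩ := l
  rw [br_mul', br_one.2 (ab hu x hx), one_mul, cj_of_comm (ab (br_left hx h) u hu)]

theorem Lf.mul (l : Lf A e c) (l' : Lf A e' d) : Lf A (e * e') (c * d) := by
  obtain ⟨h, u, hu, rfl⟩ := l
  obtain ⟨h', v, hv, rfl⟩ := l'
  exact ⟨mm h h', _, mm hu (conj_mem_of_norm h hv), by group⟩

theorem Lf.mem (l : Lf A e 1) : e ∈ A := by obtain ⟨-, u, hu, rfl⟩ := l; rwa [mul_one]

namespace St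
variable (h : St 𝒞 m q)
include h

theorem lift (tw : Two 𝒞 m q) (m4 : 4 ≤ m) (s : Dl 𝒞 m A V B) (cA : c ∈ 𝐍 A) (cV : c ∈ 𝐍 V) :
    ∃ e, Lf A e c ∧ e ∈ 𝐍 B := by
  obtain ⟨x, hx, k⟩ := h.delta tw m4 s (s.cj'' h.toTIC cA cV)
  exact ⟨_, ⟨cA, _, im hx, rfl⟩, cj_eq_self.1 (by rw [← cj_cj, k, cj_inv_cj])⟩

theorem norm_cj (s : Dl 𝒞 m A V B) (eA : e ∈ 𝐍 A) (eB : e ∈ 𝐍 B) (hx : x ∈ A) : e ∈ 𝐍 (cj x B) ↔ ⁅x, e⁆ ∈ V := by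
  rw [s.mem (br_left hx eA), ← mem_norm_cj (g := x⁻¹), cj_inv_cj, h.inv s.hA hx, br_def, h.inv s.hA hx,
    mul_mem_cancel_right (im eB)]

variable (p : Pn 𝒞 m A V₀ V₁) (n : V₀ ⊔ V₁ ≠ A)
include p n

theorem rr : m = q ∧ ♯(V₀ ⊓ V₁) * ♯(V₀ ⊓ V₁) = m := by
  obtain ⟨B, s⟩ := p.m0
  obtain ⟨C, s'⟩ := p.m1
  obtain ⟨c, hc, c1, hc'⟩ := h.exists_c1 p s' (h.inf_ne p n)
  obtain ⟨F, v, y, k, hv, hy, hy', e⟩ := h.exists_rho' s s' hc c1 hc'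
  exact (h.caseB p n k s' hc c1 hc' hv (h.norm_of_comm k.hD hy (fun e => hy' (e ▸ one_mem _)) e)).2

theorem m4 : 4 ≤ m := by
  have : 1 < ♯(V₀ ⊓ V₁) := (one_lt_card_iff_ne_bot _).2 (h.inf_ne p n)
  rw [← (h.rr p n).2]; nlinarith

theorem br_U (s' : Dl 𝒞 m A V₁ C) (hc : c ∈ C ⇂ A) (c1 : c ≠ 1) (hc' : c ∈ 𝐍 V₀) (hx : x ∈ A) :
    ⁅x, c⁆ ∈ V₀ ↔ x ∈ V₀ ⊔ V₁ := by
  have H := h.toTIC
  obtain ⟨B, s⟩ := p.m0
  have nV := (tic_abel H s.hA).le_norm s.le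
  have k : ∀ {g}, g ∈ V₀ ⊔ V₁ → ⁅g, c⁆ ∈ V₀ := br_sup (le_norm_self _) (s'.le.trans nV) (fun _ hy => br_left hy hc')
    fun _ hy => (br_one.2 (s'.cent H hc hy)).symm ▸ one_mem _
  refine ⟨fun e => by_contra fun ne => ?_, k⟩
  obtain ⟨F, v, y, s, hv, hy, hy', e'⟩ := h.exists_rho' s s' hc c1 hc'
  have hF := h.norm_of_comm s.hD hy (fun e => hy' (e ▸ one_mem _)) e'
  obtain ⟨⟨x', hx', n'⟩, rfl, r⟩ := h.caseB p n s s' hc c1 hc' hv hF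
  have br : ∀ x ∈ A, ⁅x, c * v⁆ = ⁅x, c⁆ := fun x hx => br_mul_comm (h.comm s.hA hx (s'.le hv))
  have l : V₀ ⊔ V₁ ⊔ zpowers x ≤ A := sup_le (sup_le s.le s'.le) (zpowers_le.2 hx)
  have h1 := (h.two s (sq_mul (h.sq s'.hD hc.1) (h.sq s.hA (s'.le hv)) (s'.cent H hc hv))
    (mm hc.2 (le_norm_self _ (s'.le hv))) hF hx' (br x' hx' ▸ n')).2 _ l fun u hu => br u (l hu) ▸
      br_sup ((sup_le s.le s'.le).trans nV) ((zpowers_le.2 hx).trans nV) (fun _ => k)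
        (fun _ => br_zpow (h.sq s.hA hx) e) hu
  have h2 := card_lt (lt_of_le_of_ne (le_sup_left : V₀ ⊔ V₁ ≤ V₀ ⊔ V₁ ⊔ zpowers x)
    fun e => ne (e.ge (mem_sup_right (mem_zpowers x))))
  have h3 := h.card_sup p.m0 p.m1
  have h4 := h.m_pos
  generalize ♯(V₀ ⊔ V₁ ⊔ zpowers x) = i at h1 h2
  generalize ♯(V₀ ⊔ V₁) = j at h2 h3
  generalize ♯(V₀ ⊓ V₁) = l at r h3
  subst r
  have : j = l * l * l := Nat.eq_of_mul_eq_mul_right (Nat.pos_of_mul_pos_left h4) (by rw [h3]; ring)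
  exact absurd (Nat.mul_self_lt_mul_self h2) (by rw [this]; push Not; exact h1.trans_eq (by ring))

theorem r_two : ♯(V₀ ⊓ V₁) = 2 := by_contra fun r => by
  have H := h.toTIC
  have tw : Two 𝒞 m q := .inl (h.rr p n).1
  have m4 := h.m4 p n
  obtain ⟨B, s⟩ := p.m0
  obtain ⟨C, s'⟩ := p.m1
  have ad := h.adj s
  have K := ad.clq H
  have ab := tic_abel H s.hA
  obtain ⟨a, ha, a1⟩ := exists_mem_ne_one (h.inf_ne p n)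
  obtain ⟨b, hb, hb'⟩ : ∃ b ∈ V₀ ⊓ V₁, b ∉ zpowers a := by
    by_contra! k
    exact r (by rw [← le_antisymm (zpowers_le.2 ha) k, Nat.card_zpowers,
      orderOf_eq_prime (by rw [sq]; exact h.sq s.hA (s.le ha.1)) a1])
  obtain ⟨x₀, hx₀, nx₀⟩ := p.m0.exists_not p.m1 p.ne
  obtain ⟨c, hc, cV, ec⟩ := h.exists_c p s' hx₀ nx₀ ha
  obtain ⟨d, hd, dV, ed⟩ := h.exists_c p s' hx₀ nx₀ hb
  have c1 : c ≠ 1 := fun k => a1 (by simpa [k] using ec.symm)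
  have d1 : d ≠ 1 := fun k => hb' (by rw [← ed, k]; simp)
  have dc : d * c ≠ 1 := fun k => hb' (by
    rw [← ed, eq_inv_of_mul_eq_one_left k, h.inv s'.hD hc.1, ec]; exact mem_zpowers a)
  obtain ⟨e, le, eB⟩ := h.lift tw m4 s hc.2 cV
  obtain ⟨e', le', eB'⟩ := h.lift tw m4 s hd.2 dV
  have w : ∀ {e c}, Lf A e c → e ∈ 𝐍 B → c ∈ C → e * e ∈ NN A B := fun l k hc => mem_NN_left
    ⟨(h.sq s'.hD hc ▸ l.mul l).mem, mm k k⟩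
  have fx : ∀ {e c x}, Lf A e c → e ∈ 𝐍 B → c ∈ C ⇂ A → c ≠ 1 → c ∈ 𝐍 V₀ → x ∈ A →
      (e ∈ 𝐍 (cj x B) ↔ x ∈ V₀ ⊔ V₁) := fun l k hc c1 cV hx => by
    rw [h.norm_cj s l.norm k hx, l.br ab hx, h.br_U p n s' hc c1 cV hx]
  have f : ∀ {e' d}, Lf A e' d → e' ∈ 𝐍 B → d ∈ C ⇂ A → d ≠ 1 → d ∈ 𝐍 V₀ → ∀ X ∈ Ln A B, e ∈ 𝐍 X ↔ e' ∈ 𝐍 X :=
    fun l k hd d1 dV X hX => by
      by_cases q : A = X
      · exact q ▸ iff_of_true le.norm l.norm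
      obtain ⟨x, hx, rfl⟩ := h.Ln_cases tw s hX q
      rw [fx le eB hc c1 cV hx, fx l k hd d1 dV hx]
  have hB := ad.right_Ln H
  have eN := ad.nz_fix H le.norm eB
  have fix : ∀ {D t}, Sw (Ln A B) (NN A B) A B D t → e ∈ 𝐍 D := K.two_fix left_Ln hB s.ne
    (fun k κ D hD n1 n2 e => by
      obtain ⟨x, hx, rfl⟩ := h.Ln_cases tw s hD n1.symm
      exact n2 (cj_of_norm ((ad.memNN H hx).1 (κ.fP x hx (h.inf_NN s ▸ (h.norm_cj s κ.nP κ.nR hx).1 e).2))))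
    eN le.norm eB (w le eB hc.1) (ad.nz_fix H le'.norm eB') le'.norm eB' (w le' eB' hd.1)
    (w (le'.mul le) (mm eB' eB) (mm hd.1 hc.1)) (f le' eB' hd d1 dV)
    fun X hX => (f (le'.mul le) (mm eB' eB) (mm hd hc) dc (mm dV cV) X hX).2
  obtain ⟨x, hx, nx⟩ := p.m1.exists_not p.m0 p.ne.symm
  obtain ⟨y, hy, ny⟩ := SetLike.exists_of_lt (lt_of_le_of_ne (sup_le s.le s'.le) n)
  have nW : ∀ {x}, x ∈ A → x ∉ V₀ → x ∉ NN A B := fun hx n k => n (h.inf_NN s ▸ mem_inf.2 ⟨hx, k⟩)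
  obtain ⟨D, D', t, t', σ, σ', k, -⟩ := K.trans left_Ln hB s.ne (s'.le hx) (nW (s'.le hx) nx) hy
    (nW hy fun k => ny (mem_sup_left k))
  have hX : cj x B ∈ Ln A B := cj_Ln hB (mem_sup_left (s'.le hx))
  refine ny ((fx le eB hc c1 cV hy).1 (cj_eq_self.1 ?_))
  have : cj y B = cj t (cj t' (cj x B)) := by
    rw [← k, ← cj_cj, ← cj_cj, ← cj_cj, mul_inv_rev, ← cj_cj, inv_of_sq (K.sq σ.hD σ.mem),
      inv_of_sq (K.sq σ'.hD σ'.mem), σ.rp, σ'.pr]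
  rw [this, K.sw_comm left_Ln s.ne σ eN le.norm eB (fix σ) (nz_cj (K.mem_nz σ'.hD σ'.mem) hX),
    K.sw_comm left_Ln s.ne σ' eN le.norm eB (fix σ') hX,
    cj_of_norm ((fx le eB hc c1 cV (s'.le hx)).2 (mem_sup_right hx))]

theorem m_four : m = 4 ∧ q = 4 := by
  have := h.rr p n
  rw [h.r_two p n] at this
  omega

theorem pn_of (s : Mb 𝒞 m A V) (s' : Mb 𝒞 m A U) (ne : V ≠ U) (k : V ⊓ U ≠ ⊥) : Pn 𝒞 m A V U :=
  ⟨s, s', ne, fun _ _ a b c => (p.mx _ _ a b c).trans (h.r_two p n ▸ (one_lt_card_iff_ne_bot _).2 k)⟩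

theorem cent_meet (s : Dl 𝒞 m A V B) (s' : Dl 𝒞 m A U C) (k : V ⊓ U ≠ ⊥) : 𝐂 (A ⊔ B) = 𝐂 (A ⊔ C) := by
  by_cases e : V = U
  · exact h.cent_same (.inl (h.rr p n).1) (h.m4 p n) (e ▸ s') s
  · exact h.cent_pn (.inl (h.rr p n).1) (h.m4 p n) (h.pn_of p n s.mb s'.mb e k) k s s'

theorem card_U : ♯(V₀ ⊔ V₁) = 8 := by
  have := h.card_sup p.m0 p.m1
  rw [h.r_two p n, (h.m_four p n).1] at this
  omega

theorem cent_all (s : Dl 𝒞 m A V B) (s' : Dl 𝒞 m A V₁ C) : 𝐂 (A ⊔ B) = 𝐂 (A ⊔ C) := by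
  have H := h.toTIC
  obtain ⟨x, hx, x1⟩ : ∃ x ∈ V ⊓ (V₀ ⊔ V₁), x ≠ 1 := exists_mem_ne_one fun e => by
    have := card_le (sup_le s.le (sup_le p.m0.le s'.le))
    rw [card_sup_of_inf_bot (.inl (s.le.trans ((tic_abel H s.hA).le_norm (sup_le p.m0.le s'.le)))) e,
      h.card_U p n, s.card, h.card s.hA, (h.m_four p n).1, (h.m_four p n).2] at this
    omega
  have ne : ∀ {V U : Subgroup G} {x}, x ∈ V → x ∈ U → x ≠ 1 → V ⊓ U ≠ ⊥ := fun a b c e =>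
    c (eq_one_of_mem_bot e ⟨a, b⟩)
  by_cases k : x ∈ V₁
  · exact h.cent_meet p n s s' (ne hx.1 k x1)
  obtain ⟨c, hc, e⟩ := h.cover p.m0.le s' hx.2 k
  obtain ⟨B₀, s₀⟩ := p.m0
  obtain ⟨a, ha, a1⟩ := exists_mem_ne_one (h.inf_ne p n)
  rw [h.cent_meet p n s (s₀.cj' H hc.2) (ne hx.1 e x1)]
  exact h.cent_meet p n (s₀.cj' H hc.2) s' (ne (cj_of_comm (s'.cent H hc ha.2).symm ▸ conj_mem_cj.2 ha.1) ha.2 a1)

end St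

theorem Cs.cent_le (h : Cs 𝒞 m q) (p : Pn 𝒞 m A V₀ V₁) (n : V₀ ⊔ V₁ ≠ A) : 𝐂 A ≤ A := fun g hg => by
  have H := h.toTIC
  have e := (h.rr p n).1
  obtain ⟨C, s⟩ := p.m1
  have k := h.ct_top e (H := 𝐍 (𝐂 (A ⊔ C))) ⟨H, s.hA, h.nb' s.hA, fun g hg => cj_eq_self.1 (by
      rw [cj_cent, cj_sup, cj_of_norm hg, h.cent_all p n (s.cj' H hg) s]),
    fun ad => h.cent_all p n (h.dl_of_eq e ad) s ▸ le_sup_right.trans ((cent_symm le_rfl).trans (cent_le_norm _))⟩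
  obtain ⟨x, hx, hx'⟩ := h.cent_decomp (.inl e) (h.m4 p n) s hg
  rcases h.ns.eq_or _ ⟨le_top, k.ge⟩ with k | k
  · rwa [← eq_of_inv_mul_eq_one (eq_one_of_mem_bot k hx')]
  · obtain ⟨a, ha, a1⟩ := exists_mem_ne_one (h.nb' s.hA)
    exact absurd (h.cent_inf (h.adj s) ha (k.ge trivial)) a1

end CF.Geom.Tm
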